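import Cfsg.Agent.Lib.RecogFive.Words
import Mathlib.GroupTheory.OrderOfElement
import Mathlib.Tactic

/-!
# Finite groups all of whose element orders are at most five: first facts

`T3 t x` says that the involution `t` and the element `x` of order three generate `A₄`;
`Flips t x` that `t` inverts `x`.  Every other such pair generates `S₄` or `A₅`, and the word
identities of `Words.lean` give a pair `v, w` with `T3 v x` and `Flips w x` from which `t` is
recovered.
-/

set_option autoImplicit false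
set_option linter.unusedSectionVars false
set_option linter.unusedVariables false
set_option linter.style.haveILetI false

namespace Cfsg.Agent.RecogFive

variable {G : Type*} [Group G] {t x v w g : G}

/-- Every element order is at most five. -/
def Spec5 (G : Type*) [Group G] : Prop := ∀ g : G, orderOf g ≤ 5

/-- An involution. -/
structure Inv2 (t : G) : Prop where
  mul_self : t * t = 1
  ne : t ≠ 1

/-- An element of order three. -/
structure El3 (x : G) : Prop where
  cube : x * x * x = 1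
  ne : x ≠ 1

/-- `t` and `x` generate `A₄`. -/
def T3 (t x : G) : Prop := (t * x) ^ 3 = 1

/-- `t` inverts `x`. -/
def Flips (t x : G) : Prop := t * x * t = x⁻¹

namespace Inv2

theorem inv (h : Inv2 t) : t⁻¹ = t := inv_eq_of_mul_eq_one_right h.mul_self

theorem mul_cancel (h : Inv2 t) (g : G) : t * (t * g) = g := by
  rw [← mul_assoc, h.mul_self, one_mul]

theorem orderOf (h : Inv2 t) : orderOf t = 2 := by
  haveI := Fact.mk Nat.prime_two
  exact orderOf_eq_prime (by rw [pow_two, h.mul_self]) h.ne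

theorem conj (h : Inv2 t) (g : G) : Inv2 (g * t * g⁻¹) := by
  refine ⟨?_, fun e => h.ne (conj_eq_one_iff.mp e)⟩
  have e : g * t * g⁻¹ * (g * t * g⁻¹) = g * (t * t) * g⁻¹ := by group
  rw [e, h.mul_self, mul_one, mul_inv_cancel]

theorem of_sq (h1 : t ^ 2 = 1) (h2 : t ≠ 1) : Inv2 t := ⟨by rw [← pow_two, h1], h2⟩

theorem mul_of_commute (ht : Inv2 t) (hv : Inv2 v) (hc : Commute t v) (hne : t ≠ v) :
    Inv2 (t * v) := by
  refine ⟨?_, fun e => hne ?_⟩
  · rw [mul_assoc, ← mul_assoc v t v, ← hc.eq, mul_assoc t v v, hv.mul_self, mul_one, ht.mul_self]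
  · rw [mul_eq_one_iff_eq_inv.mp e, hv.inv]

end Inv2

namespace El3

theorem sq (h : El3 x) : x * x = x⁻¹ := eq_inv_of_mul_eq_one_left h.cube

theorem pow3 (h : El3 x) : x ^ 3 = 1 := by rw [pow_succ, pow_two, h.cube]

theorem of_pow (h1 : x ^ 3 = 1) (h2 : x ≠ 1) : El3 x :=
  ⟨by rwa [pow_succ, pow_two] at h1, h2⟩

theorem orderOf (h : El3 x) : orderOf x = 3 := by
  haveI := Fact.mk Nat.prime_three
  exact orderOf_eq_prime h.pow3 h.ne

theorem of_orderOf (h : _root_.orderOf x = 3) : El3 x :=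
  of_pow (h ▸ pow_orderOf_eq_one x) fun e => by rw [e, orderOf_one] at h; omega

theorem inv (h : El3 x) : El3 x⁻¹ :=
  of_pow (by rw [inv_pow, h.pow3, inv_one]) fun e => h.ne (inv_eq_one.mp e)

theorem conj (h : El3 x) (g : G) : El3 (g * x * g⁻¹) := by
  refine ⟨?_, fun e => h.ne (conj_eq_one_iff.mp e)⟩
  have e : g * x * g⁻¹ * (g * x * g⁻¹) * (g * x * g⁻¹) = g * (x * x * x) * g⁻¹ := by group
  rw [e, h.cube, mul_one, mul_inv_cancel]

theorem inv_ne (h : El3 x) : x⁻¹ ≠ x := fun e => h.ne (mul_eq_left.mp (h.sq.trans e))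

end El3

section Flips

theorem Flips.conj_eq (ht : Inv2 t) (h : Flips t x) : t * x * t⁻¹ = x⁻¹ := by rw [ht.inv]; exact h

theorem flips_iff (ht : Inv2 t) : Flips t x ↔ (t * x) ^ 2 = 1 := by
  rw [Flips, pow_two]
  constructor
  · intro h
    rw [← mul_assoc, h, inv_mul_cancel]
  · intro h
    rw [← mul_assoc] at h
    exact eq_inv_of_mul_eq_one_left h

theorem Flips.inv (ht : Inv2 t) (h : Flips t x) : Flips t x⁻¹ := by
  show t * x⁻¹ * t = x⁻¹⁻¹
  have h' : t * x * t⁻¹ = x⁻¹ := h.conj_eq ht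
  calc t * x⁻¹ * t = t * x⁻¹ * t⁻¹ := by rw [ht.inv]
    _ = (t * x * t⁻¹)⁻¹ := by group
    _ = _ := by rw [h']

end Flips

namespace Spec5

variable [Finite G] (hS : Spec5 G)
include hS

theorem subgroup (H : Subgroup G) : Spec5 H := fun g => by
  rw [← Subgroup.orderOf_coe]; exact hS g

theorem of_surjective {Q : Type*} [Group Q] (f : G →* Q) (hf : Function.Surjective f) :
    Spec5 Q := fun q => by
  obtain ⟨g, rfl⟩ := hf q
  exact le_trans (Nat.le_of_dvd (orderOf_pos g) (orderOf_map_dvd f g)) (hS g)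

theorem no_coprime {a b : G} (hc : Commute a b) (hco : (orderOf a).Coprime (orderOf b))
    (h : 5 < orderOf a * orderOf b) : False := by
  have := hS (a * b)
  rw [hc.orderOf_mul_eq_mul_orderOf_of_coprime hco] at this
  omega

theorem pow_cases (g : G) : g ^ 3 = 1 ∨ g ^ 4 = 1 ∨ g ^ 5 = 1 := by
  have h1 := hS g
  have h2 := orderOf_pos g
  have h3 : ∀ n : ℕ, orderOf g ∣ n → g ^ n = 1 := fun n hn => orderOf_dvd_iff_pow_eq_one.mp hn
  rcases (by omega : orderOf g = 1 ∨ orderOf g = 2 ∨ orderOf g = 3 ∨ orderOf g = 4 ∨ orderOf g = 5)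
    with e | e | e | e | e
  · exact Or.inl (h3 _ (e ▸ one_dvd _))
  · exact Or.inr (Or.inl (h3 _ (e ▸ by norm_num)))
  · exact Or.inl (h3 _ (e ▸ dvd_rfl))
  · exact Or.inr (Or.inl (h3 _ (e ▸ dvd_rfl)))
  · exact Or.inr (Or.inr (h3 _ (e ▸ dvd_rfl)))

theorem not_commute (ht : Inv2 t) (hx : El3 x) : ¬ Commute t x := fun hc =>
  hS.no_coprime hc (by rw [ht.orderOf, hx.orderOf]; norm_num) (by rw [ht.orderOf, hx.orderOf]; norm_num)

theorem not_commute_five {y : G} (h5 : y ^ 5 = 1) (hy : y ≠ 1) {a : G}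
    (ha : orderOf a = 2 ∨ orderOf a = 3) : ¬ Commute a y := by
  haveI := Fact.mk Nat.prime_five
  have h : orderOf y = 5 := orderOf_eq_prime h5 hy
  intro hc
  rcases ha with e | e <;>
    exact hS.no_coprime hc (by rw [e, h]; norm_num) (by rw [e, h]; norm_num)

/-- Centralisers of elements of order three have exponent three. -/
theorem cent3 (hx : El3 x) (hc : Commute g x) : g ^ 3 = 1 := by
  rcases hS.pow_cases g with h | h | h
  · exact h
  · have h2 : g ^ 2 = 1 := by
      by_contra hne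
      exact hS.not_commute (Inv2.of_sq (by rw [← pow_mul]; exact h) hne) hx (hc.pow_left 2)
    by_cases h1 : g = 1
    · rw [h1, one_pow]
    · exact absurd hc (hS.not_commute (Inv2.of_sq h2 h1) hx)
  · by_cases h1 : g = 1
    · rw [h1, one_pow]
    · exact absurd hc.symm (hS.not_commute_five h h1 (Or.inr hx.orderOf))

/-- Centralisers of involutions have exponent four. -/
theorem cent2 (ht : Inv2 t) (hc : Commute g t) : g ^ 4 = 1 := by
  rcases hS.pow_cases g with h | h | h
  · by_cases h1 : g = 1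
    · rw [h1, one_pow]
    · exact absurd hc.symm (hS.not_commute ht (El3.of_pow h h1))
  · exact h
  · by_cases h1 : g = 1
    · rw [h1, one_pow]
    · exact absurd hc.symm (hS.not_commute_five h h1 (Or.inl ht.orderOf))

/-- An element inverting an element of order three is an involution. -/
theorem inv2_of_flip (hx : El3 x) (h : g * x * g⁻¹ = x⁻¹) : Inv2 g := by
  have hne : g ≠ 1 := fun e => hx.inv_ne (by simpa [e] using h.symm)
  have h2 : Commute (g * g) x := by
    refine mul_inv_eq_iff_eq_mul.mp ?_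
    calc g * g * x * (g * g)⁻¹ = g * (g * x * g⁻¹) * g⁻¹ := by group
      _ = g * x⁻¹ * g⁻¹ := by rw [h]
      _ = (g * x * g⁻¹)⁻¹ := by group
      _ = x := by rw [h, inv_inv]
  have h6 : g ^ 6 = 1 := by
    have := hS.cent3 hx h2
    rwa [← pow_two, ← pow_mul] at this
  refine Inv2.of_sq ?_ hne
  by_contra h22
  have hg3 : g ^ 3 = 1 := by
    rcases hS.pow_cases g with e | e | e
    · exact e
    · exact absurd (by
        have : g ^ 2 = g ^ 6 * (g ^ 4)⁻¹ := by group
        rw [this, h6, e, inv_one, one_mul]) h22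
    · refine absurd (?_ : g = 1) hne
      have : g = g ^ 6 * (g ^ 5)⁻¹ := by group
      rw [this, h6, e, inv_one, one_mul]
  apply hx.inv_ne
  have hgx : Commute g x := by
    have : g = (g * g) * (g * g) := by
      calc g = g ^ 3 * g := by rw [hg3, one_mul]
        _ = _ := by simp only [pow_succ, pow_zero, one_mul, mul_assoc]
    rw [this]; exact h2.mul_left h2
  rw [← h, hgx.eq, mul_inv_cancel_right]

end Spec5

section T3

variable [Finite G] (hS : Spec5 G)

theorem T3.commute (ht : Inv2 t) (hx : El3 x) (h : T3 t x) : Commute t (x * t * x⁻¹) := by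
  have h1 : t * (x * t * x⁻¹) * (x⁻¹ * t * x) = 1 := by
    rw [← hx.sq]
    have h' : t * x * (t * x) * (t * x) = 1 := by rwa [T3, pow_succ, pow_two] at h
    calc t * (x * t * (x * x)) * (x * x * t * x)
        = t * x * t * (x * x * x) * x * t * x := by group
      _ = t * x * (t * x) * (t * x) := by rw [hx.cube]; group
      _ = 1 := h'
  have h2 : Inv2 (x⁻¹ * t * x) := by simpa using ht.conj x⁻¹
  have h3 : t * (x * t * x⁻¹) = x⁻¹ * t * x := by
    rw [eq_inv_of_mul_eq_one_left h1, h2.inv]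
  show t * (x * t * x⁻¹) = x * t * x⁻¹ * t
  have h4 : (t * (x * t * x⁻¹))⁻¹ = t * (x * t * x⁻¹) := by rw [h3, h2.inv]
  calc t * (x * t * x⁻¹) = (t * (x * t * x⁻¹))⁻¹ := h4.symm
    _ = x * t * x⁻¹ * t := by rw [mul_inv_rev, (ht.conj x).inv, ht.inv]

/-- `(t, x)` generating `A₄`: the third involution. -/
theorem T3.third (ht : Inv2 t) (hx : El3 x) (h : T3 t x) :
    t * (x * t * x⁻¹) = x⁻¹ * t * x := by
  have h1 : t * (x * t * x⁻¹) * (x⁻¹ * t * x) = 1 := by
    rw [← hx.sq]
    have h' : t * x * (t * x) * (t * x) = 1 := by rwa [T3, pow_succ, pow_two] at h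
    calc t * (x * t * (x * x)) * (x * x * t * x)
        = t * x * t * (x * x * x) * x * t * x := by group
      _ = t * x * (t * x) * (t * x) := by rw [hx.cube]; group
      _ = 1 := h'
  have h2 : Inv2 (x⁻¹ * t * x) := by simpa using ht.conj x⁻¹
  rw [eq_inv_of_mul_eq_one_left h1, h2.inv]

theorem T3.not_flips (ht : Inv2 t) (hx : El3 x) (h : T3 t x) : ¬ Flips t x := fun hf => by
  have h2 := (flips_iff ht).mp hf
  have h1 : t * x = 1 := by rwa [T3, pow_succ, h2, one_mul] at h
  refine ht.ne ?_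
  have ht3 : t ^ 3 = 1 := by rw [mul_eq_one_iff_eq_inv.mp h1, inv_pow, hx.pow3, inv_one]
  calc t = t ^ 3 * ((t * t))⁻¹ := by group
    _ = 1 := by rw [ht3, ht.mul_self, inv_one, one_mul]

theorem comm_pow4 (ht : Inv2 t) (hx : El3 x) (hn : (t * x) ^ 4 = 1) :
    (t * (x * t * x⁻¹)) ^ 3 = 1 := by
  rw [← hx.sq]
  simpa only [pow_succ, pow_zero, one_mul, mul_one, mul_assoc] using
    Word.comm4 ht.mul_self hx.cube hn 1

theorem comm_pow5 (ht : Inv2 t) (hx : El3 x) (hn : (t * x) ^ 5 = 1) :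
    (t * (x * t * x⁻¹)) ^ 5 = 1 := by
  rw [← hx.sq]
  simpa only [pow_succ, pow_zero, one_mul, mul_one, mul_assoc] using
    Word.comm5 ht.mul_self hx.cube hn 1

include hS in
/-- Key fact: the commutator `t · xtx⁻¹` never has order four. -/
theorem comm_pow (ht : Inv2 t) (hx : El3 x) :
    T3 t x ∨ (t * (x * t * x⁻¹)) ^ 15 = 1 := by
  rcases hS.pow_cases (t * x) with h | h | h
  · exact Or.inl h
  · right; rw [show 15 = 3 * 5 from rfl, pow_mul, comm_pow4 ht hx h, one_pow]
  · right; rw [show 15 = 5 * 3 from rfl, pow_mul, comm_pow5 ht hx h, one_pow]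

include hS in
theorem t3_of_commute (ht : Inv2 t) (hx : El3 x) (hc : Commute t (x * t * x⁻¹)) : T3 t x := by
  rcases comm_pow hS ht hx with h | h
  · exact h
  · exfalso
    have h2 : (t * (x * t * x⁻¹)) ^ 2 = 1 := by
      rw [hc.mul_pow, pow_two, pow_two, ht.mul_self, (ht.conj x).mul_self, one_mul]
    have h1 : t * (x * t * x⁻¹) = 1 := by
      calc t * (x * t * x⁻¹) = (t * (x * t * x⁻¹)) ^ 15 * (((t * (x * t * x⁻¹)) ^ 2) ^ 7)⁻¹ := by
            group
        _ = 1 := by rw [h, h2, one_pow, inv_one, one_mul]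
    refine hS.not_commute ht hx ?_
    have := mul_eq_one_iff_eq_inv.mp h1
    rw [(ht.conj x).inv] at this
    exact mul_inv_eq_iff_eq_mul.mp this.symm |>.symm

include hS in
theorem t3_iff (ht : Inv2 t) (hx : El3 x) : T3 t x ↔ Commute t (x * t * x⁻¹) :=
  ⟨T3.commute ht hx, t3_of_commute hS ht hx⟩

theorem t3_conj (g : G) : T3 (g * t * g⁻¹) (g * x * g⁻¹) ↔ T3 t x := by
  rw [T3, T3, show g * t * g⁻¹ * (g * x * g⁻¹) = g * (t * x) * g⁻¹ by group, conj_pow,
    conj_eq_one_iff]

theorem flips_conj (g : G) : Flips (g * t * g⁻¹) (g * x * g⁻¹) ↔ Flips t x := by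
  rw [Flips, Flips, show g * t * g⁻¹ * (g * x * g⁻¹) * (g * t * g⁻¹) = g * (t * x * t) * g⁻¹ by
    group, show (g * x * g⁻¹)⁻¹ = g * x⁻¹ * g⁻¹ by group]
  exact ⟨fun h => mul_left_cancel (mul_right_cancel h), fun h => by rw [h]⟩

include hS in
theorem T3.inv (ht : Inv2 t) (hx : El3 x) (h : T3 t x) : T3 t x⁻¹ := by
  refine t3_of_commute hS ht hx.inv ?_
  rw [inv_inv]
  have hc := (T3.commute ht hx h).eq
  show t * (x⁻¹ * t * x) = x⁻¹ * t * x * t
  calc t * (x⁻¹ * t * x) = x⁻¹ * (x * t * x⁻¹ * t) * x := by group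
    _ = x⁻¹ * (t * (x * t * x⁻¹)) * x := by rw [hc]
    _ = _ := by group

end T3

section Types

variable [Finite G] (hS : Spec5 G)

/-- The data attached to a pair generating `S₄`. -/
theorem type4_data (ht : Inv2 t) (hx : El3 x) (hn : (t * x) ^ 4 = 1) (hf : ¬ Flips t x) :
    ∃ v w : G, Inv2 v ∧ T3 v x ∧ Inv2 w ∧ Flips w x ∧ Commute v w ∧ t = v * w := by
  have E := fun {P : Prop} (h : (t * t = 1 → x * x * x = 1 → (t * x) ^ 4 = 1 → P)) =>
    h ht.mul_self hx.cube hn
  refine ⟨x * t * x⁻¹ * t * x, x * t * x * t * (x * t * x)⁻¹, ⟨?_, fun e => hf ?_⟩, ?_,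
    ht.conj _, ?_, ?_, ?_⟩
  · rw [← hx.sq]
    simpa only [mul_one, mul_assoc] using E Word.vv4 1
  · have e1 : t * x⁻¹ * t * x * x = 1 := by
      calc t * x⁻¹ * t * x * x = x⁻¹ * (x * t * x⁻¹ * t * x) * x := by group
        _ = 1 := by rw [e, mul_one, inv_mul_cancel]
    have e2 : t * x⁻¹ * t = x := by
      rw [mul_assoc _ x x, hx.sq, mul_inv_eq_one] at e1
      exact e1
    show t * x * t = x⁻¹
    calc t * x * t = t⁻¹ * (x⁻¹)⁻¹ * t⁻¹ := by rw [ht.inv, inv_inv]
      _ = (t * x⁻¹ * t)⁻¹ := by group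
      _ = x⁻¹ := by rw [e2]
  · rw [T3, ← hx.sq]
    simpa only [pow_succ, pow_zero, one_mul, mul_one, mul_assoc] using E Word.vx4 1
  · rw [flips_iff (ht.conj _), pow_two, mul_inv_rev, mul_inv_rev, ht.inv, ← hx.sq]
    simpa only [mul_one, mul_assoc] using E Word.wx4 1
  · have h1 : (x * t * x⁻¹ * t * x * (x * t * x * t * (x * t * x)⁻¹)) ^ 2 = 1 := by
      rw [mul_inv_rev, mul_inv_rev, ht.inv, ← hx.sq]
      simpa only [pow_succ, pow_zero, one_mul, mul_one, mul_assoc] using E Word.vw4 1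
    have hv : (x * t * x⁻¹ * t * x)⁻¹ = x * t * x⁻¹ * t * x :=
      inv_eq_of_mul_eq_one_right (by rw [← hx.sq]; simpa only [mul_one, mul_assoc] using E Word.vv4 1)
    show _ = _
    calc _ = (x * t * x⁻¹ * t * x * (x * t * x * t * (x * t * x)⁻¹))⁻¹ :=
          eq_inv_of_mul_eq_one_left (by rw [← pow_two]; exact h1)
      _ = _ := by rw [mul_inv_rev, hv, (ht.conj _).inv]
  · rw [mul_inv_rev, mul_inv_rev, ht.inv, ← hx.sq]
    simpa only [mul_one, mul_assoc] using (E Word.eq4 1).symm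

/-- The data attached to a pair generating `A₅`. -/
theorem type5_data (ht : Inv2 t) (hx : El3 x) (hn : (t * x) ^ 5 = 1) :
    ∃ v w : G, Inv2 v ∧ T3 v x ∧ Inv2 w ∧ Flips w x ∧ (v * w) ^ 3 = 1 ∧ t = v * (w * x) * v := by
  have E := fun {P : Prop} (h : (t * t = 1 → x * x * x = 1 → (t * x) ^ 5 = 1 → P)) =>
    h ht.mul_self hx.cube hn
  refine ⟨t * x * t * (t * x)⁻¹, t * x⁻¹ * t * x * t * (t * x⁻¹ * t * x)⁻¹, ht.conj _, ?_,
    ht.conj _, ?_, ?_, ?_⟩
  · rw [T3, mul_inv_rev, ht.inv, ← hx.sq]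
    simpa only [pow_succ, pow_zero, one_mul, mul_one, mul_assoc] using E Word.vx5 1
  · rw [flips_iff (ht.conj _), pow_two]
    simp only [mul_inv_rev, inv_inv, ht.inv]
    rw [← hx.sq]
    simpa only [mul_one, mul_assoc] using E Word.wx5 1
  · simp only [mul_inv_rev, inv_inv, ht.inv]
    rw [← hx.sq]
    simpa only [pow_succ, pow_zero, one_mul, mul_one, mul_assoc] using E Word.vw5 1
  · simp only [mul_inv_rev, inv_inv, ht.inv]
    rw [← hx.sq]
    simpa only [mul_one, mul_assoc] using (E Word.eq5 1).symm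

include hS in
/-- Every pair is of one of the four types. -/
theorem pair_cases (ht : Inv2 t) (hx : El3 x) :
    Flips t x ∨ T3 t x ∨
      (∃ v w : G, Inv2 v ∧ T3 v x ∧ Inv2 w ∧ Flips w x ∧ Commute v w ∧ t = v * w) ∨
      ∃ v w : G, Inv2 v ∧ T3 v x ∧ Inv2 w ∧ Flips w x ∧ (v * w) ^ 3 = 1 ∧ t = v * (w * x) * v := by
  by_cases hf : Flips t x
  · exact Or.inl hf
  rcases hS.pow_cases (t * x) with h | h | h
  · exact Or.inr (Or.inl h)
  · exact Or.inr (Or.inr (Or.inl (type4_data ht hx h hf)))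
  · exact Or.inr (Or.inr (Or.inr (type5_data ht hx h)))

/-- If `w` commutes with `v` then `v · x^±w` does not have order three. -/
theorem not_mixed (hv : Inv2 v) (hx : El3 x) (hvx : T3 v x) (hw : Inv2 w) (hwx : Flips w x)
    (hc : Commute v w) {y : G} (hy : y = x ∨ y = x⁻¹) (hS : Spec5 G) (h : (v * (y * w)) ^ 3 = 1) :
    False := by
  have hy3 : El3 y := by rcases hy with rfl | rfl; exacts [hx, hx.inv]
  have hvy : T3 v y := by rcases hy with rfl | rfl; exacts [hvx, hvx.inv hS hv hx]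
  have hwy : Flips w y := by rcases hy with rfl | rfl; exacts [hwx, hwx.inv hw]
  have hwy' : w * y * w = y⁻¹ := hwy
  have h2 : (v * (y * w)) ^ 2 = y⁻¹ * v * y := by
    rw [pow_two]
    calc v * (y * w) * (v * (y * w)) = v * y * (w * v) * y * w := by group
      _ = v * y * (v * w) * y * w := by rw [hc.eq]
      _ = v * (y * v * (w * y * w)) := by group
      _ = v * (y * v * y⁻¹) := by rw [hwy']
      _ = _ := T3.third hv hy3 hvy
  have h3 : Inv2 (y⁻¹ * v * y) := by simpa using hv.conj y⁻¹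
  apply h3.ne
  rw [← h2]
  have h4 : ((v * (y * w)) ^ 2) ^ 2 = 1 := by rw [h2, pow_two, h3.mul_self]
  calc (v * (y * w)) ^ 2 = ((v * (y * w)) ^ 3) ^ 2 * (((v * (y * w)) ^ 2) ^ 2)⁻¹ := by group
    _ = 1 := by rw [h, h4, one_pow, inv_one, one_mul]

/-- In a coset of inverting involutions at most one `w` has `(vw)³ = 1`. -/
theorem not_double5 (hv : Inv2 v) (hx : El3 x) (hvx : T3 v x) (hw : Inv2 w) (hwx : Flips w x)
    (h1 : (v * w) ^ 3 = 1) {y : G} (hy : y = x ∨ y = x⁻¹) (hS : Spec5 G)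
    (h2 : (v * (y * w)) ^ 3 = 1) : False := by
  have hy3 : El3 y := by rcases hy with rfl | rfl; exacts [hx, hx.inv]
  have hvy : T3 v y := by rcases hy with rfl | rfl; exacts [hvx, hvx.inv hS hv hx]
  have hwy : w * y * w = y⁻¹ := by rcases hy with rfl | rfl; exacts [hwx, hwx.inv hw]
  have braid : ∀ {a : G}, Inv2 a → (v * a) ^ 3 = 1 → v * a * v = a * v * a := by
    intro a ha h
    have h' : v * a * v * (a * v * a) = 1 := by
      rw [pow_succ, pow_two] at h; rw [← h]; group
    rw [eq_inv_of_mul_eq_one_left h', mul_inv_rev, mul_inv_rev, ha.inv, hv.inv]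
    group
  have hwi : Inv2 (y * w) := by
    refine ⟨?_, fun e => ?_⟩
    · calc y * w * (y * w) = y * (w * y * w) := by group
        _ = 1 := by rw [hwy, mul_inv_cancel]
    · have hww := hw.mul_self
      rw [← inv_eq_of_mul_eq_one_right e, ← mul_inv_rev, hy3.sq, inv_inv] at hww
      exact hy3.ne hww
  set v' := w * v * w with hv'
  have hv'i : Inv2 v' := by simpa [hw.inv] using hv.conj w
  have e1 : y * v' * y⁻¹ = v * (y * v) * v * w * v := by
    calc y * v' * y⁻¹ = y * w * v * (w * y⁻¹) := by rw [hv']; group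
      _ = y * w * v * (y * w) := by
          congr 1
          rw [← hwy, ← mul_assoc, ← mul_assoc, hw.mul_self, one_mul]
      _ = v * (y * w) * v := (braid hwi h2).symm
      _ = v * (y * (v * v) * w) * v := by rw [hv.mul_self, mul_one]
      _ = _ := by group
  have e2 : v * (y * v) * v * w * v = v * (y * v) * v' := by
    rw [hv', ← braid hw h1]; group
  set u := v * (y * v * y⁻¹) with hu
  have hui : Inv2 u := by
    rw [hu, T3.third hv hy3 hvy]; simpa using hv.conj y⁻¹
  have e3 : v' * y⁻¹ * v' = y⁻¹ * u * y := by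
    have h := e1.trans e2
    have h' : v * (y * v) = y * v' * y⁻¹ * v' := by
      rw [h, mul_assoc, hv'i.mul_self, mul_one]
    calc v' * y⁻¹ * v' = y⁻¹ * (y * v' * y⁻¹ * v') := by group
      _ = y⁻¹ * (v * (y * v)) := by rw [h']
      _ = _ := by rw [hu]; group
  have hi : Inv2 (y⁻¹ * u * y) := by simpa using hui.conj y⁻¹
  have hh := hi.mul_self
  rw [← e3] at hh
  have : y⁻¹ * y⁻¹ = 1 := by
    calc y⁻¹ * y⁻¹ = v' * (v' * y⁻¹ * (v' * v') * y⁻¹ * v') * v' := by
          rw [hv'i.mul_self]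
          calc y⁻¹ * y⁻¹ = (v' * v') * (y⁻¹ * 1 * y⁻¹) * (v' * v') := by
                rw [hv'i.mul_self]; group
            _ = _ := by group
      _ = v' * ((v' * y⁻¹ * v') * (v' * y⁻¹ * v')) * v' := by group
      _ = 1 := by rw [hh, mul_one, hv'i.mul_self]
  rw [hy3.inv.sq, inv_inv] at this
  exact hy3.ne this

end Types

end Cfsg.Agent.RecogFive
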