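import Cfsg.Agent.Lib.RecogFive.Strong

/-!
# Counting pairs of an involution and an element of order three

For fixed `x` every involution not inverting `x` is obtained from a pair `(v, w)` with `T3 v x` and
`w` inverting `x`; for a fixed involution at most one line of `C x` has type three.  Comparing the
two counts gives `|C x| = 9`, and then everything is extremal: one class of involutions.
-/

set_option autoImplicit false
set_option linter.unusedSectionVars false
set_option linter.style.haveILetI false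

namespace Cfsg.Agent.RecogFive

open Subgroup

variable {G : Type*} [Group G] {x y z t v w : G}

/-- The involutions of the group. -/
def Invs (G : Type*) [Group G] : Set G := {t | Inv2 t}

/-- The involutions not inverting `x`. -/
def NI (x : G) : Set G := {t | Inv2 t ∧ ¬ Flips t x}

/-- The involutions of type three for `x`. -/
def TT (x : G) : Set G := {t | Inv2 t ∧ T3 t x}

theorem ncard_setOf_eq [Fintype G] (p : G → Prop) [DecidablePred p] :
    {g : G | p g}.ncard = (Finset.univ.filter p).card := by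
  rw [← Set.ncard_coe_finset]
  congr 1
  ext g
  simp

variable [Finite G]

theorem TT_subset (hx : El3 x) : TT x ⊆ NI x := fun _ ht => ⟨ht.1, T3.not_flips ht.1 hx ht.2⟩

theorem card_invs_split (x : G) : (Invs G).ncard = (Iv x).ncard + (NI x).ncard := by
  rw [← Set.ncard_union_eq]
  · congr 1
    ext t
    constructor
    · intro ht
      by_cases h : Flips t x
      exacts [Or.inl ⟨ht, h⟩, Or.inr ⟨ht, h⟩]
    · rintro (h | h) <;> exact h.1
  · exact Set.disjoint_left.mpr fun t h1 h2 => h2.2 h1.2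

namespace Hyp

variable (H : Hyp G)
include H

/-- An involution is of type three for at most one line of a centraliser. -/
theorem t3_line (ht : Inv2 t) (hy : El3 y) (hz : El3 z) (hc : Commute y z) (h1 : T3 t y)
    (h2 : T3 t z) : z = y ∨ z = y⁻¹ := by
  by_contra hcon
  push Not at hcon
  let K : Subgroup G :=
    { carrier := {h | h ∈ C y ∧ Commute t (h * t * h⁻¹)}
      one_mem' := ⟨one_mem _, by simp⟩
      inv_mem' := by
        rintro h ⟨hC, hh⟩
        refine ⟨inv_mem hC, ?_⟩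
        have := (hh.map (MulAut.conj h⁻¹)).eq
        simp only [MulAut.conj_apply] at this
        rw [show h⁻¹ * (h * t * h⁻¹) * h⁻¹⁻¹ = t by group] at this
        exact this.symm
      mul_mem' := by
        rintro h k ⟨hhC, hh⟩ ⟨hkC, hk⟩
        refine ⟨mul_mem hhC hkC, ?_⟩
        by_cases hu1 : h * k = 1
        · simp [hu1]
        have hu := el3_of_mem_C H.spec hy (mul_mem hhC hkC) hu1
        rcases comm_pow H.spec ht hu with h3 | h15
        · exact T3.commute ht hu h3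
        exfalso
        have ha : Commute (h⁻¹ * t * h) t := by
          have := (hh.map (MulAut.conj h⁻¹)).eq
          simp only [MulAut.conj_apply] at this
          rw [show h⁻¹ * (h * t * h⁻¹) * h⁻¹⁻¹ = t by group,
            show h⁻¹ * t * h⁻¹⁻¹ = h⁻¹ * t * h by group] at this
          exact this
        have h4 : (h⁻¹ * t * h * (k * t * k⁻¹)) ^ 4 = 1 :=
          H.spec.cent2 ht (ha.mul_left hk.symm)
        have h4' : (t * (h * k * t * (h * k)⁻¹)) ^ 4 = 1 := by
          rw [show t * (h * k * t * (h * k)⁻¹) = h * (h⁻¹ * t * h * (k * t * k⁻¹)) * h⁻¹ by group,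
            conj_pow, h4, mul_one, mul_inv_cancel]
        have h0 : t * (h * k * t * (h * k)⁻¹) = 1 := by
          calc t * (h * k * t * (h * k)⁻¹)
              = ((t * (h * k * t * (h * k)⁻¹)) ^ 4) ^ 4 *
                  ((t * (h * k * t * (h * k)⁻¹)) ^ 15)⁻¹ := by group
            _ = 1 := by rw [h4', h15, one_pow, inv_one, one_mul]
        refine H.spec.not_commute ht hu ?_
        have h' := (inv_eq_of_mul_eq_one_right h0).symm
        rw [ht.inv, mul_inv_eq_iff_eq_mul] at h'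
        exact h'.symm }
  exact conj_abelian H.spec ht hy hz hc hcon.1 hcon.2 (H := K)
    ⟨self_mem_C y, T3.commute ht hy h1⟩ ⟨mem_C.mpr hc.symm, T3.commute ht hz h2⟩
    fun h hh => hh.2

theorem flips_iff_of_mem (hx : El3 x) (hy : y ∈ C x) (hy1 : y ≠ 1) (ht : Inv2 t) :
    Flips t y ↔ Flips t x := by
  have hy3 := el3_of_mem_C H.spec hx hy hy1
  exact ⟨fun h => flips_C H.spec ht hy3 h (mem_C.mpr (mem_C.mp hy).symm),
    fun h => flips_C H.spec ht hx h hy⟩

theorem Iv_eq_of_mem (hx : El3 x) (hy : y ∈ C x) (hy1 : y ≠ 1) : Iv y = Iv x := by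
  ext t
  exact ⟨fun h => ⟨h.1, (H.flips_iff_of_mem hx hy hy1 h.1).mp h.2⟩,
    fun h => ⟨h.1, (H.flips_iff_of_mem hx hy hy1 h.1).mpr h.2⟩⟩

theorem NI_eq_of_mem (hx : El3 x) (hy : y ∈ C x) (hy1 : y ≠ 1) : NI y = NI x := by
  ext t
  exact ⟨fun h => ⟨h.1, fun h' => h.2 ((H.flips_iff_of_mem hx hy hy1 h.1).mpr h')⟩,
    fun h => ⟨h.1, fun h' => h.2 ((H.flips_iff_of_mem hx hy hy1 h.1).mp h')⟩⟩

omit H in
/-- What the pair `(v, w)` has to satisfy to describe `t`. -/
def Descr (x t v w : G) : Prop :=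
  v ∈ TT x ∧ w ∈ Iv x ∧
    ((Commute v w ∧ t = v * w) ∨ ((v * w) ^ 3 = 1 ∧ t = v * (w * x) * v))

theorem exists_descr (hx : El3 x) (ht : t ∈ NI x \ TT x) : ∃ v w, Descr x t v w := by
  obtain ⟨⟨ht, hnf⟩, hn3⟩ := ht
  rcases pair_cases H.spec ht hx with h | h | ⟨v, w, hv, hvx, hw, hf, hc, he⟩ |
    ⟨v, w, hv, hvx, hw, hf, hc, he⟩
  · exact absurd h hnf
  · exact absurd ⟨ht, h⟩ hn3
  · exact ⟨v, w, ⟨hv, hvx⟩, ⟨hw, hf⟩, Or.inl ⟨hc, he⟩⟩
  · exact ⟨v, w, ⟨hv, hvx⟩, ⟨hw, hf⟩, Or.inr ⟨hc, he⟩⟩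

/-- Two descriptions using the same `v` and the same coset of `⟨x⟩` agree. -/
theorem descr_unique (hx : El3 x) {t' w' : G} (h : Descr x t v w) (h' : Descr x t' v w')
    (hy : y = 1 ∨ y = x ∨ y = x⁻¹) (he : w' = y * w) : t = t' ∧ w' = w := by
  obtain ⟨⟨hv, hvx⟩, ⟨hw, hf⟩, h⟩ := h
  obtain ⟨-, ⟨hw', hf'⟩, h'⟩ := h'
  by_cases hy1 : y = 1
  · rw [hy1, one_mul] at he
    subst he
    refine ⟨?_, rfl⟩
    rcases h with ⟨hc, rfl⟩ | ⟨h3, rfl⟩ <;> rcases h' with ⟨hc', rfl⟩ | ⟨h3', rfl⟩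
    · rfl
    · exfalso
      refine T3.not_flips hv hx hvx ?_
      have h2 : (v * w') ^ 2 = 1 := by
        rw [hc.mul_pow, pow_two, pow_two, hv.mul_self, hw'.mul_self, one_mul]
      have h1 : v * w' = 1 := by rwa [pow_succ, h2, one_mul] at h3'
      rwa [mul_eq_one_iff_eq_inv.mp h1, hw'.inv]
    · exfalso
      refine T3.not_flips hv hx hvx ?_
      have h2 : (v * w') ^ 2 = 1 := by
        rw [hc'.mul_pow, pow_two, pow_two, hv.mul_self, hw'.mul_self, one_mul]
      have h1 : v * w' = 1 := by rwa [pow_succ, h2, one_mul] at h3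
      rwa [mul_eq_one_iff_eq_inv.mp h1, hw'.inv]
    · rfl
  exfalso
  have hy' : y = x ∨ y = x⁻¹ := hy.resolve_left hy1
  have hyi : y⁻¹ = x ∨ y⁻¹ = x⁻¹ := by
    rcases hy' with rfl | rfl
    exacts [Or.inr rfl, Or.inl (inv_inv x)]
  have hw'' : w = y⁻¹ * w' := by rw [he, inv_mul_cancel_left]
  rcases h with ⟨hc, rfl⟩ | ⟨h3, rfl⟩ <;> rcases h' with ⟨hc', rfl⟩ | ⟨h3', rfl⟩
  · have hvy : Commute v y := by
      have := hc'.mul_right hc
      rwa [he, mul_assoc, hw.mul_self, mul_one] at this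
    rcases hy' with rfl | rfl
    · exact H.spec.not_commute hv hx hvy
    · exact H.spec.not_commute hv hx.inv hvy
  · exact not_mixed hv hx hvx hw hf hc hy' H.spec (he ▸ h3')
  · exact not_mixed hv hx hvx hw' hf' hc' hyi H.spec (hw'' ▸ h3)
  · exact not_double5 hv hx hvx hw hf h3 hy' H.spec (he ▸ h3')

/-- The map behind the first count. -/
theorem exists_injection (hx : El3 x) :
    ∃ f : ↥(NI x \ TT x) × Fin 3 → ↥(TT x) × ↥(Iv x), Function.Injective f ∧
      ∀ p, ∃ w, Descr x (p.1 : G) ((f p).1 : G) w ∧ ((f p).2 : G) = x ^ (p.2 : ℕ) * w := by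
  choose v w hvw using fun t : ↥(NI x \ TT x) => H.exists_descr hx t.2
  refine ⟨fun p => (⟨v p.1, (hvw p.1).1⟩, ⟨x ^ (p.2 : ℕ) * w p.1,
    H.Iv_mul hx (hvw p.1).2.1 (pow_mem (self_mem_C x) _)⟩), ?_, fun p => ⟨w p.1, hvw p.1, rfl⟩⟩
  rintro ⟨t, j⟩ ⟨t', k⟩ he
  simp only [Prod.mk.injEq, Subtype.mk.injEq] at he
  obtain ⟨hv, hw⟩ := he
  have hy : (x ^ (k : ℕ))⁻¹ * x ^ (j : ℕ) = 1 ∨ (x ^ (k : ℕ))⁻¹ * x ^ (j : ℕ) = x ∨
      (x ^ (k : ℕ))⁻¹ * x ^ (j : ℕ) = x⁻¹ := by
    have hxi : x⁻¹ * x⁻¹ = x := by rw [hx.inv.sq, inv_inv]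
    fin_cases j <;> fin_cases k <;> simp [pow_two, hx.sq, hxi]
  have hw' : w t' = (x ^ (k : ℕ))⁻¹ * x ^ (j : ℕ) * w t := by
    rw [mul_assoc, hw, inv_mul_cancel_left]
  obtain ⟨htt, hww⟩ := H.descr_unique hx (hvw t) (hv ▸ hvw t') hy hw'
  have : t = t' := Subtype.ext htt
  subst this
  have hjk : x ^ (j : ℕ) = x ^ (k : ℕ) := mul_right_cancel hw
  have hjk' : (j : ℕ) = (k : ℕ) :=
    pow_injOn_Iio_orderOf (by rw [Set.mem_Iio, hx.orderOf]; exact j.2)
      (by rw [Set.mem_Iio, hx.orderOf]; exact k.2) hjk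
  rw [Fin.ext hjk']

theorem count_le (hx : El3 x) :
    3 * (NI x).ncard ≤ (3 + Nat.card (C x)) * (TT x).ncard := by
  obtain ⟨f, hf, -⟩ := H.exists_injection hx
  have := Nat.card_le_card_of_injective f hf
  rw [Nat.card_prod, Nat.card_prod, Nat.card_coe_set_eq, Nat.card_coe_set_eq,
    Nat.card_coe_set_eq, Nat.card_fin, H.card_Iv hx] at this
  have hsub := Set.ncard_sdiff_add_ncard_of_subset (TT_subset hx) (Set.toFinite _)
  rw [← hsub, add_mul]
  nlinarith

theorem NI_nonempty (hx : El3 x) : (NI x).Nonempty := by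
  classical
  haveI := Fact.mk Nat.prime_five
  by_contra hne
  rw [Set.not_nonempty_iff_eq_empty] at hne
  obtain ⟨y, hy⟩ := exists_prime_orderOf_dvd_card' 5 H.five
  have hIv : ∀ t : G, Inv2 t → t ∈ Iv x := by
    intro t ht
    refine ⟨ht, ?_⟩
    by_contra h
    have : t ∈ NI x := ⟨ht, h⟩
    rw [hne] at this
    exact this
  let Y : Subgroup (ConjAct G) := zpowers (ConjAct.toConjAct y)
  have hYp : IsPGroup 5 Y := IsPGroup.of_card (n := 1) (by
    rw [pow_one, Nat.card_zpowers, MulEquiv.orderOf_eq ConjAct.toConjAct, hy])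
  let S : SubMulAction Y G :=
    { carrier := Iv x
      smul_mem' := fun g t ht => by
        show (g : ConjAct G) • t ∈ Iv x
        rw [ConjAct.smul_def]
        exact hIv _ (ht.1.conj _) }
  have hcard : Nat.card S = Nat.card (C x) := by
    rw [← H.card_Iv hx, ← Nat.card_coe_set_eq]; rfl
  haveI := Fact.mk Nat.prime_three
  obtain ⟨k, hk⟩ := (isPGroup_C H.spec hx).exists_card_eq
  have hmod := hYp.card_modEq_card_fixedPoints S
  have h5 : ¬ 5 ∣ Nat.card S := by
    rw [hcard, hk]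
    intro h
    have := (Nat.prime_five.dvd_of_dvd_pow h)
    norm_num at this
  have hfix : Nat.card (MulAction.fixedPoints Y S) ≠ 0 := by
    intro h0
    rw [h0] at hmod
    exact h5 (Nat.modEq_zero_iff_dvd.mp hmod)
  obtain ⟨⟨⟨t, ht⟩, hfixt⟩⟩ := (Nat.card_ne_zero.mp hfix).1
  have h := congrArg Subtype.val (hfixt ⟨ConjAct.toConjAct y, mem_zpowers _⟩)
  change ConjAct.toConjAct y • t = t at h
  rw [ConjAct.smul_def, ConjAct.ofConjAct_toConjAct] at h
  refine H.spec.not_commute_five (y := y) (hy ▸ pow_orderOf_eq_one y)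
    (fun e => by rw [e, orderOf_one] at hy; omega) (Or.inl ht.1.orderOf) ?_
  exact (mul_inv_eq_iff_eq_mul.mp h).symm

omit H in
/-- The second count, as a double sum. -/
theorem sum_swap [Fintype G] [DecidableEq G] (A B : Finset G) (r : G → G → Prop)
    [∀ a b, Decidable (r a b)] :
    ∑ a ∈ A, (B.filter (r a)).card = ∑ b ∈ B, (A.filter fun a => r a b).card := by
  simp only [Finset.card_filter]
  exact Finset.sum_comm

/-- The full count: `|C x| = 9`, every count is extremal. -/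
theorem count (hx : El3 x) :
    Nat.card (C x) = 9 ∧ 4 * (TT x).ncard = (NI x).ncard ∧
      ∀ t ∈ NI x, ∃ y ∈ C x, El3 y ∧ T3 t y := by
  classical
  haveI := Fintype.ofFinite G
  set n := Nat.card (C x) with hn
  set D : Finset G := Finset.univ.filter fun y => y ∈ C x ∧ y ≠ 1 with hD
  set B : Finset G := Finset.univ.filter fun t => t ∈ NI x with hB
  have hBc : B.card = (NI x).ncard := by
    rw [hB, ← ncard_setOf_eq]; rfl
  have hDc : D.card + 1 = n := by
    have h1 : D = (Finset.univ.filter fun y => y ∈ C x).erase 1 := by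
      ext y
      simp [hD, and_comm]
    rw [h1, Finset.card_erase_add_one (by simp), ← ncard_setOf_eq, hn, ← Nat.card_coe_set_eq]
    rfl
  have hrow : ∀ y ∈ D, (B.filter fun t => T3 t y).card = (TT y).ncard := by
    intro y hy
    rw [hD, Finset.mem_filter] at hy
    obtain ⟨-, hyC, hy1⟩ := hy
    rw [hB, Finset.filter_filter, ← ncard_setOf_eq]
    congr 1
    ext t
    refine ⟨fun h => ⟨h.1.1, h.2⟩, fun h => ⟨?_, h.2⟩⟩
    rw [← H.NI_eq_of_mem hx hyC hy1]
    exact TT_subset (el3_of_mem_C H.spec hx hyC hy1) h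
  have hcol : ∀ t ∈ B, (D.filter fun y => T3 t y).card ≤ 2 := by
    intro t ht
    rw [hB, Finset.mem_filter] at ht
    by_cases h : (D.filter fun y => T3 t y).Nonempty
    · obtain ⟨y, hy⟩ := h
      simp only [hD, Finset.mem_filter, Finset.mem_univ, true_and] at hy
      obtain ⟨⟨hyC, hy1⟩, hy3⟩ := hy
      refine le_trans (Finset.card_le_card (t := {y, y⁻¹}) ?_) Finset.card_le_two
      intro z hz
      simp only [hD, Finset.mem_filter, Finset.mem_univ, true_and] at hz
      obtain ⟨⟨hzC, hz1⟩, hz3⟩ := hz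
      have := H.t3_line ht.2.1 (el3_of_mem_C H.spec hx hyC hy1) (el3_of_mem_C H.spec hx hzC hz1)
        (H.cent_comm hx hyC hzC) hy3 hz3
      simpa using this
    · rw [Finset.not_nonempty_iff_eq_empty.mp h]; simp
  have hswap := sum_swap D B fun y t => T3 t y
  have hup : ∑ t ∈ B, (D.filter fun y => T3 t y).card ≤ B.card * 2 := by
    simpa using Finset.sum_le_card_nsmul _ _ 2 hcol
  have hle : ∀ y ∈ D, 3 * B.card ≤ (3 + n) * (B.filter fun t => T3 t y).card := by
    intro y hy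
    rw [hrow y hy, hBc]
    rw [hD, Finset.mem_filter] at hy
    obtain ⟨-, hyC, hy1⟩ := hy
    have := H.count_le (el3_of_mem_C H.spec hx hyC hy1)
    rwa [H.NI_eq_of_mem hx hyC hy1, H.C_eq hx hyC hy1] at this
  have hlow : D.card * (3 * B.card) ≤ (3 + n) * ∑ t ∈ B, (D.filter fun y => T3 t y).card := by
    rw [← hswap, Finset.mul_sum]
    simpa using Finset.card_nsmul_le_sum _ _ _ hle
  have hBpos : 0 < B.card := by
    rw [hBc, Set.ncard_pos]; exact H.NI_nonempty hx
  have hmain : (3 * D.card) * B.card ≤ (2 * (3 + n)) * B.card := by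
    have := Nat.mul_le_mul_left (3 + n) hup
    nlinarith
  have hn9 : n = 9 := by
    have h1 := Nat.le_of_mul_le_mul_right hmain hBpos
    have := H.nine_le_C hx
    omega
  have hD8 : D.card = 8 := by omega
  rw [hn9] at hlow hle
  rw [hD8] at hlow
  have hsum : ∑ t ∈ B, (D.filter fun y => T3 t y).card = B.card * 2 := by omega
  refine ⟨hn9, ?_, fun t ht => ?_⟩
  · have hxD : x ∈ D := by simp [hD, self_mem_C, hx.ne]
    have hconst : ∀ y ∈ D, B.card ≤ 4 * (B.filter fun t => T3 t y).card := fun y hy => by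
      have := hle y hy
      omega
    have heq : ∑ y ∈ D, B.card = ∑ y ∈ D, 4 * (B.filter fun t => T3 t y).card := by
      rw [← Finset.mul_sum, hswap, hsum, Finset.sum_const, hD8, smul_eq_mul]
      ring
    have h := ((Finset.sum_eq_sum_iff_of_le hconst).mp heq x hxD)
    rw [← hBc, h, hrow x hxD]
  · have htB : t ∈ B := by simp [hB, ht]
    by_contra hcon
    push Not at hcon
    have h0 : (D.filter fun y => T3 t y).card = 0 := by
      rw [Finset.card_eq_zero, Finset.filter_eq_empty_iff]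
      intro y hy h3
      simp only [hD, Finset.mem_filter, Finset.mem_univ, true_and] at hy
      exact hcon y hy.1 (el3_of_mem_C H.spec hx hy.1 hy.2) h3
    have hlt : ∑ t ∈ B, (D.filter fun y => T3 t y).card < ∑ t ∈ B, 2 :=
      Finset.sum_lt_sum hcol ⟨t, htB, by omega⟩
    rw [Finset.sum_const, smul_eq_mul, hsum] at hlt
    omega

theorem card_C_eq_nine (hx : El3 x) : Nat.card (C x) = 9 := (H.count hx).1

theorem four_mul_TT (hx : El3 x) : 4 * (TT x).ncard = (NI x).ncard := (H.count hx).2.1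

theorem exists_line (hx : El3 x) (ht : t ∈ NI x) : ∃ y ∈ C x, El3 y ∧ T3 t y :=
  (H.count hx).2.2 t ht

theorem card_Invs (hx : El3 x) : (Invs G).ncard = 9 + 4 * (TT x).ncard := by
  rw [card_invs_split x, H.card_Iv hx, H.card_C_eq_nine hx, H.four_mul_TT hx]

/-- Every coset of inverting involutions carries a description with a given `v`. -/
theorem exists_hit (hx : El3 x) (hv : v ∈ TT x) (hw : w ∈ Iv x) :
    ∃ (j : ℕ) (w' : G), w' ∈ Iv x ∧ w = x ^ j * w' ∧ (Commute v w' ∨ (v * w') ^ 3 = 1) := by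
  obtain ⟨f, hf, hspec⟩ := H.exists_injection hx
  have hcard : Nat.card (↥(TT x) × ↥(Iv x)) ≤ Nat.card (↥(NI x \ TT x) × Fin 3) := by
    rw [Nat.card_prod, Nat.card_prod, Nat.card_coe_set_eq, Nat.card_coe_set_eq,
      Nat.card_coe_set_eq, Nat.card_fin, H.card_Iv hx, H.card_C_eq_nine hx]
    have hsub := Set.ncard_sdiff_add_ncard_of_subset (TT_subset hx) (Set.toFinite _)
    have := H.four_mul_TT hx
    omega
  obtain ⟨p, hp⟩ := (hf.bijective_of_nat_card_le hcard).2 (⟨v, hv⟩, ⟨w, hw⟩)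
  obtain ⟨w', hd, he⟩ := hspec p
  rw [hp] at hd he
  refine ⟨_, w', hd.2.1, he, ?_⟩
  rcases hd.2.2 with ⟨h, -⟩ | ⟨h, -⟩
  exacts [Or.inl h, Or.inr h]

/-- An involution of type three for `x` is conjugate to the involutions inverting `x`. -/
theorem TT_isConj (hx : El3 x) (hv : v ∈ TT x) (hw : w ∈ Iv x) : IsConj v w := by
  obtain ⟨y, hy, hxy, hne, hne', hyC⟩ := H.exists_indep hx
  have hw2 := H.Iv_mul hx hw hyC
  obtain ⟨j, w₁, hw₁, he₁, hh₁⟩ := H.exists_hit hx hv hw
  obtain ⟨k, w₂, hw₂, he₂, hh₂⟩ := H.exists_hit hx hv hw2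
  have key : ∀ a ∈ Iv x, (v * a) ^ 3 = 1 → IsConj v a := by
    intro a ha h
    refine isConj_iff.mpr ⟨v * a, ?_⟩
    have h' : v * a * v * (a * v * a) = 1 := by
      rw [pow_succ, pow_two] at h; rw [← h]; group
    have hb : v * a * v = a * v * a := by
      rw [eq_inv_of_mul_eq_one_left h', mul_inv_rev, mul_inv_rev, ha.1.inv, hv.1.inv]
      group
    calc v * a * v * (v * a)⁻¹ = (v * a * v) * (a * v) := by
          rw [mul_inv_rev, ha.1.inv, hv.1.inv]
      _ = (a * v * a) * (a * v) := by rw [hb]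
      _ = a * v * (a * a) * v := by group
      _ = a := by rw [ha.1.mul_self, mul_one, mul_assoc, hv.1.mul_self, mul_one]
  rcases hh₁ with hc₁ | h₁
  · rcases hh₂ with hc₂ | h₂
    · exfalso
      have hc := hc₂.mul_right hc₁
      have hmem := H.mul_mem_C hx hw₁ hw₂
      by_cases h1 : w₂ * w₁ = 1
      · have hww : w₂ = w₁ := by rw [mul_eq_one_iff_eq_inv.mp h1, hw₁.1.inv]
        rw [hww, he₁, ← mul_assoc] at he₂
        have hy' : y * x ^ j = x ^ k := mul_right_cancel he₂
        have hyz : y ∈ zpowers x := by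
          rw [eq_mul_inv_of_mul_eq hy']
          exact mul_mem (pow_mem (mem_zpowers x) _) (inv_mem (pow_mem (mem_zpowers x) _))
        obtain ⟨i, hi⟩ := (Submonoid.mem_powers_iff y x).mp (mem_powers_iff_mem_zpowers.mpr hyz)
        rw [← pow_mod_orderOf, hx.orderOf] at hi
        rcases (by omega : i % 3 = 0 ∨ i % 3 = 1 ∨ i % 3 = 2) with e | e | e <;> rw [e] at hi
        · exact hy.ne (by rw [← hi, pow_zero])
        · exact hne (by rw [← hi, pow_one])
        · exact hne' (by rw [← hi, pow_two, hx.sq])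
      · exact H.spec.not_commute hv.1 (el3_of_mem_C H.spec hx hmem h1) hc
    · exact (key w₂ hw₂ h₂).trans (H.Iv_isConj hx hw₂ hw)
  · exact (key w₁ hw₁ h₁).trans (H.Iv_isConj hx hw₁ hw)

/-- All involutions are conjugate. -/
theorem all_isConj {s : G} (hs : Inv2 s) (ht : Inv2 t) : IsConj s t := by
  obtain ⟨x, w, hx, hw, hf⟩ := H.exists_strongly_real
  have key : ∀ a : G, Inv2 a → IsConj a w := by
    intro a ha
    by_cases h : Flips a x
    · exact H.Iv_isConj hx ⟨ha, h⟩ ⟨hw, hf⟩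
    · obtain ⟨y, hyC, hy, h3⟩ := H.exists_line hx ⟨ha, h⟩
      refine H.TT_isConj hy ⟨ha, h3⟩ ?_
      rw [H.Iv_eq_of_mem hx hyC hy.ne]
      exact ⟨hw, hf⟩
  exact (key s hs).trans (key t ht).symm

end Hyp

end Cfsg.Agent.RecogFive
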