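import Cfsg.Agent.Lib.RecogFive.Large

/-!
# Order `360` and simplicity

`q ∈ {5, 25}` with `σ = 64` is incompatible with the number of Sylow `3`-subgroups being `≡ 1 (9)`.
-/

set_option autoImplicit false
set_option linter.unusedSectionVars false
set_option linter.style.haveILetI false

namespace Cfsg.Agent.RecogFive

open Subgroup

variable {G : Type*} [Group G] [Finite G]

namespace Hyp

variable (H : Hyp G)
include H

/-- The Sylow `3`-subgroups. -/
theorem sylow3_count : ∃ n h : ℕ, n % 9 = 1 ∧ h ≤ 8 ∧ h ≠ 5 ∧ n * h * 9 = Nat.card G := by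
  classical
  haveI := Fact.mk Nat.prime_three
  haveI := Fact.mk Nat.prime_five
  obtain ⟨x, hx⟩ := H.exists_el3
  obtain ⟨P, hP⟩ := (isPGroup_C H.spec hx).exists_le_sylow
  have h9 := H.card_C_eq_nine hx
  have hPC : (P : Subgroup G) = C x := (Subgroup.eq_of_le_of_card_ge hP (by
    rw [← H.card_C hx P])).symm
  -- `P` permutes the other Sylow subgroups freely
  let Ω : SubMulAction (P : Subgroup G) (Sylow 3 G) :=
    { carrier := {Q | Q ≠ P}
      smul_mem' := fun g Q hQ h => hQ (by
        have h1 : (g : G) • Q = P := h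
        have h2 : (g : G) • P = P :=
          Sylow.smul_eq_iff_mem_normalizer.mpr (le_normalizer g.2)
        exact smul_left_cancel _ (h1.trans h2.symm)) }
  have hfree : ∀ Q : Ω, MulAction.stabilizer (P : Subgroup G) Q = ⊥ := by
    rintro ⟨Q, hQ⟩
    rw [Subgroup.eq_bot_iff_forall]
    intro g hg
    by_contra hg1
    have hgQ : (g : G) • Q = Q := congrArg Subtype.val (MulAction.mem_stabilizer_iff.mp hg)
    have hgN := Sylow.smul_eq_iff_mem_normalizer.mp hgQ
    have hgC : (g : G) ∈ C x := hPC ▸ g.2
    have hgne : (g : G) ≠ 1 := fun e => hg1 (Subtype.ext e)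
    have hmem : (g : G) ∈ (Q : Subgroup G) := by
      have hp : IsPGroup 3 (zpowers (g : G)) := IsPGroup.of_card (n := 1) (by
        rw [pow_one, Nat.card_zpowers, (el3_of_mem_C H.spec hx hgC hgne).orderOf])
      have h := Q.3 (sup_isPGroup Q.2 hp (zpowers_le.mpr hgN)) le_sup_right
      exact h ▸ (le_sup_left : zpowers (g : G) ≤ zpowers (g : G) ⊔ (Q : Subgroup G))
        (mem_zpowers _)
    obtain ⟨z, hz, hz1⟩ : ∃ z ∈ (Q : Subgroup G), z ≠ 1 := ⟨g, hmem, hgne⟩
    have hQcard : Nat.card (Q : Subgroup G) = 9 := by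
      rw [← h9, H.card_C hx Q]
    haveI : IsMulCommutative (Q : Subgroup G) :=
      IsPGroup.isMulCommutative_of_card_eq_prime_sq (p := 3) (by rw [hQcard]; norm_num)
    have hQC : (Q : Subgroup G) ≤ C x := by
      intro q hq
      rw [← H.C_eq hx hgC hgne]
      exact mem_C.mpr (congrArg Subtype.val
        (mul_comm' (⟨q, hq⟩ : (Q : Subgroup G)) ⟨(g : G), hmem⟩))
    apply hQ
    apply Sylow.ext
    rw [hPC]
    exact Subgroup.eq_of_le_of_card_ge hQC (by rw [hQcard, h9])
  have hn : Nat.card (Sylow 3 G) % 9 = 1 := by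
    have e := MulAction.selfEquivOrbitsQuotientProd hfree
    have hΩ : Nat.card Ω = Nat.card (MulAction.orbitRel.Quotient (P : Subgroup G) Ω) * 9 := by
      have hP9 : Nat.card (P : Subgroup G) = 9 := hPC ▸ h9
      rw [Nat.card_congr e, Nat.card_prod, hP9]
    have h1 : Nat.card Ω + 1 = Nat.card (Sylow 3 G) := by
      have h : Nat.card Ω = ({P}ᶜ : Set (Sylow 3 G)).ncard := Nat.card_coe_set_eq _
      rw [h, ← Set.ncard_singleton P, add_comm, Set.ncard_add_ncard_compl]
    omega
  set N := normalizer ((P : Subgroup G) : Set G) with hN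
  have hnN : Nat.card (Sylow 3 G) * Nat.card N = Nat.card G := by
    rw [Sylow.card_eq_index_normalizer P, mul_comm, hN]
    exact card_mul_index _
  -- `N` permutes `C x ∖ 1` semiregularly modulo `C x`
  haveI := Fintype.ofFinite G
  set Nf : Finset G := Finset.univ.filter fun g => g ∈ N with hNf
  have hNc : Nat.card N = Nf.card := by
    rw [hNf, ← ncard_setOf_eq, ← Nat.card_coe_set_eq]; rfl
  set im := Nf.image (fun g => g * x * g⁻¹) with him
  have hfib : ∀ a ∈ im, (Nf.filter fun g => g * x * g⁻¹ = a).card = 9 := by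
    intro a ha
    rw [him, Finset.mem_image] at ha
    obtain ⟨g₀, hg₀, rfl⟩ := ha
    rw [hNf, Finset.mem_filter] at hg₀
    rw [← Nat.card_eq_finsetCard, ← h9]
    refine (Nat.card_congr (Equiv.ofBijective (fun s : C x =>
      (⟨g₀ * (s : G), ?_⟩ : ↥(Nf.filter fun g => g * x * g⁻¹ = g₀ * x * g₀⁻¹))) ⟨?_, ?_⟩)).symm
    · rw [Finset.mem_filter, hNf, Finset.mem_filter]
      refine ⟨⟨Finset.mem_univ _, mul_mem hg₀.2 (le_normalizer (hPC.symm ▸ s.2))⟩, ?_⟩
      rw [mul_assoc g₀ (s : G) x, (mem_C.mp s.2).eq]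
      group
    · exact fun a b h => Subtype.ext (mul_left_cancel (congrArg Subtype.val h))
    · rintro ⟨g, hg⟩
      rw [Finset.mem_filter] at hg
      refine ⟨⟨g₀⁻¹ * g, mem_C.mpr ?_⟩, Subtype.ext (by simp)⟩
      show _ = _
      calc g₀⁻¹ * g * x = g₀⁻¹ * (g * x * g⁻¹) * g := by group
        _ = g₀⁻¹ * (g₀ * x * g₀⁻¹) * g := by rw [hg.2]
        _ = _ := by group
  have hcard : Nat.card N = im.card * 9 := by
    rw [hNc, Finset.card_eq_sum_card_image (fun g => g * x * g⁻¹) Nf, ← him,
      Finset.sum_congr rfl hfib, Finset.sum_const, smul_eq_mul]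
  have him8 : im ⊆ (Finset.univ.filter fun a => a ∈ C x).erase 1 := by
    intro a ha
    rw [him, Finset.mem_image] at ha
    obtain ⟨g, hg, rfl⟩ := ha
    rw [hNf, Finset.mem_filter] at hg
    simp only [Finset.mem_erase, Finset.mem_filter, Finset.mem_univ, true_and]
    exact ⟨(hx.conj g).ne, hPC ▸ (mem_normalizer_iff.mp hg.2 x).mp (hPC.symm ▸ self_mem_C x)⟩
  refine ⟨_, im.card, hn, ?_, ?_, by rw [mul_assoc, ← hcard, hnN]⟩
  · have := Finset.card_le_card him8
    rw [Finset.card_erase_of_mem (by simp), ← ncard_setOf_eq] at this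
    have h' : {a : G | a ∈ C x}.ncard = 9 := (Nat.card_coe_set_eq _).symm.trans h9
    omega
  · intro h5
    obtain ⟨y, hy⟩ := exists_prime_orderOf_dvd_card' (G := N) 5 (by rw [hcard, h5]; norm_num)
    rw [← Subgroup.orderOf_coe] at hy
    let Y : Subgroup (ConjAct G) := zpowers (ConjAct.toConjAct (y : G))
    have hYp : IsPGroup 5 Y := IsPGroup.of_card (n := 1) (by
      rw [pow_one, Nat.card_zpowers, MulEquiv.orderOf_eq ConjAct.toConjAct, hy])
    let S : SubMulAction Y G :=
      { carrier := {a | a ∈ (P : Subgroup G) ∧ a ≠ 1}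
        smul_mem' := fun k a ha => by
          obtain ⟨i, hi⟩ := mem_zpowers_iff.mp k.2
          show (k : ConjAct G) • a ∈ (P : Subgroup G) ∧ (k : ConjAct G) • a ≠ 1
          rw [← hi, ← map_zpow, ConjAct.smul_def, ConjAct.ofConjAct_toConjAct]
          exact ⟨(mem_normalizer_iff.mp (zpow_mem y.2 i) a).mp ha.1,
            fun e => ha.2 (conj_eq_one_iff.mp e)⟩ }
    have hS : Nat.card S = 8 := by
      have h1 : Nat.card S = (((P : Subgroup G) : Set G) \ {1}).ncard := Nat.card_coe_set_eq _
      have h2 : ((P : Subgroup G) : Set G).ncard = 9 := by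
        rw [← Nat.card_coe_set_eq]; exact hPC ▸ h9
      rw [h1, Set.ncard_sdiff_singleton_of_mem (one_mem _), h2]
    have hmod := hYp.card_modEq_card_fixedPoints S
    have hfix : Nat.card (MulAction.fixedPoints Y S) ≠ 0 := fun h0 => by
      rw [h0, hS] at hmod
      norm_num [Nat.ModEq] at hmod
    obtain ⟨⟨⟨a, haP, ha1⟩, hfa⟩⟩ := (Nat.card_ne_zero.mp hfix).1
    have h := congrArg Subtype.val (hfa ⟨ConjAct.toConjAct (y : G), mem_zpowers _⟩)
    change ConjAct.toConjAct (y : G) • a = a at h
    rw [ConjAct.smul_def, ConjAct.ofConjAct_toConjAct] at h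
    exact H.spec.not_commute_five (hy ▸ pow_orderOf_eq_one _)
      (fun e => by rw [e, orderOf_one] at hy; omega)
      (Or.inr (el3_of_mem_C H.spec hx (hPC ▸ haP) ha1).orderOf)
      (mul_inv_eq_iff_eq_mul.mp h).symm

/-- The order is `360`, with Sylow `2`-subgroups of order eight. -/
theorem card_eq : Nat.card G = 360 ∧ ∀ t : G, Inv2 t → Nat.card (C t) = 8 := by
  obtain ⟨x, v, w, hx, hv, hw, hc⟩ := H.exists_commuting
  have D : S4Data x v w := ⟨hx, hv, hw, hc⟩
  rcases H.card_FF_cases D with h | h
  · obtain ⟨h1, h2⟩ := H.small_case D h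
    exact ⟨h2, fun t ht => (H.card_C_eq_C ht hv.1).trans h1⟩
  · exfalso
    obtain ⟨-, q, b, hb, hqb, hq, hg⟩ := H.large_case D h
    obtain ⟨n, k, hn, hk, hk5, hnk⟩ := H.sylow3_count
    have hb3 : b ≤ 2 := by
      by_contra hb3
      have := Nat.pow_le_pow_right (show 5 > 0 by norm_num) (show 3 ≤ b by omega)
      omega
    have e : n * k = q * 64 := by
      refine Nat.eq_of_mul_eq_mul_right (by norm_num : 0 < 9) ?_
      rw [hnk, hg]; ring
    interval_cases b <;> subst hqb <;> interval_cases k <;> omega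

/-- The group is simple. -/
theorem isSimpleGroup : IsSimpleGroup G := by
  obtain ⟨hg, hC8⟩ := H.card_eq
  haveI : Nontrivial G := Finite.one_lt_card_iff_nontrivial.mp (by omega)
  refine ⟨fun N hN => ?_⟩
  classical
  haveI := Fintype.ofFinite G
  haveI := hN
  by_contra hcon
  push Not at hcon
  obtain ⟨hbot, htop⟩ := hcon
  have hdvd : Nat.card N ∣ 360 := hg ▸ card_subgroup_dvd_card N
  have hlt : Nat.card N ≤ 180 := by
    obtain ⟨k, hk⟩ := hdvd
    rcases Nat.lt_or_ge k 2 with h | h
    · exfalso
      rcases (by omega : k = 0 ∨ k = 1) with rfl | rfl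
      · simp at hk
      · exact htop (Subgroup.eq_top_of_card_eq N (by omega))
    · nlinarith
  obtain ⟨x, hx⟩ := H.exists_el3
  have h9 := H.card_C_eq_nine hx
  have hcls := ncard_conj_mul_card_C x
  rw [h9, hg] at hcls
  -- conjugates of an element of order three
  have hge : ∀ x : G, El3 x → x ∈ N → 40 ≤ {a : G | El3 a ∧ a ∈ N}.ncard := by
    intro a ha haN
    have h := ncard_conj_mul_card_C a
    rw [H.card_C_eq_nine ha, hg] at h
    have hsub : {s : G | IsConj a s} ⊆ {b : G | El3 b ∧ b ∈ N} := by
      intro b hb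
      obtain ⟨g, rfl⟩ := isConj_iff.mp hb
      exact ⟨ha.conj g, hN.conj_mem a haN g⟩
    have := Set.ncard_le_ncard hsub (Set.toFinite _)
    omega
  by_cases h2 : 2 ∣ Nat.card N
  · haveI := Fact.mk Nat.prime_two
    obtain ⟨t, ht⟩ := exists_prime_orderOf_dvd_card' (G := N) 2 h2
    rw [← Subgroup.orderOf_coe] at ht
    have hti : Inv2 (t : G) := Inv2.of_sq (ht ▸ pow_orderOf_eq_one _)
      (fun e => by rw [e, orderOf_one] at ht; omega)
    have hI : ∀ s : G, Inv2 s → s ∈ N := fun s hs => by
      obtain ⟨g, rfl⟩ := isConj_iff.mp (H.all_isConj hti hs)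
      exact hN.conj_mem _ t.2 g
    -- elements of order three are products of two involutions
    have h3N : ∀ a : G, El3 a → a ∈ N := by
      intro a ha
      obtain ⟨w, hw⟩ := H.exists_flip ha
      have h := H.Iv_mul ha (show w ∈ Iv a from hw) (self_mem_C a)
      have := mul_mem (hI _ h.1) (hI _ hw.1)
      rwa [mul_assoc, hw.1.mul_self, mul_one] at this
    obtain ⟨x', v, w, hx', hv, hw, hc⟩ := H.exists_commuting
    have D : S4Data x' v w := ⟨hx', hv, hw, hc⟩
    have h8 : 8 ∣ Nat.card N := by
      have hU : ∀ a ∈ FU x' v, a ∈ N := fun a ha => by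
        by_cases h1 : a = 1
        · rw [h1]; exact one_mem N
        · exact hI a ⟨(H.U_elementary D).1 a ha, h1⟩
      have hle : H.TW D ≤ N := by
        intro a ha
        rcases ha with h | h
        · exact hU a h
        · have := mul_mem (hU _ h) (hI w hw.1)
          rwa [mul_assoc, hw.1.mul_self, mul_one] at this
      rcases H.card_FF_cases D with h | h
      · refine dvd_trans ?_ (card_dvd_of_le hle)
        rw [H.card_TW D, H.card_U D, h]
        norm_num
      · exfalso
        obtain ⟨h64, -⟩ := H.large_case D h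
        rw [hC8 v hv.1] at h64
        norm_num at h64
    have h9N : 9 ∣ Nat.card N := by
      rw [← h9]
      refine card_dvd_of_le fun a ha => ?_
      by_cases h1 : a = 1
      · rw [h1]; exact one_mem N
      · exact h3N a (el3_of_mem_C H.spec hx ha h1)
    have h72 : 72 ∣ Nat.card N :=
      Nat.Coprime.mul_dvd_of_dvd_of_dvd (show Nat.Coprime 8 9 by norm_num) h8 h9N
    have hN72 : Nat.card N = 72 := by
      obtain ⟨k, hk⟩ := h72
      rcases (by omega : k = 0 ∨ k = 1 ∨ k = 2) with rfl | rfl | rfl
      · exact absurd hk (by have := Nat.card_pos (α := N); omega)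
      · exact hk
      · rw [hk] at hdvd; norm_num at hdvd
    have hi : (Invs G).ncard = 45 := by
      have := H.ncard_Invs_mul hti
      rw [hC8 _ hti, hg] at this
      omega
    have hsub : (Invs G ∪ {a : G | El3 a ∧ a ∈ N}) ⊆ (N : Set G) := by
      rintro a (ha | ha)
      exacts [hI a ha, ha.2]
    have hdis : Disjoint (Invs G) {a : G | El3 a ∧ a ∈ N} := Set.disjoint_left.mpr fun a ha hb => by
      have := ha.orderOf
      rw [hb.1.orderOf] at this
      omega
    have := Set.ncard_le_ncard hsub (Set.toFinite _)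
    rw [Set.ncard_union_eq hdis, hi] at this
    have h40 := hge x hx (h3N x hx)
    have hNc : (N : Set G).ncard = 72 := hN72 ▸ (Nat.card_coe_set_eq _).symm
    omega
  · haveI := Fact.mk Nat.prime_three
    haveI := Fact.mk Nat.prime_five
    have hodd : Nat.card N ∣ 45 :=
      ((Nat.prime_two.coprime_iff_not_dvd.mpr h2).pow_left 3).symm.dvd_of_dvd_mul_left
        (show Nat.card N ∣ 2 ^ 3 * 45 by simpa using hdvd)
    by_cases h3 : 3 ∣ Nat.card N
    · obtain ⟨a, ha⟩ := exists_prime_orderOf_dvd_card' (G := N) 3 h3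
      rw [← Subgroup.orderOf_coe] at ha
      have ha3 := El3.of_orderOf ha
      have h40 := hge _ ha3 a.2
      have hle : {b : G | El3 b ∧ b ∈ N} ⊆ (N : Set G) \ {1} := fun b hb => ⟨hb.2, hb.1.ne⟩
      have hlt := Set.ncard_le_ncard hle (Set.toFinite _)
      have hNc : (N : Set G).ncard = Nat.card N := (Nat.card_coe_set_eq _).symm
      rw [Set.ncard_sdiff_singleton_of_mem (one_mem N), hNc] at hlt
      have h45 : Nat.card N = 45 := by
        rcases hodd with ⟨k, hk⟩
        rcases Nat.lt_or_ge k 2 with h | h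
        · rcases (by omega : k = 0 ∨ k = 1) with rfl | rfl <;> omega
        · exfalso
          have h41 : 41 ≤ Nat.card N := by omega
          have := Nat.mul_le_mul h41 h
          omega
      obtain ⟨y, hy⟩ := exists_prime_orderOf_dvd_card' (G := N) 5 (h45 ▸ by norm_num)
      -- more than forty-one elements of exponent three besides `y`
      obtain ⟨Q⟩ := (inferInstance : Nonempty (Sylow 5 N))
      have hQ := Q.card_dvd_index
      have hQc : Nat.card (Q : Subgroup N) = 5 := by
        rw [Q.card_eq_multiplicity, h45]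
        have : (45 : ℕ).factorization 5 = 1 := by
          rw [show (45 : ℕ) = 3 * 3 * 5 by norm_num, Nat.factorization_mul (by norm_num) (by norm_num),
            Nat.factorization_mul (by norm_num) (by norm_num)]
          simp [Nat.prime_three.factorization, Nat.prime_five.factorization]
        rw [this, pow_one]
      have hQi : (Q : Subgroup N).index = 9 := by
        have := (Q : Subgroup N).card_mul_index
        rw [hQc, h45] at this
        omega
      rw [hQi] at hQ
      have h1 : Nat.card (Sylow 5 N) = 1 := by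
        have hm := card_sylow_modEq_one 5 N
        have hle := Nat.le_of_dvd (by norm_num) hQ
        generalize Nat.card (Sylow 5 N) = c at hm hQ hle
        interval_cases c <;> simp_all [Nat.ModEq]
      haveI : Subsingleton (Sylow 5 N) := (Nat.card_eq_one_iff_unique.mp h1).1
      haveI : (Q : Subgroup N).Normal := Sylow.normal_of_subsingleton Q
      -- `a` centralises the normal subgroup of order five
      let Y : Subgroup (ConjAct N) := zpowers (ConjAct.toConjAct a)
      have hYp : IsPGroup 3 Y := IsPGroup.of_card (n := 1) (by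
        rw [pow_one, Nat.card_zpowers, MulEquiv.orderOf_eq ConjAct.toConjAct,
          ← Subgroup.orderOf_coe, ha])
      let S : SubMulAction Y N :=
        { carrier := {b | b ∈ (Q : Subgroup N) ∧ b ≠ 1}
          smul_mem' := fun k b hb => by
            show (k : ConjAct N) • b ∈ (Q : Subgroup N) ∧ (k : ConjAct N) • b ≠ 1
            rw [ConjAct.smul_def]
            exact ⟨Subgroup.Normal.conj_mem inferInstance b hb.1 _,
              fun e => hb.2 (conj_eq_one_iff.mp e)⟩ }
      have hS : Nat.card S = 4 := by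
        have h1 : Nat.card S = (((Q : Subgroup N) : Set N) \ {1}).ncard := Nat.card_coe_set_eq _
        have h2 : ((Q : Subgroup N) : Set N).ncard = 5 := by rw [← Nat.card_coe_set_eq]; exact hQc
        rw [h1, Set.ncard_sdiff_singleton_of_mem (one_mem _), h2]
      have hmod := hYp.card_modEq_card_fixedPoints S
      have hfix : Nat.card (MulAction.fixedPoints Y S) ≠ 0 := fun h0 => by
        rw [h0, hS] at hmod
        norm_num [Nat.ModEq] at hmod
      obtain ⟨⟨⟨b, hbQ, hb1⟩, hfb⟩⟩ := (Nat.card_ne_zero.mp hfix).1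
      have h := congrArg Subtype.val (hfb ⟨ConjAct.toConjAct a, mem_zpowers _⟩)
      change ConjAct.toConjAct a • b = b at h
      rw [ConjAct.smul_def, ConjAct.ofConjAct_toConjAct] at h
      have hb5 : (b : G) ^ 5 = 1 := by
        have := pow_card_eq_one' (x := (⟨b, hbQ⟩ : (Q : Subgroup N)))
        rw [hQc] at this
        simpa using congrArg (fun e : (Q : Subgroup N) => ((e : N) : G)) this
      exact H.spec.not_commute_five hb5 (fun e => hb1 (Subtype.ext e)) (Or.inr ha)
        (congrArg Subtype.val (mul_inv_eq_iff_eq_mul.mp h) :)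
    · -- `N` has order five, and then elements of order three centralise it
      have h5 : Nat.card N = 5 := by
        have hco : Nat.Coprime (Nat.card N) 9 := by
          rw [show (9 : ℕ) = 3 ^ 2 by norm_num]
          exact Nat.Coprime.pow_right 2 (Nat.prime_three.coprime_iff_not_dvd.mpr h3).symm
        rcases (Nat.dvd_prime Nat.prime_five).mp
          (hco.dvd_of_dvd_mul_left (show Nat.card N ∣ 9 * 5 from hodd)) with h | h
        · exact absurd ((Subgroup.card_eq_one).mp h) hbot
        · exact h
      let Y : Subgroup (ConjAct G) := zpowers (ConjAct.toConjAct x)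
      have hYp : IsPGroup 3 Y := IsPGroup.of_card (n := 1) (by
        rw [pow_one, Nat.card_zpowers, MulEquiv.orderOf_eq ConjAct.toConjAct, hx.orderOf])
      let S : SubMulAction Y G :=
        { carrier := {b | b ∈ N ∧ b ≠ 1}
          smul_mem' := fun k b hb => by
            show (k : ConjAct G) • b ∈ N ∧ (k : ConjAct G) • b ≠ 1
            rw [ConjAct.smul_def]
            exact ⟨hN.conj_mem b hb.1 _, fun e => hb.2 (conj_eq_one_iff.mp e)⟩ }
      have hS : Nat.card S = 4 := by
        have h1 : Nat.card S = ((N : Set G) \ {1}).ncard := Nat.card_coe_set_eq _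
        have h2 : (N : Set G).ncard = 5 := by rw [← Nat.card_coe_set_eq]; exact h5
        rw [h1, Set.ncard_sdiff_singleton_of_mem (one_mem _), h2]
      have hmod := hYp.card_modEq_card_fixedPoints S
      have hfix : Nat.card (MulAction.fixedPoints Y S) ≠ 0 := fun h0 => by
        rw [h0, hS] at hmod
        norm_num [Nat.ModEq] at hmod
      obtain ⟨⟨⟨b, hbN, hb1⟩, hfb⟩⟩ := (Nat.card_ne_zero.mp hfix).1
      have h := congrArg Subtype.val (hfb ⟨ConjAct.toConjAct x, mem_zpowers _⟩)
      change ConjAct.toConjAct x • b = b at h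
      rw [ConjAct.smul_def, ConjAct.ofConjAct_toConjAct] at h
      have hb5 : b ^ 5 = 1 := by
        have := pow_card_eq_one' (x := (⟨b, hbN⟩ : N))
        rw [h5] at this
        simpa using congrArg Subtype.val this
      exact H.spec.not_commute_five hb5 hb1 (Or.inr hx.orderOf) (mul_inv_eq_iff_eq_mul.mp h)

end Hyp

end Cfsg.Agent.RecogFive
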