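import Cfsg.Agent.Lib.RecogFive.Basic
import Cfsg.Agent.FT62.Fpf
import Mathlib.GroupTheory.PGroup

/-!
# Two-subgroups normalised by elements of order three

An element of order three acts fixed-point-freely; no noncyclic group of order nine does; centralisers
are normal; and a two-subgroup normalised by a copy of `Sym(3)` is elementary abelian, its order
being the square of the number of fixed points of an involution.
-/

set_option autoImplicit false
set_option linter.unusedSectionVars false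
set_option linter.style.haveILetI false

namespace Cfsg.Agent.RecogFive

open Subgroup
open Cfsg.Agent.FT62 (Fpf3)

variable {G : Type*} [Group G] [Finite G] (hS : Spec5 G) {x y w : G} {U : Subgroup G}

include hS

theorem isPGroup_of_pow_four (h : ∀ g ∈ U, g ^ 4 = 1) : IsPGroup 2 U := fun g =>
  ⟨2, Subtype.ext (by simpa using h g g.2)⟩

theorem pow_four_of_isPGroup (hU : IsPGroup 2 U) {g : G} (hg : g ∈ U) : g ^ 4 = 1 := by
  haveI := Fact.mk Nat.prime_two
  obtain ⟨k, hk⟩ := IsPGroup.iff_orderOf.mp hU ⟨g, hg⟩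
  rw [Subgroup.orderOf_mk] at hk
  rcases hS.pow_cases g with h | h | h
  · have hd := orderOf_dvd_of_pow_eq_one h
    rw [hk] at hd
    have h1 : 2 ^ k = 1 := Nat.Coprime.eq_one_of_dvd (Nat.Coprime.pow_left k (by norm_num)) hd
    rw [← hk, orderOf_eq_one_iff] at h1
    rw [h1, one_pow]
  · exact h
  · have hd := orderOf_dvd_of_pow_eq_one h
    rw [hk] at hd
    have h1 : 2 ^ k = 1 := Nat.Coprime.eq_one_of_dvd (Nat.Coprime.pow_left k (by norm_num)) hd
    rw [← hk, orderOf_eq_one_iff] at h1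
    rw [h1, one_pow]

theorem fpf_of_normalizes (hx : El3 x) (hU : IsPGroup 2 U) (hxU : ∀ n ∈ U, x * n * x⁻¹ ∈ U) :
    Fpf3 x U :=
  ⟨hx.cube, hxU, fun n hn he => by
    have h3 := hS.cent3 hx (show Commute n x from (mul_inv_eq_iff_eq_mul.mp he).symm)
    have h4 := pow_four_of_isPGroup hS hU hn
    calc n = n ^ 4 * (n ^ 3)⁻¹ := by group
      _ = 1 := by rw [h4, h3, inv_one, one_mul]⟩

theorem not_mem_of_isPGroup (hx : El3 x) (hU : IsPGroup 2 U) : x ∉ U := fun h => hx.ne (by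
  have h4 := pow_four_of_isPGroup hS hU h
  calc x = x ^ 4 * (x ^ 3)⁻¹ := by group
    _ = 1 := by rw [h4, hx.pow3, inv_one, one_mul])

/-- Two independent commuting elements of order three normalise no nontrivial `2`-subgroup. -/
theorem no_nine (hx : El3 x) (hy : El3 y) (hc : Commute x y) (hne : y ≠ x) (hne' : y ≠ x⁻¹)
    (hU : IsPGroup 2 U) (hxU : ∀ n ∈ U, x * n * x⁻¹ ∈ U) (hyU : ∀ n ∈ U, y * n * y⁻¹ ∈ U) :
    U = ⊥ := by
  haveI := Fact.mk Nat.prime_two
  by_contra hb
  haveI : Nontrivial U := U.nontrivial_iff_ne_bot.mpr hb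
  haveI := hU.center_nontrivial
  obtain ⟨z, hz⟩ := exists_ne (1 : center U)
  have hzc : ∀ u ∈ U, Commute ((z : U) : G) u := fun u hu =>
    (congrArg Subtype.val (mem_center_iff.mp z.2 ⟨u, hu⟩)).symm
  have hzne : ((z : U) : G) ≠ 1 := fun e => hz (Subtype.ext (Subtype.ext e))
  obtain ⟨a, haU, hac, ha2, hane⟩ :
      ∃ a ∈ U, (∀ u ∈ U, Commute a u) ∧ a * a = 1 ∧ a ≠ 1 := by
    by_cases h : ((z : U) : G) * ((z : U) : G) = 1
    · exact ⟨_, (z : U).2, hzc, h, hzne⟩
    · refine ⟨_, mul_mem (z : U).2 (z : U).2, fun u hu => (hzc u hu).mul_left (hzc u hu), ?_, h⟩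
      rw [← pow_four_of_isPGroup hS hU (z : U).2]; simp only [pow_succ, pow_zero, one_mul, mul_assoc]
  apply hane
  have fy := fpf_of_normalizes hS hy hU hyU
  have fx := fpf_of_normalizes hS hx hU hxU
  -- the products `xy` and `xy⁻¹`
  have key : ∀ e : G, El3 e → (∀ n ∈ U, e * n * e⁻¹ ∈ U) →
      (e * a * e⁻¹) * (e⁻¹ * a * e) = a := by
    intro e he heU
    have h := (fpf_of_normalizes hS he hU heU).norm_eq_one haU
    rw [mul_assoc] at h
    rw [← inv_eq_of_mul_eq_one_right h, inv_eq_of_mul_eq_one_right ha2]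
  have h1 : El3 (x * y) := El3.of_pow (by rw [hc.mul_pow, hx.pow3, hy.pow3, one_mul])
    fun e => hne' (eq_inv_of_mul_eq_one_right e)
  have h2 : El3 (x * y⁻¹) := El3.of_pow
    (by rw [hc.inv_right.mul_pow, hx.pow3, inv_pow, hy.pow3, inv_one, one_mul])
    fun e => hne (mul_inv_eq_one.mp e).symm
  have hyU' : ∀ n ∈ U, y⁻¹ * n * y ∈ U := fun n hn => fy.mem' hn
  have e1 := key (x * y) h1 fun n hn => by
    rw [show x * y * n * (x * y)⁻¹ = x * (y * n * y⁻¹) * x⁻¹ by group]; exact hxU _ (hyU n hn)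
  have e2 := key (x * y⁻¹) h2 fun n hn => by
    rw [show x * y⁻¹ * n * (x * y⁻¹)⁻¹ = x * (y⁻¹ * n * y) * x⁻¹ by group]
    exact hxU _ (hyU' n hn)
  have ex := key x hx hxU
  have ey := key y hy hyU
  -- rewrite the inverses through `x`
  have c1 : (x * y)⁻¹ * a * (x * y) = x⁻¹ * (y⁻¹ * a * y) * x := by rw [hc.eq]; group
  have c2 : (x * y⁻¹)⁻¹ * a * (x * y⁻¹) = x⁻¹ * (y * a * y⁻¹) * x := by
    rw [hc.inv_right.eq]; group
  have d1 : x * y * a * (x * y)⁻¹ = x * (y * a * y⁻¹) * x⁻¹ := by group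
  have d2 : x * y⁻¹ * a * (x * y⁻¹)⁻¹ = x * (y⁻¹ * a * y) * x⁻¹ := by group
  rw [c1, d1] at e1
  rw [c2, d2] at e2
  set A := y * a * y⁻¹ with hA
  set B := y⁻¹ * a * y with hB
  have hAU : A ∈ U := hyU a haU
  have hBU : B ∈ U := hyU' a haU
  -- central elements of `U` commute with everything in sight
  have hBc : ∀ u ∈ U, Commute B u := fun u hu => by
    have h := hac _ (hyU u hu)
    show _ = _
    calc B * u = y⁻¹ * (a * (y * u * y⁻¹)) * y := by rw [hB]; group
      _ = y⁻¹ * (y * u * y⁻¹ * a) * y := by rw [h.eq]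
      _ = _ := by rw [hB]; group
  have hxBc : ∀ u ∈ U, Commute (x⁻¹ * B * x) u := fun u hu => by
    have h := hBc _ (hxU u hu)
    show _ = _
    calc x⁻¹ * B * x * u = x⁻¹ * (B * (x * u * x⁻¹)) * x := by group
      _ = x⁻¹ * (x * u * x⁻¹ * B) * x := by rw [h.eq]
      _ = _ := by group
  have h3 : a * a = a := by
    calc a * a = (x * A * x⁻¹) * (x⁻¹ * B * x) * ((x * B * x⁻¹) * (x⁻¹ * A * x)) := by rw [e1, e2]
      _ = (x * A * x⁻¹) * ((x⁻¹ * B * x) * (x * B * x⁻¹)) * (x⁻¹ * A * x) := by group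
      _ = (x * A * x⁻¹) * ((x * B * x⁻¹) * (x⁻¹ * B * x)) * (x⁻¹ * A * x) := by
          rw [(hxBc _ (hxU B hBU)).eq]
      _ = (x * (A * B) * x⁻¹) * ((x⁻¹ * B * x) * (x⁻¹ * A * x)) := by group
      _ = (x * a * x⁻¹) * ((x⁻¹ * A * x) * (x⁻¹ * B * x)) := by
          rw [ey, (hxBc _ (fx.mem' hAU)).eq]
      _ = (x * a * x⁻¹) * (x⁻¹ * (A * B) * x) := by group
      _ = a := by rw [ey, ex]
  exact mul_eq_left.mp h3

section Centralisers

variable (hx : El3 x) (hU : IsPGroup 2 U) (hxU : ∀ n ∈ U, x * n * x⁻¹ ∈ U)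
include hx hU hxU

/-- Centralisers in `U` are normal in `U`. -/
theorem commute_conj_of_mem {a b g : G} (ha : a ∈ U) (hb : b ∈ U) (hg : g ∈ U) (hab : Commute a b) :
    Commute a (g * b * g⁻¹) := by
  have f := fpf_of_normalizes hS hx hU hxU
  obtain ⟨m, hm, rfl⟩ := f.surj hg
  -- `m⁻¹ x m` acts as another fixed-point-free element
  have hxm : El3 (m⁻¹ * x * m) := by simpa using hx.conj m⁻¹
  have f' := fpf_of_normalizes hS hxm hU fun n hn => by
    rw [show m⁻¹ * x * m * n * (m⁻¹ * x * m)⁻¹ = m⁻¹ * (x * (m * n * m⁻¹) * x⁻¹) * m by group]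
    exact mul_mem (mul_mem (inv_mem hm) (hxU _ (mul_mem (mul_mem hm hn) (inv_mem hm)))) hm
  have h1 : Commute a (x⁻¹ * b * x) := by
    have h := f.commute_conj ha (hxU _ hb) (f.commute_conj ha hb hab)
    rw [show x * (x * b * x⁻¹) * x⁻¹ = (x * x) * b * (x * x)⁻¹ by group, hx.sq, inv_inv] at h
    exact h
  have h2 := f'.commute_conj ha (f.mem' hb) h1
  rw [show m⁻¹ * x * m * (x⁻¹ * b * x) * (m⁻¹ * x * m)⁻¹
      = m⁻¹ * (x * m * x⁻¹) * b * (m⁻¹ * (x * m * x⁻¹))⁻¹ by group] at h2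
  exact h2

/-- Every element commutes with each of its conjugates in `U`. -/
theorem engel {g h : G} (hg : g ∈ U) (hh : h ∈ U) : Commute g (h * g * h⁻¹) :=
  commute_conj_of_mem hS hx hU hxU hg hg hh (Commute.refl g)

/-- An element and its image under `x` have the same centraliser in `U`. -/
theorem commute_xconj {a b : G} (ha : a ∈ U) (hb : b ∈ U) (hab : Commute a b) :
    Commute (x * a * x⁻¹) b := by
  have f := fpf_of_normalizes hS hx hU hxU
  exact (f.commute_conj hb ha hab.symm).symm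

variable (hw : Inv2 w) (hwx : Flips w x) (hwU : ∀ n ∈ U, w * n * w ∈ U)
include hw hwx hwU

/-- Fixed points of the inverting involution have order two. -/
theorem fixed_sq {c : G} (hc : c ∈ U) (hcw : w * c * w = c) : c * c = 1 := by
  have f := fpf_of_normalizes hS hx hU hxU
  have hwx' : w * x⁻¹ * w = x := by simpa [Flips] using hwx.inv hw
  have hd : x * c * x⁻¹ ∈ U := hxU c hc
  have hdw : w * (x * c * x⁻¹) * w = x⁻¹ * c * x := by
    calc w * (x * c * x⁻¹) * w = (w * x * w) * (w * c * w) * (w * x⁻¹ * w) := by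
          simp only [mul_assoc, hw.mul_cancel]
      _ = _ := by rw [hwx, hcw, hwx']
  set p := x * c * x⁻¹ * w with hp
  have hp2 : p * p = c⁻¹ := by
    have h1 := f.norm_eq_one hc
    rw [mul_assoc] at h1
    rw [eq_comm, inv_eq_of_mul_eq_one_right h1, hp, ← hdw]
    simp only [mul_assoc]
  have hp4 : (p * p) ^ 4 = 1 := by
    rw [hp2]; exact pow_four_of_isPGroup hS hU (inv_mem hc)
  have h : (p * p) ^ 2 = 1 := by
    have e : ∀ n : ℕ, (p * p) ^ n = p ^ (2 * n) := fun n => by rw [← pow_two, ← pow_mul]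
    rw [e] at hp4
    rw [e]
    norm_num at hp4 ⊢
    rcases hS.pow_cases p with h | h | h
    · calc p ^ 4 = (p ^ 3) ^ 4 * (p ^ 8)⁻¹ := by group
        _ = 1 := by rw [h, hp4, one_pow, inv_one, one_mul]
    · exact h
    · calc p ^ 4 = (p ^ 5) ^ 4 * ((p ^ 8) ^ 2)⁻¹ := by group
        _ = 1 := by rw [h, hp4, one_pow, one_pow, inv_one, one_mul]
  rw [hp2, inv_pow, inv_eq_one, pow_two] at h
  exact h

theorem fixed_commute {c d : G} (hc : c ∈ U) (hcw : w * c * w = c) (hd : d ∈ U)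
    (hdw : w * d * w = d) : Commute c d := by
  have h1 := fixed_sq hS hx hU hxU hw hwx hwU hc hcw
  have h2 := fixed_sq hS hx hU hxU hw hwx hwU hd hdw
  have h3 := fixed_sq hS hx hU hxU hw hwx hwU (mul_mem hc hd) (by
    calc w * (c * d) * w = (w * c * w) * (w * d * w) := by simp only [mul_assoc, hw.mul_cancel]
      _ = _ := by rw [hcw, hdw])
  show c * d = d * c
  rw [eq_inv_of_mul_eq_one_left h3, mul_inv_rev, inv_eq_of_mul_eq_one_right h1,
    inv_eq_of_mul_eq_one_right h2]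

/-- A two-subgroup normalised by `⟨x, w⟩ ≅ Sym(3)` is elementary abelian. -/
theorem elementary : (∀ a ∈ U, a * a = 1) ∧ ∀ a ∈ U, ∀ b ∈ U, Commute a b := by
  have f := fpf_of_normalizes hS hx hU hxU
  have hwx' : w * x⁻¹ * w = x := by simpa [Flips] using hwx.inv hw
  let S : Set G := {g | g ∈ U ∧ w * g * w = g} ∪ {g | ∃ c ∈ U, w * c * w = c ∧ g = x * c * x⁻¹}
  have hSU : S ⊆ U := by
    rintro g (⟨hg, -⟩ | ⟨c, hc, -, rfl⟩)
    exacts [hg, hxU c hc]
  have hcomm : ∀ a ∈ S, ∀ b ∈ S, a * b = b * a := by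
    rintro a (⟨ha, haw⟩ | ⟨c, hc, hcw, rfl⟩) b (⟨hb, hbw⟩ | ⟨d, hd, hdw, rfl⟩)
    · exact (fixed_commute hS hx hU hxU hw hwx hwU ha haw hb hbw).eq
    · exact (f.commute_conj ha hd (fixed_commute hS hx hU hxU hw hwx hwU ha haw hd hdw)).eq
    · exact (f.commute_conj hb hc (fixed_commute hS hx hU hxU hw hwx hwU hb hbw hc hcw)).symm.eq
    · exact ((fixed_commute hS hx hU hxU hw hwx hwU hc hcw hd hdw).map (MulAut.conj x)).eq
  have hsq : ∀ a ∈ S, a * a = 1 := by
    rintro a (⟨ha, haw⟩ | ⟨c, hc, hcw, rfl⟩)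
    · exact fixed_sq hS hx hU hxU hw hwx hwU ha haw
    · calc x * c * x⁻¹ * (x * c * x⁻¹) = x * (c * c) * x⁻¹ := by group
        _ = 1 := by rw [fixed_sq hS hx hU hxU hw hwx hwU hc hcw, mul_one, mul_inv_cancel]
  set E := Subgroup.closure S with hE
  have hEc : ∀ a ∈ E, ∀ b ∈ E, Commute a b := by
    intro a ha b hb
    haveI : IsMulCommutative E := Subgroup.isMulCommutative_closure hcomm
    exact congrArg Subtype.val (mul_comm' (⟨a, ha⟩ : E) ⟨b, hb⟩)
  have hE2 : ∀ a ∈ E, a * a = 1 := by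
    intro a ha
    induction ha using Subgroup.closure_induction with
    | mem a ha => exact hsq a ha
    | one => exact mul_one 1
    | mul a b ha hb iha ihb =>
      calc a * b * (a * b) = a * (b * a) * b := by group
        _ = a * (a * b) * b := by rw [(hEc b hb a ha).eq]
        _ = (a * a) * (b * b) := by group
        _ = 1 := by rw [iha, ihb, mul_one]
    | inv a _ iha => rw [← mul_inv_rev, iha, inv_one]
  have hEU : E ≤ U := by rw [hE, Subgroup.closure_le]; exact hSU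
  suffices h : ∀ a ∈ U, a ∈ E from
    ⟨fun a ha => hE2 a (h a ha), fun a ha b hb => hEc a (h a ha) b (h b hb)⟩
  have key : ∀ a ∈ U, a⁻¹ * (w * a * w) ∈ E → a ∈ E := by
    intro a ha he
    set e := a⁻¹ * (w * a * w) with hedef
    have he2 : e⁻¹ = e := inv_eq_of_mul_eq_one_right (hE2 e he)
    have hefix : w * e * w = e := by
      have h : w * e * w = e⁻¹ := by
        rw [hedef]
        calc w * (a⁻¹ * (w * a * w)) * w = (w * a⁻¹ * w) * (a * (w * w)) := by
              simp only [mul_assoc]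
          _ = (w⁻¹ * a⁻¹ * w⁻¹) * a := by rw [hw.mul_self, mul_one, hw.inv]
          _ = _ := by group
      rw [h, he2]
    set d := x * e * x⁻¹ with hd
    have hdS : d ∈ S := Or.inr ⟨e, hEU he, hefix, rfl⟩
    have hdw : w * d * w = x⁻¹ * e * x := by
      rw [hd]
      calc w * (x * e * x⁻¹) * w = (w * x * w) * (w * e * w) * (w * x⁻¹ * w) := by
            simp only [mul_assoc, hw.mul_cancel]
        _ = _ := by rw [hwx, hefix, hwx']
    have hee : e * (w * d * w) = d := by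
      have h := f.norm_eq_one (hEU he)
      rw [← hd, ← hdw] at h
      have h' : e * d * (w * d * w) = d * (e * (w * d * w)) := by
        rw [(hEc e he d (Subgroup.subset_closure hdS)).eq, mul_assoc]
      rw [h'] at h
      rw [← inv_eq_of_mul_eq_one_right h, inv_eq_of_mul_eq_one_right (hsq d hdS)]
    have hfix : w * (a * d) * w = a * d := by
      calc w * (a * d) * w = (w * a * w) * (w * d * w) := by simp only [mul_assoc, hw.mul_cancel]
        _ = a * (e * (w * d * w)) := by rw [hedef]; group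
        _ = a * d := by rw [hee]
    have had : a * d ∈ E :=
      Subgroup.subset_closure (Or.inl ⟨mul_mem ha (hSU hdS), hfix⟩)
    simpa using mul_mem had (inv_mem (Subgroup.subset_closure hdS : d ∈ E))
  intro a ha
  set b := a⁻¹ * (w * a * w) with hb
  have hbU : b ∈ U := mul_mem (inv_mem ha) (hwU a ha)
  have hbw : w * b * w = b⁻¹ := by
    rw [hb]
    calc w * (a⁻¹ * (w * a * w)) * w = (w * a⁻¹ * w) * (a * (w * w)) := by simp only [mul_assoc]
      _ = (w⁻¹ * a⁻¹ * w⁻¹) * a := by rw [hw.mul_self, mul_one, hw.inv]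
      _ = _ := by group
  have flipped : ∀ c ∈ U, w * c * w = c⁻¹ → c * c ∈ E → c ∈ E := fun c hc hcw hcc =>
    key c hc (by rw [hcw, ← mul_inv_rev]; exact inv_mem hcc)
  apply key a ha
  have hb2 : b * b ∈ E := by
    refine flipped (b * b) (mul_mem hbU hbU) ?_ ?_
    · calc w * (b * b) * w = (w * b * w) * (w * b * w) := by simp only [mul_assoc, hw.mul_cancel]
        _ = _ := by rw [hbw]; exact (mul_inv_rev b b).symm
    · have h4 : b * b * (b * b) = 1 := by
        rw [← pow_four_of_isPGroup hS hU hbU]; simp only [pow_succ, pow_zero, one_mul, mul_assoc]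
      rw [h4]; exact one_mem E
  exact flipped b hbU hbw hb2

/-- The fixed points of `w` in `U`. -/
theorem exists_fixed (hne : U ≠ ⊥) : ∃ c ∈ U, c ≠ 1 ∧ w * c * w = c := by
  obtain ⟨h2, hc⟩ := elementary hS hx hU hxU hw hwx hwU
  obtain ⟨u, hu, hu1⟩ := (Subgroup.ne_bot_iff_exists_ne_one.mp hne).elim
    fun u hu => (⟨u.1, u.2, fun e => hu (Subtype.ext e)⟩ : ∃ u ∈ U, u ≠ (1 : G))
  by_cases h : u * (w * u * w) = 1
  · refine ⟨u, hu, hu1, ?_⟩
    rw [← inv_eq_of_mul_eq_one_right h, inv_eq_of_mul_eq_one_right (h2 u hu)]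
  · refine ⟨_, mul_mem hu (hwU u hu), h, ?_⟩
    calc w * (u * (w * u * w)) * w = (w * u * w) * (u * (w * w)) := by simp only [mul_assoc]
      _ = _ := by rw [hw.mul_self, mul_one, (hc _ (hwU u hu) u hu).eq]

/-- The subgroup of fixed points. -/
theorem card_eq_fixed_sq :
    Nat.card U = Nat.card (U ⊓ centralizer {w} : Subgroup G) ^ 2 := by
  obtain ⟨h2, hc⟩ := elementary hS hx hU hxU hw hwx hwU
  have f := fpf_of_normalizes hS hx hU hxU
  have hwx' : w * x⁻¹ * w = x := by simpa [Flips] using hwx.inv hw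
  set F : Subgroup G := U ⊓ centralizer {w} with hF
  have hfix : ∀ c, c ∈ F ↔ c ∈ U ∧ w * c * w = c := by
    intro c
    rw [hF, Subgroup.mem_inf, mem_centralizer_singleton_iff]
    refine and_congr_right fun _ => ⟨fun h => ?_, fun h => ?_⟩
    · rw [← h, mul_assoc, hw.mul_self, mul_one]
    · conv_rhs => rw [← h]
      rw [← mul_assoc, ← mul_assoc, hw.mul_self, one_mul]
  let φ : F × F → U := fun p => ⟨(p.1 : G) * (x * (p.2 : G) * x⁻¹),
    mul_mem p.1.2.1 (hxU _ p.2.2.1)⟩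
  have hsplit : ∀ c g : G, c ∈ F → g ∈ F → c = x * g * x⁻¹ → g = 1 := by
    intro c g hcF hgF he
    obtain ⟨-, hcw⟩ := (hfix c).mp hcF
    obtain ⟨hgU, hgw⟩ := (hfix g).mp hgF
    rw [he] at hcw
    have h : x⁻¹ * g * x = x * g * x⁻¹ := by
      rw [← hcw]
      calc x⁻¹ * g * x = (w * x * w) * (w * g * w) * (w * x⁻¹ * w) := by rw [hwx, hgw, hwx']
        _ = _ := by simp only [mul_assoc, hw.mul_cancel]
    refine f.fpf g hgU ?_
    have e : x * (x * g * x⁻¹) * x⁻¹ = g := by rw [← h]; group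
    rw [show x * (x * g * x⁻¹) * x⁻¹ = (x * x) * g * (x * x)⁻¹ by group, hx.sq, inv_inv, h] at e
    exact e
  have hinj : Function.Injective φ := by
    rintro ⟨c, d⟩ ⟨c', d'⟩ e
    have e' : (c : G) * (x * d * x⁻¹) = c' * (x * d' * x⁻¹) := congrArg Subtype.val e
    have h : (c' : G)⁻¹ * c = x * ((d' : G) * (d : G)⁻¹) * x⁻¹ := by
      calc (c' : G)⁻¹ * c = (c' : G)⁻¹ * (c * (x * d * x⁻¹)) * (x * d * x⁻¹)⁻¹ := by group
        _ = _ := by rw [e']; group
    have h1 := hsplit _ _ (mul_mem (inv_mem c'.2) c.2) (mul_mem d'.2 (inv_mem d.2)) h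
    rw [h1, mul_one, mul_inv_cancel, inv_mul_eq_one] at h
    exact Prod.ext (Subtype.ext h.symm) (Subtype.ext (mul_inv_eq_one.mp h1).symm)
  have hsurj : Function.Surjective φ := by
    intro u
    have hu := u.2
    set g := (u : G) * (w * u * w) with hg
    have hgU : g ∈ U := mul_mem hu (hwU _ hu)
    have hgw : w * g * w = g := by
      rw [hg]
      calc w * ((u : G) * (w * u * w)) * w = (w * u * w) * ((u : G) * (w * w)) := by
            simp only [mul_assoc]
        _ = _ := by rw [hw.mul_self, mul_one, (hc _ (hwU _ hu) _ hu).eq]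
    have hxg := hxU g hgU
    have hgg : g * (x⁻¹ * g * x) = x * g * x⁻¹ := by
      have h := f.norm_eq_one hgU
      rw [(hc g hgU _ hxg).eq, mul_assoc] at h
      rw [← inv_eq_of_mul_eq_one_right h, inv_eq_of_mul_eq_one_right (h2 _ hxg)]
    have hfF : (u : G) * (x * g * x⁻¹) ∈ F := by
      refine (hfix _).mpr ⟨mul_mem hu hxg, ?_⟩
      calc w * ((u : G) * (x * g * x⁻¹)) * w
          = (w * u * w) * ((w * x * w) * (w * g * w) * (w * x⁻¹ * w)) := by
            simp only [mul_assoc, hw.mul_cancel]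
        _ = (w * u * w) * (x⁻¹ * g * x) := by rw [hwx, hgw, hwx']
        _ = (u : G) * ((u : G) * (w * u * w)) * (x⁻¹ * g * x) := by
            rw [← mul_assoc (u : G), h2 _ hu, one_mul]
        _ = (u : G) * (g * (x⁻¹ * g * x)) := by rw [← hg, mul_assoc]
        _ = _ := by rw [hgg]
    refine ⟨(⟨_, hfF⟩, ⟨g, (hfix g).mpr ⟨hgU, hgw⟩⟩), Subtype.ext ?_⟩
    show (u : G) * (x * g * x⁻¹) * (x * g * x⁻¹) = u
    rw [mul_assoc, h2 _ hxg, mul_one]
  rw [pow_two, ← Nat.card_prod]
  exact (Nat.card_congr (Equiv.ofBijective φ ⟨hinj, hsurj⟩)).symm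

end Centralisers

end Cfsg.Agent.RecogFive
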