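import Cfsg.Agent.Lib.RecogFive.Numbers
import Cfsg.Agent.FT62.Basic

/-!
# Two-subgroups stable under an element of order three

If nothing in `M` inverts `x` then `M` has a normal `3`-complement, so a maximal `x`-stable
`2`-subgroup of `M` is a Sylow subgroup of `M`, and is unique.
-/

set_option autoImplicit false
set_option linter.unusedSectionVars false
set_option linter.style.haveILetI false

namespace Cfsg.Agent.RecogFive

open Subgroup

variable {G : Type*} [Group G] {x w z : G} {U T M : Subgroup G}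

/-- `x` maps `U` into itself. -/
def Stable (x : G) (U : Subgroup G) : Prop := ∀ n ∈ U, x * n * x⁻¹ ∈ U

/-- A maximal stable `2`-subgroup of `M`. -/
structure MaxIn (x : G) (M U : Subgroup G) : Prop where
  le : U ≤ M
  isP : IsPGroup 2 U
  stable : Stable x U
  max : ∀ V : Subgroup G, V ≤ M → IsPGroup 2 V → Stable x V → U ≤ V → V = U

variable [Finite G]

theorem Stable.inv (hx : El3 x) (h : Stable x U) {n : G} (hn : n ∈ U) : x⁻¹ * n * x ∈ U := by
  have h1 := h _ (h n hn)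
  rwa [show x * (x * n * x⁻¹) * x⁻¹ = (x * x) * n * (x * x)⁻¹ by group, hx.sq, inv_inv] at h1

theorem Stable.mem_normalizer (hx : El3 x) (h : Stable x U) :
    x ∈ normalizer (U : Set G) := by
  rw [mem_normalizer_iff]
  intro n
  refine ⟨fun hn => h n hn, fun hn => ?_⟩
  have := Stable.inv hx h hn
  simpa [mul_assoc] using this

theorem stable_of_mem_normalizer (h : x ∈ normalizer (U : Set G)) : Stable x U :=
  fun n hn => (mem_normalizer_iff.mp h n).mp hn

/-- Two-groups grow inside normalisers. -/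
theorem exists_mem_normalizer (hT : IsPGroup 2 T) (hUT : U ≤ T) (hne : U ≠ T) :
    ∃ t ∈ T, t ∉ U ∧ t ∈ normalizer (U : Set G) := by
  haveI := Fact.mk Nat.prime_two
  haveI : Group.IsNilpotent T := hT.isNilpotent
  have hlt : U.subgroupOf T < ⊤ :=
    lt_top_iff_ne_top.mpr fun e => hne (le_antisymm hUT (subgroupOf_eq_top.mp e))
  obtain ⟨t, htN, htU⟩ :=
    SetLike.exists_of_lt (Group.normalizerCondition_of_isNilpotent (G := T) _ hlt)
  refine ⟨t, t.2, fun h => htU h, ?_⟩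
  rw [mem_normalizer_iff]
  intro n
  constructor
  · intro hn
    exact (mem_normalizer_iff.mp htN ⟨n, hUT hn⟩).mp hn
  · intro hn
    have hnT : n ∈ T := by
      have h1 := mul_mem (mul_mem (inv_mem t.2) (hUT hn)) t.2
      rwa [show (t : G)⁻¹ * (t * n * (t : G)⁻¹) * t = n by group] at h1
    exact (mem_normalizer_iff.mp htN ⟨n, hnT⟩).mpr hn

/-- The subgroup of `normalizer U` generated by `U` and a two-subgroup. -/
theorem sup_isPGroup {p : ℕ} (hU : IsPGroup p U) (hT : IsPGroup p T)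
    (h : T ≤ normalizer (U : Set G)) : IsPGroup p (T ⊔ U : Subgroup G) :=
  hT.to_sup_of_normal_right' hU h

theorem exists_maxIn (hU : IsPGroup 2 U) (hs : Stable x U) (hle : U ≤ M) :
    ∃ V, U ≤ V ∧ MaxIn x M V := by
  obtain ⟨V, hUV, hV⟩ := Finite.exists_le_maximal
    (p := fun V : Subgroup G => V ≤ M ∧ IsPGroup 2 V ∧ Stable x V) ⟨hle, hU, hs⟩
  exact ⟨V, hUV, hV.1.1, hV.1.2.1, hV.1.2.2, fun W h1 h2 h3 h4 =>
    le_antisymm (hV.2 ⟨h1, h2, h3⟩ h4) h4⟩

namespace Hyp

variable (H : Hyp G)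
include H

/-- The centraliser of `x` in a `2`-local is `⟨x⟩`. -/
theorem alone (hx : El3 x) (hU : IsPGroup 2 U) (hne : U ≠ ⊥) (hs : Stable x U) {c : G}
    (hc : c ∈ normalizer (U : Set G)) (hcx : Commute c x) : c ∈ zpowers x := by
  by_cases h1 : c = 1
  · rw [h1]; exact one_mem _
  by_cases h2 : c = x
  · rw [h2]; exact mem_zpowers x
  by_cases h3 : c = x⁻¹
  · rw [h3]; exact inv_mem (mem_zpowers x)
  exact absurd (no_nine H.spec hx (el3_of_mem_C H.spec hx (mem_C.mpr hcx) h1) hcx.symm h2 h3 hU hs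
    (stable_of_mem_normalizer hc)) hne

omit H in
theorem selfCent (hx : El3 x) (hxM : x ∈ M)
    (hA : ∀ c ∈ M, Commute c x → c ∈ zpowers x) : FT62.SelfCent (⟨x, hxM⟩ : M) := by
  refine ⟨by rw [Subgroup.orderOf_mk, hx.orderOf], fun g hg => ?_⟩
  obtain ⟨k, hk⟩ := mem_zpowers_iff.mp (hA g g.2 (congrArg Subtype.val hg.eq))
  exact mem_zpowers_iff.mpr ⟨k, Subtype.ext (by rw [Subgroup.coe_zpow]; exact hk)⟩

/-- Without inverters, maximal stable `2`-subgroups are Sylow subgroups. -/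
theorem max_sylow (hx : El3 x) (hxM : x ∈ M) (hA : ∀ c ∈ M, Commute c x → c ∈ zpowers x)
    (hno : ∀ g ∈ M, g * x * g⁻¹ ≠ x⁻¹) (hU : MaxIn x M U) (hT : IsPGroup 2 T) (hTM : T ≤ M)
    (hUT : U ≤ T) : T = U := by
  haveI := Fact.mk Nat.prime_two
  haveI := Fact.mk Nat.prime_three
  by_contra hne
  obtain ⟨t, htT, htU, htN⟩ := exists_mem_normalizer hT hUT (fun e => hne e.symm)
  set M0 := M ⊓ normalizer (U : Set G) with hM0
  have hxM0 : x ∈ M0 := ⟨hxM, Stable.mem_normalizer hx hU.stable⟩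
  have hS : FT62.SelfCent (⟨x, hxM0⟩ : M0) := selfCent hx hxM0 fun c hc => hA c hc.1
  obtain ⟨R, hRn, hxR, hRi⟩ := hS.exists_complement (by
    rintro ⟨g, hg⟩
    exact hno g g.2.1 (congrArg Subtype.val hg))
  haveI := hRn
  have hmem : ∀ p : M0, IsPGroup 2 (zpowers p) → p ∈ R := by
    intro p hp
    have h1 : (p : M0) ^ R.index ∈ R := Subgroup.pow_index_mem R p
    rw [hRi] at h1
    obtain ⟨k, hk⟩ := IsPGroup.iff_orderOf.mp hp ⟨p, mem_zpowers p⟩
    rw [Subgroup.orderOf_mk] at hk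
    have h2 : orderOf (p ^ 3) = orderOf p :=
      Nat.Coprime.orderOf_pow (hk ▸ Nat.Coprime.pow_left k (by norm_num))
    have h3 : zpowers (p ^ 3) = zpowers p := Subgroup.eq_of_le_of_card_ge
      (zpowers_le.mpr (pow_mem (mem_zpowers p) 3)) (by rw [Nat.card_zpowers, Nat.card_zpowers, h2])
    exact (zpowers_le.mpr h1) (h3 ▸ mem_zpowers p)
  -- a Sylow subgroup of `R` containing `U` and `t`
  set A : Subgroup G := zpowers t ⊔ U with hA'
  have hAp : IsPGroup 2 A := sup_isPGroup hU.isP (hT.to_le (zpowers_le.mpr htT))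
    (zpowers_le.mpr htN)
  have hAM0 : A ≤ M0 := sup_le (zpowers_le.mpr ⟨hTM htT, htN⟩) (le_inf hU.le le_normalizer)
  have hAR : A.subgroupOf M0 ≤ R := fun a ha => hmem a
    ((hAp.comap_subtype (K := M0)).to_le (zpowers_le.mpr ha))
  set A' : Subgroup R := (A.subgroupOf M0).subgroupOf R with hA''
  have hA'p : IsPGroup 2 A' := (hAp.comap_subtype (K := M0)).comap_subtype
  obtain ⟨P, hP⟩ := hA'p.exists_le_sylow
  have hfr := Sylow.normalizer_sup_eq_top P
  set Q : Subgroup M0 := (P : Subgroup R).map R.subtype with hQ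
  have hQR : Q ≤ R := map_subtype_le _
  -- the normaliser of `Q` meets the nontrivial coset
  have hex : ∃ n ∈ normalizer (Q : Set M0), n ∉ R := by
    by_contra hcon
    push Not at hcon
    have : normalizer (Q : Set M0) ⊔ R = R := sup_eq_right.mpr hcon
    rw [hfr] at this
    exact hxR (this ▸ mem_top _)
  obtain ⟨n, hnQ, hnR⟩ := hex
  set N := normalizer (Q : Set M0) with hN
  have h3N : 3 ∣ Nat.card N := by
    refine dvd_trans ?_ (orderOf_dvd_natCard (⟨n, hnQ⟩ : N))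
    rw [Subgroup.orderOf_mk]
    have hmk : orderOf (QuotientGroup.mk' R n) = 3 := by
      refine orderOf_eq_prime ?_ ?_
      · rw [← map_pow, ← hRi]
        exact (QuotientGroup.eq_one_iff _).mpr (Subgroup.pow_index_mem R n)
      · exact fun e => hnR ((QuotientGroup.eq_one_iff n).mp e)
    exact hmk ▸ orderOf_map_dvd _ n
  obtain ⟨⟨y, hyN⟩, hy⟩ := exists_prime_orderOf_dvd_card' 3 h3N
  rw [Subgroup.orderOf_mk] at hy
  obtain ⟨g, hg⟩ := hS.conj_of_orderOf hy
  -- so `x` normalises a conjugate of `Q`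
  set Q' : Subgroup G :=
    (Q.map (MulAut.conj g⁻¹).toMonoidHom).map M0.subtype with hQ'
  have hyQ : ∀ q ∈ Q, y * q * y⁻¹ ∈ Q := fun q hq => (mem_normalizer_iff.mp hyN q).mp hq
  have hyQ' : ∀ q ∈ Q, y⁻¹ * q * y ∈ Q := fun q hq =>
    (mem_normalizer_iff''.mp hyN q).mp hq
  have hstab : Stable x Q' := by
    intro a ha
    obtain ⟨b, ⟨q, hq, rfl⟩, rfl⟩ := ha
    set X : M0 := ⟨x, hxM0⟩ with hX
    have key : X * (g⁻¹ * q * g) * X⁻¹ ∈ Q.map (MulAut.conj g⁻¹).toMonoidHom := by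
      rcases hg with e | e
      · refine ⟨y * q * y⁻¹, hyQ q hq, ?_⟩
        simp only [MulEquiv.coe_toMonoidHom, MulAut.conj_apply]
        rw [e]; group
      · refine ⟨y⁻¹ * q * y, hyQ' q hq, ?_⟩
        simp only [MulEquiv.coe_toMonoidHom, MulAut.conj_apply]
        rw [e]; group
    refine ⟨_, key, ?_⟩
    simp [hX, MulAut.conj_apply]
  have hUQ : U ≤ Q' := by
    intro u hu
    have hu0 : u ∈ M0 := ⟨hU.le hu, le_normalizer hu⟩
    have h1 : (g : G) * u * (g : G)⁻¹ ∈ U := (mem_normalizer_iff.mp g.2.2 u).mp hu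
    have h1A : (⟨(g : G) * u * (g : G)⁻¹, hAM0 ((le_sup_right : U ≤ A) h1)⟩ : M0) ∈
        A.subgroupOf M0 := (le_sup_right : U ≤ A) h1
    have h2 : (⟨(g : G) * u * (g : G)⁻¹, hAM0 ((le_sup_right : U ≤ A) h1)⟩ : M0) ∈ Q :=
      ⟨⟨_, hAR h1A⟩, hP h1A, rfl⟩
    refine ⟨⟨u, hu0⟩, ⟨_, h2, ?_⟩, rfl⟩
    ext
    simp [MulAut.conj_apply]
    group
  have hQ'M : Q' ≤ M := fun a ha => by
    obtain ⟨b, -, rfl⟩ := ha
    exact b.2.1
  have hQ'p : IsPGroup 2 Q' := ((P.2.map _).map _).map _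
  have heq := hU.max Q' hQ'M hQ'p hstab hUQ
  have hcardQ : Nat.card Q' = Nat.card (P : Subgroup R) := by
    rw [hQ', card_map_of_injective M0.subtype_injective,
      card_map_of_injective (MulEquiv.injective _), hQ, card_map_of_injective R.subtype_injective]
  have hcardA : Nat.card A ≤ Nat.card U := by
    rw [← heq, hcardQ]
    refine le_trans (le_of_eq ?_) (Nat.le_of_dvd Nat.card_pos (card_dvd_of_le hP))
    rw [hA'', Nat.card_congr (subgroupOfEquivOfLe hAR).toEquiv,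
      Nat.card_congr (subgroupOfEquivOfLe hAM0).toEquiv]
  have := Subgroup.eq_of_le_of_card_ge (le_sup_right : U ≤ A) hcardA
  exact htU (this ▸ (le_sup_left : zpowers t ≤ A) (mem_zpowers t))

/-- Without inverters, the maximal stable `2`-subgroup is unique. -/
theorem max_unique (hx : El3 x) (hxM : x ∈ M) (hA : ∀ c ∈ M, Commute c x → c ∈ zpowers x)
    (hno : ∀ g ∈ M, g * x * g⁻¹ ≠ x⁻¹) {U' : Subgroup G} (hU : MaxIn x M U) (hU' : MaxIn x M U') :
    U = U' := by
  haveI := Fact.mk Nat.prime_two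
  have hsyl : ∀ {V : Subgroup G}, MaxIn x M V →
      ∃ P : Sylow 2 M, (P : Subgroup M) = V.subgroupOf M := by
    intro V hV
    obtain ⟨P, hP⟩ := (hV.isP.comap_subtype (K := M)).exists_le_sylow
    refine ⟨P, ?_⟩
    have h := max_sylow H hx hxM hA hno hV (P.2.map M.subtype) (map_subtype_le _) (by
      intro v hv
      exact ⟨⟨v, hV.le hv⟩, hP hv, rfl⟩)
    ext m
    rw [mem_subgroupOf, ← h]
    exact (mem_map_iff_mem M.subtype_injective).symm
  obtain ⟨P, hP⟩ := hsyl hU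
  obtain ⟨P', hP'⟩ := hsyl hU'
  obtain ⟨m, hm⟩ := MulAction.exists_smul_eq M P P'
  have hconj : ∀ u ∈ U, (m : G) * u * (m : G)⁻¹ ∈ U' := by
    intro u hu
    have h2 : m * ⟨u, hU.le hu⟩ * m⁻¹ ∈ (P' : Subgroup M) := by
      rw [← hm]
      exact ⟨⟨u, hU.le hu⟩, hP.symm ▸ (mem_subgroupOf.mpr hu), rfl⟩
    rw [hP', mem_subgroupOf] at h2
    simpa using h2
  have hcard : Nat.card U = Nat.card U' := by
    rw [← Nat.card_congr (subgroupOfEquivOfLe hU.le).toEquiv,
      ← Nat.card_congr (subgroupOfEquivOfLe hU'.le).toEquiv, ← hP, ← hP',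
      P.card_eq_multiplicity, P'.card_eq_multiplicity]
  have hmap : U.map (MulAut.conj (m : G)).toMonoidHom = U' := by
    refine Subgroup.eq_of_le_of_card_ge ?_ ?_
    · rintro _ ⟨u, hu, rfl⟩; exact hconj u hu
    · rw [card_map_of_injective (MulEquiv.injective _), hcard]
  suffices h : (m : G) ∈ normalizer (U : Set G) by
    refine Subgroup.eq_of_le_of_card_ge ?_ hcard.ge
    intro u hu
    have h1 := hconj _ ((mem_normalizer_iff''.mp h u).mp hu)
    rwa [show (m : G) * ((m : G)⁻¹ * u * m) * (m : G)⁻¹ = u by group] at h1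
  -- `m⁻¹ x m` also normalises `U`
  set M0 := M ⊓ normalizer (U : Set G) with hM0
  have hxM0 : x ∈ M0 := ⟨hxM, Stable.mem_normalizer hx hU.stable⟩
  have hS : FT62.SelfCent (⟨x, hxM0⟩ : M0) := selfCent hx hxM0 fun c hc => hA c hc.1
  have hx'3 : El3 ((m : G)⁻¹ * x * m) := by simpa using hx.conj (m : G)⁻¹
  have hx'M0 : (m : G)⁻¹ * x * m ∈ M0 := by
    refine Subgroup.mem_inf.mpr
      ⟨mul_mem (mul_mem (inv_mem m.2) hxM) m.2, Stable.mem_normalizer hx'3 fun u hu => ?_⟩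
    have h1 := hU'.stable _ (hconj u hu)
    rw [← hmap] at h1
    obtain ⟨v, hv, hve⟩ := h1
    have hve' : (m : G) * v * (m : G)⁻¹ = x * (m * u * (m : G)⁻¹) * x⁻¹ := hve
    have : (m : G)⁻¹ * x * m * u * ((m : G)⁻¹ * x * m)⁻¹ = v := by
      calc (m : G)⁻¹ * x * m * u * ((m : G)⁻¹ * x * m)⁻¹
          = (m : G)⁻¹ * (x * (m * u * (m : G)⁻¹) * x⁻¹) * m := by group
        _ = (m : G)⁻¹ * (m * v * (m : G)⁻¹) * m := by rw [hve']
        _ = v := by group
    rw [this]; exact hv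
  obtain ⟨g, hg⟩ := hS.conj_of_orderOf (y := (⟨_, hx'M0⟩ : M0))
    (by rw [Subgroup.orderOf_mk, hx'3.orderOf])
  have hmgM : (m : G) * g ∈ M := mul_mem m.2 g.2.1
  rcases hg with e | e
  · have e' : (m : G)⁻¹ * x * m = g * x * (g : G)⁻¹ := congrArg Subtype.val e
    have hc : Commute ((m : G) * g) x := by
      show _ = _
      calc (m : G) * g * x = m * (g * x * (g : G)⁻¹) * g := by group
        _ = m * ((m : G)⁻¹ * x * m) * g := by rw [e']
        _ = _ := by group
    have h1 := (zpowers_le.mpr (Stable.mem_normalizer hx hU.stable)) (hA _ hmgM hc)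
    have := mul_mem h1 (inv_mem g.2.2)
    rwa [mul_inv_cancel_right] at this
  · exfalso
    have e' : (m : G)⁻¹ * x * m = g * x⁻¹ * (g : G)⁻¹ := congrArg Subtype.val e
    apply hno _ hmgM
    calc (m : G) * g * x * ((m : G) * g)⁻¹ = m * (g * x⁻¹ * (g : G)⁻¹)⁻¹ * (m : G)⁻¹ := by group
      _ = m * ((m : G)⁻¹ * x * m)⁻¹ * (m : G)⁻¹ := by rw [e']
      _ = x⁻¹ := by group

/-- A maximal stable `2`-subgroup is normalised by an inverter or is a Sylow subgroup. -/
theorem dichotomy (hx : El3 x) (hU : MaxIn x ⊤ U) (hne : U ≠ ⊥) :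
    (∃ w ∈ Iv x, ∀ n ∈ U, w * n * w ∈ U) ∨ ∀ T : Subgroup G, IsPGroup 2 T → U ≤ T → T = U := by
  set M := normalizer (U : Set G) with hM
  by_cases hno : ∀ g ∈ M, g * x * g⁻¹ ≠ x⁻¹
  · right
    intro T hT hUT
    by_contra hTU
    obtain ⟨t, htT, htU, htN⟩ := exists_mem_normalizer hT hUT (fun e => hTU e.symm)
    have hUM : MaxIn x M U :=
      ⟨le_normalizer, hU.isP, hU.stable, fun V _ h2 h3 h4 => hU.max V le_top h2 h3 h4⟩
    have h := max_sylow H hx (Stable.mem_normalizer hx hU.stable)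
      (fun c hc hcx => H.alone hx hU.isP hne hU.stable hc hcx) hno hUM
      (T := zpowers t ⊔ U)
      (sup_isPGroup hU.isP (hT.to_le (zpowers_le.mpr htT)) (zpowers_le.mpr htN))
      (sup_le (zpowers_le.mpr htN) le_normalizer) le_sup_right
    exact htU (h ▸ (le_sup_left : zpowers t ≤ zpowers t ⊔ U) (mem_zpowers t))
  · push Not at hno
    obtain ⟨g, hgM, hg⟩ := hno
    have hgi := H.spec.inv2_of_flip hx hg
    refine Or.inl ⟨g, ⟨hgi, ?_⟩, fun n hn => ?_⟩
    · show g * x * g = x⁻¹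
      rw [← hg, hgi.inv]
    · have := (mem_normalizer_iff.mp hgM n).mp hn
      rwa [hgi.inv] at this

end Hyp

end Cfsg.Agent.RecogFive
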