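import Cfsg.Agent.Lib.RecogFive.Quot

/-!
# A large four-group centraliser: Sylow order `64` and a bound on `q`
-/

set_option autoImplicit false
set_option linter.unusedSectionVars false
set_option linter.style.haveILetI false

namespace Cfsg.Agent.RecogFive

open Subgroup

variable {G : Type*} [Group G] [Finite G]

/-- In a `2`-subgroup stable under an element of order three `a · pap⁻¹` is central, for `a` in an
elementary abelian normal subgroup `A`. -/
theorem central_comm (hG : Spec5 G) {x : G} (hx : El3 x) {S A : Subgroup G} (hS : IsPGroup 2 S)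
    (hs : Stable x S) (hAS : A ≤ S) (hnorm : ∀ s ∈ S, ∀ a ∈ A, s * a * s⁻¹ ∈ A)
    (hA2 : ∀ a ∈ A, a * a = 1) (hAc : ∀ a ∈ A, ∀ b ∈ A, Commute a b) {a p s : G} (ha : a ∈ A)
    (hp : p ∈ S) (hsS : s ∈ S) : Commute s (a * (p * a * p⁻¹)) := by
  -- squares centralise `A`
  have hsq : ∀ r ∈ S, ∀ b ∈ A, r * r * b * (r * r)⁻¹ = b := by
    intro r hr b hb
    have h := (engel hG hx hS hs hr (hAS hb)).eq
    rw [inv_eq_of_mul_eq_one_right (hA2 b hb)] at h
    set β := r * b * r⁻¹ with hβ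
    have hβA : β ∈ A := hnorm r hr b hb
    have hγA : r * β * r⁻¹ ∈ A := hnorm r hr β hβA
    -- `r` commutes with `b · β`
    have h2 : r * (b * β) * r⁻¹ = b * β := by
      have e1 : r * (b * r * b) * r⁻¹ = b * r * b := by rw [h, mul_inv_cancel_right]
      have e2 : b * r * b = b * β * r := by rw [hβ]; group
      rw [e2] at e1
      calc r * (b * β) * r⁻¹ = (r * (b * β * r) * r⁻¹) * r⁻¹ := by group
        _ = b * β * r * r⁻¹ := by rw [e1]
        _ = b * β := by group
    have h3 : β * (r * β * r⁻¹) = β * b := by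
      calc β * (r * β * r⁻¹) = r * (b * β) * r⁻¹ := by rw [hβ]; group
        _ = b * β := h2
        _ = β * b := (hAc b hb β hβA).eq
    calc r * r * b * (r * r)⁻¹ = r * β * r⁻¹ := by rw [hβ]; group
      _ = b := mul_left_cancel h3
  set s' := p * s * p⁻¹ with hs'
  have hs'S : s' ∈ S := mul_mem (mul_mem hp hsS) (inv_mem hp)
  -- `s'` acts on `A` as `s` does
  have hact : ∀ b ∈ A, s' * b * s'⁻¹ = s * b * s⁻¹ := by
    intro b hb
    have hb1 := hnorm p⁻¹ (inv_mem hp) b hb
    have hb2 : ∀ r ∈ S, ∀ b ∈ A, r⁻¹ * b * r = r * b * r⁻¹ := by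
      intro r hr b hb
      calc r⁻¹ * b * r = r⁻¹ * (r * r * b * (r * r)⁻¹) * r := by rw [hsq r hr b hb]
        _ = r * b * r⁻¹ := by group
    have hc1 : s * b * s⁻¹ ∈ A := hnorm s hsS b hb
    calc s' * b * s'⁻¹ = p * (s * (p⁻¹ * b * p) * s⁻¹) * p⁻¹ := by rw [hs']; group
      _ = p * (s * (p * b * p⁻¹) * s⁻¹) * p⁻¹ := by rw [hb2 p hp b hb]
      _ = p * s * p * b * (p * s * p)⁻¹ := by group
      _ = (p * s) * (p * s) * (s⁻¹ * b * s) * ((p * s) * (p * s))⁻¹ := by group
      _ = s⁻¹ * b * s := by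
          rw [hsq (p * s) (mul_mem hp hsS) _ ?_]
          exact (by simpa using hnorm s⁻¹ (inv_mem hsS) b hb)
      _ = s * b * s⁻¹ := hb2 s hsS b hb
  set a' := p * a * p⁻¹ with ha'
  have ha'A : a' ∈ A := hnorm p hp a ha
  have haa : ∀ b ∈ A, b⁻¹ = b := fun b hb => inv_eq_of_mul_eq_one_right (hA2 b hb)
  have hg : Commute (s * a) (s' * a') := by
    have h := engel hG hx hS hs (mul_mem hsS (hAS ha)) hp
    rwa [show p * (s * a) * p⁻¹ = s' * a' by rw [hs', ha']; group] at h
  have hss : Commute s s' := engel hG hx hS hs hsS hp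
  have hs_inv : ∀ r ∈ S, ∀ b ∈ A, r⁻¹ * b * r = r * b * r⁻¹ := by
    intro r hr b hb
    calc r⁻¹ * b * r = r⁻¹ * (r * r * b * (r * r)⁻¹) * r := by rw [hsq r hr b hb]
      _ = r * b * r⁻¹ := by group
  have e1 : s * a * (s' * a') = s * s' * (s * a * s⁻¹ * a') := by
    calc s * a * (s' * a') = s * s' * (s'⁻¹ * a * s' * a') := by group
      _ = _ := by rw [hs_inv s' hs'S a ha, hact a ha]
  have e2 : s' * a' * (s * a) = s * s' * (s * a' * s⁻¹ * a) := by
    calc s' * a' * (s * a) = s' * s * (s⁻¹ * a' * s * a) := by group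
      _ = _ := by rw [hs_inv s hsS a' ha'A, hss.eq]
  have h : s * a * s⁻¹ * a' = s * a' * s⁻¹ * a := mul_left_cancel (e1.symm.trans (hg.eq.trans e2))
  have hsa := hnorm s hsS a ha
  have hsa' := hnorm s hsS a' ha'A
  show s * (a * a') = a * a' * s
  rw [← mul_inv_eq_iff_eq_mul, show s * (a * a') * s⁻¹ = (s * a * s⁻¹) * (s * a' * s⁻¹) by group]
  calc s * a * s⁻¹ * (s * a' * s⁻¹) = s * a' * s⁻¹ * (s * a * s⁻¹) := (hAc _ hsa _ hsa').eq
    _ = s * a' * s⁻¹ * (s * a * s⁻¹ * (a' * a')) := by rw [hA2 a' ha'A, mul_one]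
    _ = s * a' * s⁻¹ * (s * a * s⁻¹ * a') * a' := by simp only [mul_assoc]
    _ = (s * a' * s⁻¹) * (s * a' * s⁻¹) * a * a' := by rw [h]; simp only [mul_assoc]
    _ = a * a' := by rw [hA2 _ hsa', one_mul]

namespace Hyp

variable (H : Hyp G) {x v w : G}
include H

set_option maxHeartbeats 1000000 in
theorem large_case (D : S4Data x v w) (hf : 4 ≤ Nat.card (FF x v w)) :
    Nat.card (C v) = 64 ∧ ∃ q b : ℕ, 1 ≤ b ∧ q = 5 ^ b ∧ q ≤ 117 ∧ Nat.card G = 9 * q * 64 := by
  classical
  haveI := Fintype.ofFinite G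
  obtain ⟨S, s, w', hS, hmax, hUS, hsS, hsU, hw'i, hw'U, hdd⟩ := H.exists_S D hf
  obtain ⟨hU2, hUc⟩ := H.U_elementary D
  have hSne : S ≠ ⊥ := fun e => H.U_ne_bot D (le_bot_iff.mp (e ▸ hUS))
  obtain ⟨z, hz⟩ := centralIn_nonempty H.spec hS.isP hSne
  have hCz := H.C_eq_of_central hS.isP hz hmax
  have hc3 := H.ncard_centralIn D.hx hS.isP hS.stable hSne hmax
  have hσ : Nat.card (C v) = Nat.card S := by
    rw [← hCz]; exact H.card_C_eq_C D.hv.1 hz.1
  set u := x * v * x⁻¹ with hu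
  have hvS : v ∈ S := hUS (H.mem_U D).1
  have huS : u ∈ S := hUS (H.mem_U D).2
  -- central elements
  set Z : Finset G := Finset.univ.filter fun a => a = 1 ∨ a ∈ centralIn S with hZ
  have hZ4 : Z.card = 4 := by
    have h : {a : G | a = 1 ∨ a ∈ centralIn S} = insert 1 (centralIn S) := rfl
    rw [hZ, ← ncard_setOf_eq, h, Set.ncard_insert_of_notMem (fun h => h.1.ne rfl), hc3]
  have hZU : ∀ a ∈ Z, a ∈ FU x v ∧ ∀ r ∈ S, Commute r a := by
    intro a ha
    simp only [hZ, Finset.mem_filter, Finset.mem_univ, true_and] at ha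
    rcases ha with rfl | ha
    · exact ⟨one_mem _, fun r _ => Commute.one_right r⟩
    · exact ⟨⟨mem_C.mpr (mem_C.mp (ha.2.2 hvS)).symm, mem_C.mpr (mem_C.mp (ha.2.2 huS)).symm⟩,
        fun r hr => mem_C.mp (ha.2.2 hr)⟩
  have hnorm : ∀ r ∈ S, ∀ a ∈ FU x v, r * a * r⁻¹ ∈ FU x v := fun r hr a ha =>
    ⟨mem_C.mpr (commute_conj_of_mem H.spec D.hx hS.isP hS.stable hvS (hUS ha) hr
        (mem_C.mp ha.1).symm).symm,
      mem_C.mpr (commute_conj_of_mem H.spec D.hx hS.isP hS.stable huS (hUS ha) hr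
        (mem_C.mp ha.2).symm).symm⟩
  have hmemZ : ∀ a ∈ FU x v, ∀ p ∈ S, a * (p * a * p⁻¹) ∈ Z := by
    intro a ha p hp
    simp only [hZ, Finset.mem_filter, Finset.mem_univ, true_and]
    by_cases h1 : a * (p * a * p⁻¹) = 1
    · exact Or.inl h1
    · have hm := mul_mem ha (hnorm p hp a ha)
      refine Or.inr ⟨⟨hU2 _ hm, h1⟩, hUS hm, fun r hr => mem_C.mpr ?_⟩
      exact central_comm H.spec D.hx hS.isP hS.stable hUS hnorm hU2 hUc ha hp hr
  -- `|U| ≤ 16`
  set K := FU x v ⊓ C s with hK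
  set Uf : Finset G := Finset.univ.filter fun a => a ∈ FU x v with hUf
  set Kf : Finset G := Finset.univ.filter fun a => a ∈ K with hKf
  have hUfc : Uf.card = Nat.card (FU x v) := by
    rw [hUf, ← ncard_setOf_eq]; exact (Nat.card_coe_set_eq _).symm
  have hKfc : Kf.card = Nat.card K := by
    rw [hKf, ← ncard_setOf_eq]; exact (Nat.card_coe_set_eq _).symm
  have hinv : ∀ a ∈ FU x v, a⁻¹ = a := fun a ha => inv_eq_of_mul_eq_one_right (hU2 a ha)
  have hU4K : Nat.card (FU x v) ≤ 4 * Nat.card K := by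
    have hmaps : ∀ a ∈ Uf, a * (s * a * s⁻¹) ∈ Z := fun a ha =>
      hmemZ a (Finset.mem_filter.mp ha).2 s hsS
    rw [← hUfc, Finset.card_eq_sum_card_fiberwise hmaps, ← hKfc, ← hZ4]
    refine le_trans (Finset.sum_le_card_nsmul _ _ Kf.card fun b _ => ?_) (le_of_eq (smul_eq_mul _ _))
    by_cases hne : (Uf.filter fun a => a * (s * a * s⁻¹) = b).Nonempty
    · obtain ⟨a₀, ha₀⟩ := hne
      simp only [hUf, Finset.mem_filter, Finset.mem_univ, true_and] at ha₀
      refine Finset.card_le_card_of_injOn (fun a => a₀ * a) (fun a ha => ?_)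
        (fun a _ a' _ h => mul_left_cancel h)
      simp only [Finset.mem_coe, hUf, Finset.mem_filter, Finset.mem_univ, true_and] at ha
      simp only [Finset.mem_coe, hKf, Finset.mem_filter, Finset.mem_univ, true_and]
      refine Subgroup.mem_inf.mpr ⟨mul_mem ha₀.1 ha.1, mem_C.mpr ?_⟩
      have e := ha₀.2.trans ha.2.symm
      have hA0 := hnorm s hsS a₀ ha₀.1
      have hA := hnorm s hsS a ha.1
      have e'' : s * (a₀ * a) * s⁻¹ = a₀ * a := by
        rw [show s * (a₀ * a) * s⁻¹ = (s * a₀ * s⁻¹) * (s * a * s⁻¹) by group]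
        symm
        generalize s * a₀ * s⁻¹ = A at e hA0 ⊢
        generalize s * a * s⁻¹ = B at e hA ⊢
        calc a₀ * a = a₀ * (A * A) * a := by rw [hU2 A hA0, mul_one]
          _ = (a₀ * A) * (a * A) := by
              rw [(hUc a ha.1 A hA0).eq]; simp only [mul_assoc]
          _ = a * (B * a) * A := by rw [e]; simp only [mul_assoc]
          _ = a * a * (B * A) := by rw [(hUc B hA a ha.1).eq]; simp only [mul_assoc]
          _ = A * B := by rw [hU2 a ha.1, one_mul, (hUc B hA A hA0).eq]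
      exact (mul_inv_eq_iff_eq_mul.mp e'').symm
    · rw [Finset.not_nonempty_iff_eq_empty.mp hne]; simp
  have hKK : Nat.card K * Nat.card K ≤ Nat.card (FU x v) := by
    let ψ : K × K → FU x v := fun p =>
      ⟨(p.1 : G) * (w' * (p.2 : G) * w'), mul_mem p.1.2.1 (hw'U _ p.2.2.1)⟩
    have hψ : Function.Injective ψ := by
      rintro ⟨a, b⟩ ⟨a', b'⟩ he
      have he' : (a : G) * (w' * b * w') = a' * (w' * b' * w') := congrArg Subtype.val he
      set d := (a' : G)⁻¹ * a with hd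
      have hd' : d = w' * ((b' : G) * (b : G)⁻¹) * w' := by
        calc d = (a' : G)⁻¹ * ((a : G) * (w' * b * w')) * (w' * b * w')⁻¹ := by rw [hd]; group
          _ = (w' * b' * w') * (w' * b * w')⁻¹ := by rw [he']; group
          _ = _ := by simp only [mul_inv_rev, hw'i.inv, mul_assoc, hw'i.mul_cancel]
      have hd1 : d = 1 := by
        refine hdd d (mul_mem (inv_mem a'.2.1) a.2.1) (mem_C.mp (mul_mem (inv_mem a'.2.2) a.2.2)) ?_
        rw [hd']
        have h := mem_C.mp (mul_mem b'.2.2 (inv_mem b.2.2))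
        show _ = _
        calc w' * ((b' : G) * (b : G)⁻¹) * w' * (w' * s * w')
            = w' * ((b' : G) * (b : G)⁻¹ * s) * w' := by simp only [mul_assoc, hw'i.mul_cancel]
          _ = w' * (s * ((b' : G) * (b : G)⁻¹)) * w' := by rw [h.eq]
          _ = _ := by simp only [mul_assoc, hw'i.mul_cancel]
      have ha : a = a' := Subtype.ext (inv_mul_eq_one.mp hd1).symm
      subst ha
      have hb := mul_left_cancel he'
      exact Prod.ext rfl (Subtype.ext (mul_left_cancel (mul_right_cancel hb)))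
    have := Nat.card_le_card_of_injective ψ hψ
    rwa [Nat.card_prod] at this
  have hU16 : 16 ≤ Nat.card (FU x v) := by
    rw [H.card_U D, pow_two]; exact Nat.mul_le_mul hf hf
  have hK4 : Nat.card K = 4 := by nlinarith
  have hU : Nat.card (FU x v) = 16 := by omega
  have hKZ : ∀ a, a ∈ K ↔ a ∈ Z := by
    have hsub : Z ⊆ Kf := fun a ha => by
      simp only [hKf, Finset.mem_filter, Finset.mem_univ, true_and]
      exact ⟨(hZU a ha).1, mem_C.mpr ((hZU a ha).2 s hsS).symm⟩
    have heq := Finset.eq_of_subset_of_card_le hsub (by rw [hKfc, hK4, hZ4])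
    intro a
    rw [heq]
    simp [hKf]
  -- centralisers of noncentral elements of `U`
  have hcent : ∀ u₀ ∈ FU x v, u₀ ∉ Z → ∀ p ∈ S, Commute p u₀ → p ∈ FU x v := by
    intro u₀ hu₀ hu₀Z p hp hc
    have hu₀S := hUS hu₀
    have hu₁ : Commute (x * u₀ * x⁻¹) p := commute_xconj H.spec D.hx hS.isP hS.stable hu₀S hp hc.symm
    set u₁ := x * u₀ * x⁻¹ with hu₁def
    have hu₁U : u₁ ∈ FU x v := H.U_stable D u₀ hu₀
    have hf := fpf_of_normalizes H.spec D.hx (H.U_isP D) (H.U_stable D)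
    have hxK : ∀ a ∈ Z, x * a * x⁻¹ ∈ Z := by
      intro a ha
      simp only [hZ, Finset.mem_filter, Finset.mem_univ, true_and] at ha ⊢
      rcases ha with rfl | ha
      · simp
      · refine Or.inr ⟨ha.1.conj x, hS.stable a ha.2.1, fun r hr => mem_C.mpr ?_⟩
        have h := ((mem_C.mp (ha.2.2 (Stable.inv D.hx hS.stable hr))).map (MulAut.conj x)).eq
        simp only [MulAut.conj_apply] at h
        rwa [show x * (x⁻¹ * r * x) * x⁻¹ = r by group] at h
    have hu₁Z : u₁ ∉ Z := by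
      intro h
      apply hu₀Z
      have := hxK _ (hxK _ h)
      rwa [hu₁def, show x * (x * (x * u₀ * x⁻¹) * x⁻¹) * x⁻¹
        = (x * x * x) * u₀ * (x * x * x)⁻¹ by group, D.hx.cube, one_mul, inv_one, mul_one] at this
    have hu01 : u₀ * u₁ ∉ K := by
      intro h
      apply hu₀Z
      have hn := hf.norm_eq_one hu₀
      have h' := hxK _ ((hKZ _).mp h)
      have h'' := inv_mem ((hKZ _).mpr h')
      rw [show (x * (u₀ * u₁) * x⁻¹)⁻¹ = x * (u₀ * u₁)⁻¹ * x⁻¹ by group] at h''
      rw [show (u₀ * u₁)⁻¹ = x⁻¹ * u₀ * x from inv_eq_of_mul_eq_one_right hn,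
        show x * (x⁻¹ * u₀ * x) * x⁻¹ = u₀ by group] at h''
      exact (hKZ _).mp h''
    set B := FU x v ⊓ C p with hB
    have hKB : ∀ a ∈ K, a ∈ B := fun a ha => Subgroup.mem_inf.mpr
      ⟨ha.1, mem_C.mpr ((hZU a ((hKZ a).mp ha)).2 p hp).symm⟩
    have hu₀B : u₀ ∈ B := ⟨hu₀, mem_C.mpr hc.symm⟩
    have hu₁B : u₁ ∈ B := ⟨hu₁U, mem_C.mpr hu₁⟩
    have hB12 : 12 ≤ Nat.card B := by
      let φ : Fin 3 × K → B := fun q =>
        ⟨![1, u₀, u₁] q.1 * (q.2 : G), mul_mem (by
          obtain ⟨i, k⟩ := q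
          fin_cases i
          exacts [one_mem B, hu₀B, hu₁B]) (hKB _ q.2.2)⟩
      have hφ : Function.Injective φ := by
        rintro ⟨i, a⟩ ⟨j, b⟩ he
        have he' : ![1, u₀, u₁] i * (a : G) = ![1, u₀, u₁] j * (b : G) := congrArg Subtype.val he
        have hd : (![1, u₀, u₁] i)⁻¹ * ![1, u₀, u₁] j ∈ K := by
          rw [eq_mul_inv_of_mul_eq he'.symm, show (![1, u₀, u₁] i)⁻¹ *
            (![1, u₀, u₁] i * (a : G) * (b : G)⁻¹) = (a : G) * (b : G)⁻¹ by group]
          exact mul_mem a.2 (inv_mem b.2)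
        have hij : i = j := by
          have h0 : u₀ ∉ K := fun h => hu₀Z ((hKZ _).mp h)
          have h1 : u₁ ∉ K := fun h => hu₁Z ((hKZ _).mp h)
          fin_cases i <;> fin_cases j <;> simp at hd ⊢ <;>
            first
              | exact absurd hd h0
              | exact absurd hd h1
              | (rw [hinv _ hu₀] at hd; exact absurd hd hu01)
              | (rw [hinv _ hu₁U, (hUc _ hu₁U _ hu₀).eq] at hd; exact absurd hd hu01)
        subst hij
        exact Prod.ext rfl (Subtype.ext (mul_left_cancel he'))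
      have := Nat.card_le_card_of_injective φ hφ
      rwa [Nat.card_prod, Nat.card_fin, hK4] at this
    have hBU : B = FU x v := by
      obtain ⟨k, hk⟩ : Nat.card B ∣ Nat.card (FU x v) := card_dvd_of_le (inf_le_left : B ≤ FU x v)
      rw [hU] at hk
      have hk1 : k = 1 := by
        rcases Nat.lt_or_ge k 2 with h | h
        · rcases (by omega : k = 0 ∨ k = 1) with rfl | rfl
          · simp at hk
          · rfl
        · have h24 := Nat.mul_le_mul hB12 h
          exfalso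
          omega
      exact Subgroup.eq_of_le_of_card_ge inf_le_left (by rw [hU, hk, hk1, mul_one])
    exact ⟨mem_C.mpr (mem_C.mp (hBU.symm ▸ (H.mem_U D).1 : v ∈ B).2).symm,
      mem_C.mpr (mem_C.mp (hBU.symm ▸ (H.mem_U D).2 : u ∈ B).2).symm⟩
  -- `|S| = 64`
  obtain ⟨u₀, hu₀, hu₀Z⟩ : ∃ a ∈ FU x v, a ∉ Z := by
    by_contra hcon
    push Not at hcon
    have h : Uf ⊆ Z := fun a ha => hcon a (Finset.mem_filter.mp ha).2
    have := Finset.card_le_card h
    rw [hUfc, hU, hZ4] at this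
    omega
  set Sf : Finset G := Finset.univ.filter fun a => a ∈ S with hSf
  have hSfc : Sf.card = Nat.card S := by
    rw [hSf, ← ncard_setOf_eq]; exact (Nat.card_coe_set_eq _).symm
  have hS64 : Nat.card S ≤ 64 := by
    have hmaps : ∀ p ∈ Sf, u₀ * (p * u₀ * p⁻¹) ∈ Z := fun p hp =>
      hmemZ u₀ hu₀ p (Finset.mem_filter.mp hp).2
    rw [← hSfc, Finset.card_eq_sum_card_fiberwise hmaps, show (64 : ℕ) = Z.card * 16 by rw [hZ4]]
    refine le_trans (Finset.sum_le_card_nsmul _ _ 16 fun b _ => ?_) (le_of_eq (smul_eq_mul _ _))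
    by_cases hne : (Sf.filter fun p => u₀ * (p * u₀ * p⁻¹) = b).Nonempty
    · obtain ⟨p₀, hp₀⟩ := hne
      simp only [hSf, Finset.mem_filter, Finset.mem_univ, true_and] at hp₀
      rw [← hU, ← hUfc]
      refine Finset.card_le_card_of_injOn (fun p => p₀⁻¹ * p) (fun p hp => ?_)
        (fun a _ a' _ h => mul_left_cancel h)
      simp only [Finset.mem_coe, hSf, Finset.mem_filter, Finset.mem_univ, true_and] at hp
      simp only [Finset.mem_coe, hUf, Finset.mem_filter, Finset.mem_univ, true_and]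
      refine hcent u₀ hu₀ hu₀Z _ (mul_mem (inv_mem hp₀.1) hp.1) ?_
      have e : p₀ * u₀ * p₀⁻¹ = p * u₀ * p⁻¹ := mul_left_cancel (hp₀.2.trans hp.2.symm)
      show p₀⁻¹ * p * u₀ = u₀ * (p₀⁻¹ * p)
      calc p₀⁻¹ * p * u₀ = p₀⁻¹ * (p * u₀ * p⁻¹) * p := by group
        _ = p₀⁻¹ * (p₀ * u₀ * p₀⁻¹) * p := by rw [e]
        _ = _ := by group
    · rw [Finset.not_nonempty_iff_eq_empty.mp hne]; simp
  have hS16 : 16 < Nat.card S := by
    rw [← hU]
    refine lt_of_le_of_ne (Nat.le_of_dvd Nat.card_pos (card_dvd_of_le hUS)) fun e => hsU ?_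
    exact (Subgroup.eq_of_le_of_card_ge hUS e.ge).symm ▸ hsS
  have hSmod : Nat.card S % 3 = 1 := by
    haveI := Fact.mk Nat.prime_three
    let Y : Subgroup (ConjAct G) := zpowers (ConjAct.toConjAct x)
    have hYp : IsPGroup 3 Y := IsPGroup.of_card (n := 1) (by
      rw [pow_one, Nat.card_zpowers, MulEquiv.orderOf_eq ConjAct.toConjAct, D.hx.orderOf])
    have hxS := Stable.mem_normalizer D.hx hS.stable
    let Sx : SubMulAction Y G :=
      { carrier := S
        smul_mem' := fun y a ha => by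
          obtain ⟨i, hi⟩ := mem_zpowers_iff.mp y.2
          show (y : ConjAct G) • a ∈ S
          rw [← hi, ← map_zpow, ConjAct.smul_def, ConjAct.ofConjAct_toConjAct]
          exact (mem_normalizer_iff.mp (zpow_mem hxS i) a).mp ha }
    have hmod := hYp.card_modEq_card_fixedPoints Sx
    have hfix : Nat.card (MulAction.fixedPoints Y Sx) = 1 := by
      rw [Nat.card_eq_one_iff_unique]
      refine ⟨⟨fun a b => ?_⟩, ⟨⟨⟨1, one_mem S⟩, fun y => Subtype.ext (smul_one _)⟩⟩⟩
      have key : ∀ a : MulAction.fixedPoints Y Sx, ((a : Sx) : G) = 1 := by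
        intro a
        have h := congrArg Subtype.val (a.2 ⟨ConjAct.toConjAct x, mem_zpowers _⟩)
        change ConjAct.toConjAct x • ((a : Sx) : G) = _ at h
        rw [ConjAct.smul_def, ConjAct.ofConjAct_toConjAct] at h
        exact (fpf_of_normalizes H.spec D.hx hS.isP hS.stable).fpf _ (a : Sx).2 h
      exact Subtype.ext (Subtype.ext ((key a).trans (key b).symm))
    rw [hfix] at hmod
    have : Nat.card Sx = Nat.card S := rfl
    rw [this] at hmod
    exact hmod
  haveI := Fact.mk Nat.prime_two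
  obtain ⟨k, hk⟩ := hS.isP.exists_card_eq
  have hSeq : Nat.card S = 64 := by
    rw [hk] at hS16 hS64 hSmod ⊢
    have hk' : k ≤ 6 := by
      by_contra h
      have := Nat.pow_le_pow_right (show 2 > 0 by norm_num) (show 7 ≤ k by omega)
      omega
    interval_cases k <;> simp_all
  refine ⟨hσ.trans hSeq, ?_⟩
  -- the incidence bound at `z`
  obtain ⟨q, b, hb, hqb, hi, hg⟩ := H.exists_q D.hv.1
  refine ⟨q, b, hb, hqb, ?_, by rw [hg, hσ, hSeq]⟩
  have hup := le_trans (H.XT_lower hz.1 hi) (Nat.mul_le_mul_left 4 (H.XT_upper hz.1))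
  rw [hCz, hSeq] at hup
  set Jf := (Set.toFinite (J z)).toFinset with hJf
  have hterm : ∀ a ∈ Jf, Nat.card ↥(S ⊓ C a) + (if a ∈ FU x v ∧ a ∉ Z then 16 else 0) ≤
      32 + (if a ∈ centralIn S then 32 else 0) := by
    intro a ha
    rw [hJf, Set.Finite.mem_toFinset] at ha
    have haS : a ∈ S := hCz ▸ mem_C.mpr ha.2.2
    obtain ⟨l, hl⟩ := card_dvd_of_le (inf_le_left : S ⊓ C a ≤ S)
    rw [hSeq] at hl
    by_cases hc : a ∈ centralIn S
    · have : ¬ (a ∈ FU x v ∧ a ∉ Z) := fun h => h.2 (by simp [hZ, hc])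
      rw [if_pos hc, if_neg this]
      have := Nat.le_of_dvd Nat.card_pos (card_dvd_of_le (inf_le_left : S ⊓ C a ≤ S))
      omega
    · rw [if_neg hc]
      by_cases hU' : a ∈ FU x v ∧ a ∉ Z
      · rw [if_pos hU']
        have : S ⊓ C a ≤ FU x v := fun p hp => hcent a hU'.1 hU'.2 p hp.1 (mem_C.mp hp.2)
        have := Nat.le_of_dvd Nat.card_pos (card_dvd_of_le this)
        omega
      · rw [if_neg hU']
        have hl1 : l ≠ 1 := by
          intro h1
          rw [h1, mul_one] at hl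
          have heq := Subgroup.eq_of_le_of_card_ge (inf_le_left : S ⊓ C a ≤ S) (by rw [hSeq, hl])
          exact hc ⟨ha.1, haS, fun r hr => (by rw [heq]; exact hr : r ∈ S ⊓ C a).2⟩
        have hl0 : l ≠ 0 := fun h => by rw [h, mul_zero] at hl; norm_num at hl
        nlinarith [Nat.mul_le_mul_left (Nat.card ↥(S ⊓ C a)) (show 2 ≤ l by omega)]
  have h1 : Jf.card ≤ 62 := by
    have hsub : Jf ⊆ (Sf.erase 1).erase z := by
      intro a ha
      rw [hJf, Set.Finite.mem_toFinset] at ha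
      simp only [Finset.mem_erase, hSf, Finset.mem_filter, Finset.mem_univ, true_and]
      exact ⟨ha.2.1, ha.1.ne, hCz ▸ mem_C.mpr ha.2.2⟩
    have := Finset.card_le_card hsub
    rw [Finset.card_erase_of_mem (by simp [hSf, hz.2.1, hz.1.ne]),
      Finset.card_erase_of_mem (by simp [hSf]), hSfc, hSeq] at this
    omega
  have h2 : (Jf.filter fun a => a ∈ centralIn S).card ≤ 2 := by
    have hsub : ((Jf.filter fun a => a ∈ centralIn S) : Set G) ⊆ centralIn S \ {z} := by
      intro a ha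
      simp only [Finset.coe_filter, Set.mem_ofPred_eq, hJf, Set.Finite.mem_toFinset] at ha
      exact ⟨ha.2, ha.1.2.1⟩
    have := Set.ncard_le_ncard hsub (Set.toFinite _)
    rw [Set.ncard_coe_finset, Set.ncard_sdiff_singleton_of_mem hz, hc3] at this
    omega
  have h3 : 12 ≤ (Jf.filter fun a => a ∈ FU x v ∧ a ∉ Z).card := by
    have hsub : Uf \ Z ⊆ Jf.filter fun a => a ∈ FU x v ∧ a ∉ Z := by
      intro a ha
      simp only [Finset.mem_sdiff, hUf, Finset.mem_filter, Finset.mem_univ, true_and] at ha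
      simp only [Finset.mem_filter, hJf, Set.Finite.mem_toFinset]
      refine ⟨⟨⟨hU2 a ha.1, fun e => ha.2 (by simp [hZ, e])⟩, fun e => ha.2 (by simp [hZ, e, hz]),
        mem_C.mp (hCz.symm ▸ hUS ha.1 : a ∈ C z)⟩, ha⟩
    have hle := Finset.card_le_card hsub
    have := Finset.le_card_sdiff Z Uf
    rw [hUfc, hU, hZ4] at this
    omega
  have hsum := Finset.sum_le_sum hterm
  rw [Finset.sum_add_distrib, Finset.sum_add_distrib, Finset.sum_const, ← Finset.sum_filter,
    ← Finset.sum_filter, Finset.sum_const, Finset.sum_const, smul_eq_mul, smul_eq_mul,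
    smul_eq_mul] at hsum
  omega

end Hyp

end Cfsg.Agent.RecogFive
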