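import Cfsg.Agent.Lib.RecogFive.StableSylow

/-!
# Some type-three pair commutes with an inverter

Otherwise every maximal stable `2`-subgroup is a Sylow subgroup, six of them are normalised by `x`
and meet pairwise trivially, and the two incidence bounds contradict each other.
-/

set_option autoImplicit false
set_option linter.unusedSectionVars false
set_option linter.style.haveILetI false

namespace Cfsg.Agent.RecogFive

open Subgroup

variable {G : Type*} [Group G] [Finite G] {x y w v : G} {U : Subgroup G}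

/-- The four-group generated by a pair of type three. -/
theorem exists_four (hS : Spec5 G) (hx : El3 x) (hv : v ∈ TT x) :
    ∃ V : Subgroup G, v ∈ V ∧ IsPGroup 2 V ∧ Stable x V := by
  set u := x * v * x⁻¹ with hu
  have hc : Commute v u := T3.commute hv.1 hx hv.2
  have hui : Inv2 u := hv.1.conj x
  set V := Subgroup.closure ({v, u} : Set G) with hV
  haveI : IsMulCommutative V := Subgroup.isMulCommutative_closure (by
    rintro a (rfl | rfl) b (rfl | rfl)
    exacts [rfl, hc.eq, hc.eq.symm, rfl])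
  refine ⟨V, Subgroup.subset_closure (Or.inl rfl), isPGroup_of_pow_four hS ?_, ?_⟩
  · intro g hg
    suffices h : g ^ 2 = 1 by rw [show (4 : ℕ) = 2 * 2 by norm_num, pow_mul, h, one_pow]
    induction hg using Subgroup.closure_induction with
    | mem a ha =>
      rcases ha with rfl | rfl
      exacts [by rw [pow_two, hv.1.mul_self], by rw [pow_two, hui.mul_self]]
    | one => exact one_pow 2
    | mul a b ha hb iha ihb =>
      have hab : Commute a b := congrArg Subtype.val (mul_comm' (⟨a, ha⟩ : V) ⟨b, hb⟩)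
      rw [hab.mul_pow, iha, ihb, one_mul]
    | inv a _ iha => rw [inv_pow, iha, inv_one]
  · intro g hg
    induction hg using Subgroup.closure_induction with
    | mem a ha =>
      rcases ha with rfl | rfl
      · exact Subgroup.subset_closure (Or.inr hu.symm)
      · have h : x * u * x⁻¹ = x⁻¹ * v * x := by
          rw [hu, show x * (x * v * x⁻¹) * x⁻¹ = (x * x) * v * (x * x)⁻¹ by group, hx.sq, inv_inv]
        rw [h, ← T3.third hv.1 hx hv.2]
        exact mul_mem (Subgroup.subset_closure (Or.inl rfl)) (Subgroup.subset_closure (Or.inr rfl))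
    | one => simp
    | mul a b _ _ iha ihb =>
      rw [show x * (a * b) * x⁻¹ = (x * a * x⁻¹) * (x * b * x⁻¹) by group]
      exact mul_mem iha ihb
    | inv a _ iha =>
      rw [show x * a⁻¹ * x⁻¹ = (x * a * x⁻¹)⁻¹ by group]
      exact inv_mem iha

/-- Involutions of stable `2`-subgroups are of type three. -/
theorem invIn_subset_TT (hS : Spec5 G) (hx : El3 x) (hU : IsPGroup 2 U) (hs : Stable x U) :
    invIn U ⊆ TT x := fun u hu =>
  ⟨hu.1, t3_of_commute hS hu.1 hx ((fpf_of_normalizes hS hx hU hs).comm hu.2)⟩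

/-- The sum over `J z` of the centraliser orders, split at the central involutions. -/
theorem sum_J_le (hS : Spec5 G) {S : Subgroup G} (hP : IsPGroup 2 S) {z : G}
    (hz : z ∈ centralIn S) (hC : C z = S) :
    2 * (∑ u ∈ (Set.toFinite (Hyp.J z)).toFinset, Nat.card ↥(C z ⊓ C u))
      + 2 * Nat.card S ≤ Nat.card S * ((invIn S).ncard + (centralIn S).ncard) := by
  classical
  set J' := (Set.toFinite (Hyp.J z)).toFinset with hJ
  set σ := Nat.card S with hσ
  have hterm : ∀ u ∈ J', 2 * Nat.card ↥(C z ⊓ C u) ≤ σ + (if u ∈ centralIn S then σ else 0) := by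
    intro u hu
    rw [hJ, Set.Finite.mem_toFinset] at hu
    have hle : C z ⊓ C u ≤ S := hC ▸ inf_le_left
    by_cases hc : u ∈ centralIn S
    · rw [if_pos hc]
      have := Nat.le_of_dvd Nat.card_pos (card_dvd_of_le hle)
      omega
    · rw [if_neg hc, add_zero]
      obtain ⟨k, hk⟩ := card_dvd_of_le hle
      rw [hσ, hk]
      have hk1 : k ≠ 1 := by
        intro h1
        rw [h1, mul_one] at hk
        have heq := Subgroup.eq_of_le_of_card_ge hle hk.le
        exact hc ⟨hu.1, hC ▸ mem_C.mpr hu.2.2, fun s hs => (heq ▸ hs : s ∈ C z ⊓ C u).2⟩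
      have hk0 : k ≠ 0 := fun h0 => by rw [h0, mul_zero] at hk; exact Nat.card_pos.ne' hk
      rw [mul_comm 2]
      exact Nat.mul_le_mul_left _ (by omega)
  have hJc : J'.card + 1 = (invIn S).ncard := by
    have h : invIn S = insert z (Hyp.J z) := by
      ext u
      constructor
      · intro hu
        by_cases he : u = z
        · exact Or.inl he
        · exact Or.inr ⟨hu.1, he, mem_C.mp (hC.symm ▸ hu.2)⟩
      · rintro (rfl | hu)
        · exact ⟨hz.1, hz.2.1⟩
        · exact ⟨hu.1, hC ▸ mem_C.mpr hu.2.2⟩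
    rw [h, Set.ncard_insert_of_notMem (fun h => h.2.1 rfl), hJ, Set.ncard_eq_toFinset_card _ _]
  have hcc : (J'.filter fun u => u ∈ centralIn S).card + 1 ≤ (centralIn S).ncard := by
    have h : ((J'.filter fun u => u ∈ centralIn S) : Set G) ⊆ centralIn S \ {z} := by
      intro u hu
      simp only [Finset.coe_filter, Set.mem_ofPred_eq, hJ, Set.Finite.mem_toFinset] at hu
      exact ⟨hu.2, hu.1.2.1⟩
    have := Set.ncard_le_ncard h (Set.toFinite _)
    rw [Set.ncard_coe_finset, Set.ncard_sdiff_singleton_of_mem hz] at this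
    have hpos : 0 < (centralIn S).ncard := (Set.ncard_pos (Set.toFinite _)).mpr ⟨z, hz⟩
    omega
  have hsum := Finset.sum_le_sum hterm
  rw [← Finset.mul_sum, Finset.sum_add_distrib, Finset.sum_const, ← Finset.sum_filter,
    Finset.sum_const, smul_eq_mul, smul_eq_mul] at hsum
  rw [← hJc]
  nlinarith [Nat.mul_le_mul_left σ hcc]

namespace Hyp

variable (H : Hyp G)
include H

/-- The existence of an `S₄`. -/
theorem exists_commuting :
    ∃ x v w : G, El3 x ∧ v ∈ TT x ∧ w ∈ Iv x ∧ Commute v w := by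
  by_contra hcon
  push Not at hcon
  -- no nontrivial two-subgroup is normalised by a copy of `Sym(3)`
  have hA : ∀ {x w : G} {U : Subgroup G}, El3 x → w ∈ Iv x → IsPGroup 2 U → Stable x U →
      (∀ n ∈ U, w * n * w ∈ U) → U = ⊥ := by
    intro x w U hx hw hU hs hwU
    by_contra hne
    obtain ⟨c, hc, hc1, hcw⟩ := exists_fixed H.spec hx hU hs hw.1 hw.2 hwU hne
    refine hcon x c w hx (invIn_subset_TT H.spec hx hU hs
      ⟨⟨fixed_sq H.spec hx hU hs hw.1 hw.2 hwU hc hcw, hc1⟩, hc⟩) hw ?_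
    show c * w = w * c
    conv_lhs => rw [← hcw]
    rw [mul_assoc, hw.1.mul_self, mul_one]
  obtain ⟨x, hx⟩ := H.exists_el3
  obtain ⟨t, ht⟩ := H.exists_inv2
  obtain ⟨q, b, hb, hqb, hi, hg⟩ := H.exists_q ht
  have hq5 : 5 ≤ q := by
    rw [hqb]; exact le_trans (by norm_num) (Nat.pow_le_pow_right (by norm_num) hb)
  have hT : 4 * (TT x).ncard = 9 * (q - 1) := by
    have := H.card_Invs hx
    omega
  -- maximal stable subgroups are Sylow subgroups
  have hB : ∀ {U : Subgroup G}, MaxIn x ⊤ U → U ≠ ⊥ →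
      ∀ T : Subgroup G, IsPGroup 2 T → U ≤ T → T = U := by
    intro U hU hne
    rcases H.dichotomy hx hU hne with ⟨w, hw, hwU⟩ | h
    · exact absurd (hA hx hw hU.isP hU.stable hwU) hne
    · exact h
  -- and meet trivially
  have hC : ∀ U₁ U₂ : Subgroup G, MaxIn x ⊤ U₁ → MaxIn x ⊤ U₂ → U₁ ≠ U₂ → U₁ ⊓ U₂ = ⊥ := by
    by_contra hc
    push Not at hc
    obtain ⟨U₁, U₂, h₁, h₂, hne, hD⟩ := hc
    obtain ⟨D, -, ⟨V₁, V₂, g₁, g₂, gne, rfl, gD⟩, hmax⟩ := Finite.exists_le_maximal
      (p := fun D : Subgroup G => ∃ V₁ V₂, MaxIn x ⊤ V₁ ∧ MaxIn x ⊤ V₂ ∧ V₁ ≠ V₂ ∧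
        D = V₁ ⊓ V₂ ∧ D ≠ ⊥) ⟨U₁, U₂, h₁, h₂, hne, rfl, hD⟩
    set D := V₁ ⊓ V₂ with hDdef
    have hDp : IsPGroup 2 D := g₁.isP.to_le inf_le_left
    have hDs : Stable x D := fun n hn => ⟨g₁.stable n hn.1, g₂.stable n hn.2⟩
    set M := normalizer (D : Set G) with hM
    have hxM : x ∈ M := Stable.mem_normalizer hx hDs
    have hno : ∀ g ∈ M, g * x * g⁻¹ ≠ x⁻¹ := by
      intro g hg he
      have hgi := H.spec.inv2_of_flip hx he
      refine gD (hA hx (w := g) ⟨hgi, ?_⟩ hDp hDs fun n hn => ?_)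
      · show g * x * g = x⁻¹
        rw [← he, hgi.inv]
      · have := (mem_normalizer_iff.mp hg n).mp hn
        rwa [hgi.inv] at this
    have hal : ∀ c ∈ M, Commute c x → c ∈ zpowers x := fun c hc hcx =>
      H.alone hx hDp gD hDs hc hcx
    have hgrow : ∀ {V : Subgroup G}, MaxIn x ⊤ V → D ≤ V → D ≠ V →
        ∃ W, MaxIn x M W ∧ V ⊓ M ≤ W ∧ ¬ V ⊓ M ≤ D := by
      intro V hV hle hneq
      obtain ⟨W, hW, hW'⟩ := exists_maxIn (M := M) (U := V ⊓ M) (hV.isP.to_le inf_le_left)
        (fun n hn => Subgroup.mem_inf.mpr ⟨hV.stable n hn.1,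
          mul_mem (mul_mem hxM hn.2) (inv_mem hxM)⟩) inf_le_right
      obtain ⟨t, htV, htD, htN⟩ := exists_mem_normalizer hV.isP hle hneq
      exact ⟨W, hW', hW, fun h => htD (h ⟨htV, htN⟩)⟩
    have hne₁ : D ≠ V₁ := fun e =>
      gne (g₁.max V₂ le_top g₂.isP g₂.stable (e ▸ inf_le_right)).symm
    have hne₂ : D ≠ V₂ := fun e =>
      gne (g₂.max V₁ le_top g₁.isP g₁.stable (e ▸ inf_le_left))
    obtain ⟨W₁, hW₁, hle₁, hD₁⟩ := hgrow g₁ inf_le_left hne₁
    obtain ⟨W₂, hW₂, hle₂, hD₂⟩ := hgrow g₂ inf_le_right hne₂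
    obtain rfl := max_unique H hx hxM hal hno hW₁ hW₂
    obtain ⟨U₃, hle₃, hU₃⟩ := exists_maxIn (M := ⊤) hW₁.isP hW₁.stable le_top
    have key : ∀ {V : Subgroup G}, MaxIn x ⊤ V → D ≤ V → V ⊓ M ≤ W₁ → ¬ V ⊓ M ≤ D → U₃ = V := by
      intro V hV hle hW hnD
      by_contra hne'
      have hDle : D ≤ U₃ ⊓ V := le_inf
        (((le_inf hle le_normalizer).trans hW).trans hle₃) hle
      have hbot : U₃ ⊓ V ≠ ⊥ := fun e => gD (le_bot_iff.mp (e ▸ hDle))
      have heq := hmax ⟨U₃, V, hU₃, hV, hne', rfl, hbot⟩ hDle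
      exact hnD (le_trans (le_inf (hW.trans hle₃) inf_le_left) heq)
    exact gne ((key g₁ inf_le_left hle₁ hD₁).symm.trans (key g₂ inf_le_right hle₂ hD₂))
  -- a first maximal stable subgroup
  have hTne : (TT x).Nonempty := Set.nonempty_of_ncard_ne_zero (by omega)
  obtain ⟨v, hv⟩ := hTne
  obtain ⟨V, hvV, hVp, hVs⟩ := exists_four H.spec hx hv
  obtain ⟨U, hVU, hU⟩ := exists_maxIn (M := ⊤) hVp hVs le_top
  have hUne : U ≠ ⊥ := fun e => hv.1.ne (by simpa [e] using hVU hvV)
  have hUmax := hB hU hUne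
  obtain ⟨z, hz⟩ := centralIn_nonempty H.spec hU.isP hUne
  have hCz := H.C_eq_of_central hU.isP hz hUmax
  have hc3 := H.ncard_centralIn hx hU.isP hU.stable hUne hUmax
  -- six of them
  classical
  obtain ⟨y, hy, hxy, hyx, hyx', hyC⟩ := H.exists_indep hx
  obtain ⟨w, hw, hfw⟩ := H.exists_flip hx
  have hwI : w ∈ Iv x := ⟨hw, hfw⟩
  set P : Finset G := {1, y, y⁻¹} with hP
  have hPC : ∀ c ∈ P, c ∈ C x := by
    intro c hc
    simp only [hP, Finset.mem_insert, Finset.mem_singleton] at hc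
    rcases hc with rfl | rfl | rfl
    exacts [one_mem _, hyC, inv_mem hyC]
  have hyz : y ∉ zpowers x := by
    intro h
    obtain ⟨i, hi⟩ := (Submonoid.mem_powers_iff y x).mp (mem_powers_iff_mem_zpowers.mpr h)
    rw [← pow_mod_orderOf, hx.orderOf] at hi
    rcases (by omega : i % 3 = 0 ∨ i % 3 = 1 ∨ i % 3 = 2) with e | e | e <;> rw [e] at hi
    · exact hy.ne (by rw [← hi, pow_zero])
    · exact hyx (by rw [← hi, pow_one])
    · exact hyx' (by rw [← hi, pow_two, hx.sq])
  have hPdiff : ∀ c ∈ P, ∀ c' ∈ P, c ≠ c' → c⁻¹ * c' ∉ zpowers x := by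
    intro c hc c' hc' hne
    simp only [hP, Finset.mem_insert, Finset.mem_singleton] at hc hc'
    have hyi : y⁻¹ ∉ zpowers x := fun h => hyz (inv_mem_iff.mp h)
    have hy2 : y * y ∉ zpowers x := by rw [hy.sq]; exact hyi
    have hy2' : y⁻¹ * y⁻¹ ∉ zpowers x := by rw [hy.inv.sq, inv_inv]; exact hyz
    rcases hc with rfl | rfl | rfl <;> rcases hc' with rfl | rfl | rfl
    all_goals first
      | exact absurd rfl hne
      | simpa using hyz
      | simpa using hyi
      | simpa using hy2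
      | simpa using hy2'
  have hP3 : P.card = 3 := by
    rw [hP, Finset.card_insert_of_notMem, Finset.card_pair]
    · exact hy.inv_ne.symm
    · simp only [Finset.mem_insert, Finset.mem_singleton, not_or]
      exact ⟨hy.ne.symm, fun e => hy.ne (inv_eq_one.mp e.symm)⟩
  -- conjugates of `U` by `P` and `P w`
  set R : Finset (G × Bool) := P ×ˢ Finset.univ with hR
  let el : G × Bool → G := fun p => p.1 * bif p.2 then w else 1
  have hnorm : ∀ p ∈ R, el p * x * (el p)⁻¹ = x ∨ el p * x * (el p)⁻¹ = x⁻¹ := by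
    rintro ⟨c, e⟩ hp
    simp only [hR, Finset.mem_product, Finset.mem_univ, and_true] at hp
    have hcx : Commute c x := mem_C.mp (hPC c hp)
    cases e
    · left
      simp only [el, cond_false, mul_one]
      rw [hcx.eq, mul_inv_cancel_right]
    · right
      simp only [el, cond_true]
      rw [show c * w * x * (c * w)⁻¹ = c * (w * x * w⁻¹) * c⁻¹ by group, hfw.conj_eq hw,
        hcx.inv_right.eq, mul_inv_cancel_right]
  let Uc : G × Bool → Subgroup G := fun p => U.map (MulAut.conj (el p)).toMonoidHom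
  have hUc : ∀ p ∈ R, MaxIn x ⊤ (Uc p) ∧ Uc p ≠ ⊥ := by
    intro p hp
    set g := el p with hg
    have hst : Stable x (U.map (MulAut.conj g).toMonoidHom) := by
      rintro _ ⟨u, hu, rfl⟩
      rcases hnorm p hp with h | h
      · refine ⟨x * u * x⁻¹, hU.stable u hu, ?_⟩
        simp only [MulEquiv.coe_toMonoidHom, MulAut.conj_apply, ← hg] at h ⊢
        conv_rhs => rw [← h]
        group
      · refine ⟨x⁻¹ * u * x, Stable.inv hx hU.stable hu, ?_⟩
        simp only [MulEquiv.coe_toMonoidHom, MulAut.conj_apply, ← hg] at h ⊢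
        conv_rhs => rw [← inv_inv x, ← h]
        group
    have hne' : U.map (MulAut.conj g).toMonoidHom ≠ ⊥ := by
      rw [Ne, Subgroup.map_eq_bot_iff_of_injective _ (MulEquiv.injective _)]
      exact hUne
    obtain ⟨W, hW1, hW2⟩ := exists_maxIn (M := ⊤) (hU.isP.map _) hst le_top
    have hle : U ≤ W.map (MulAut.conj g⁻¹).toMonoidHom := fun u hu =>
      ⟨g * u * g⁻¹, hW1 ⟨u, hu, rfl⟩, by simp [MulAut.conj_apply]; group⟩
    have heq := hUmax _ (hW2.isP.map _) hle
    have hWU : W = U.map (MulAut.conj g).toMonoidHom := by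
      refine (Subgroup.eq_of_le_of_card_ge hW1 ?_).symm
      rw [card_map_of_injective (MulEquiv.injective _)]
      conv_rhs => rw [← heq]
      rw [card_map_of_injective (MulEquiv.injective _)]
    rw [hWU] at hW2
    exact ⟨hW2, hne'⟩
  have hdist : ∀ p ∈ R, ∀ p' ∈ R, p ≠ p' → Uc p ≠ Uc p' := by
    rintro ⟨c, e⟩ hp ⟨c', e'⟩ hp' hne he
    simp only [hR, Finset.mem_product, Finset.mem_univ, and_true] at hp hp'
    set d := (el (c, e))⁻¹ * el (c', e') with hd
    have hstab : ∀ u ∈ U, d * u * d⁻¹ ∈ U := by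
      intro u hu
      have h1 : el (c', e') * u * (el (c', e'))⁻¹ ∈ Uc (c, e) := by
        rw [he]; exact ⟨u, hu, rfl⟩
      obtain ⟨u', hu', hue⟩ := h1
      have hue' : el (c, e) * u' * (el (c, e))⁻¹ = el (c', e') * u * (el (c', e'))⁻¹ := hue
      have : d * u * d⁻¹ = u' := by
        calc d * u * d⁻¹ = (el (c, e))⁻¹ * (el (c', e') * u * (el (c', e'))⁻¹) * el (c, e) := by
              rw [hd]; group
          _ = (el (c, e))⁻¹ * (el (c, e) * u' * (el (c, e))⁻¹) * el (c, e) := by rw [hue']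
          _ = u' := by group
      rw [this]; exact hu'
    have hin : ∀ a ∈ Iv x, (∀ u ∈ U, a * u * a⁻¹ ∈ U) → False := fun a ha h =>
      hUne (hA hx ha hU.isP hU.stable fun n hn => by
        have := h n hn
        rwa [ha.1.inv] at this)
    have hout : ∀ k ∈ C x, k ∉ zpowers x → (∀ u ∈ U, k * u * k⁻¹ ∈ U) → False := by
      intro k hk hkz h
      exact hkz (H.alone hx hU.isP hUne hU.stable
        (Stable.mem_normalizer (el3_of_mem_C H.spec hx hk fun e => hkz (e ▸ one_mem _)) h)
        (mem_C.mp hk))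
    have hcc : c⁻¹ * c' ∈ C x := mul_mem (inv_mem (hPC c hp)) (hPC c' hp')
    cases e <;> cases e'
    · refine hout d ?_ ?_ hstab <;> simp only [hd, el, cond_false, mul_one]
      exacts [hcc, hPdiff c hp c' hp' fun h => hne (by rw [h])]
    · refine hin d ?_ hstab
      simp only [hd, el, cond_false, cond_true, mul_one, ← mul_assoc]
      exact H.Iv_mul hx hwI hcc
    · refine hin d ?_ hstab
      simp only [hd, el, cond_false, cond_true, mul_one, mul_inv_rev, hw.inv]
      have hf : w * (c⁻¹ * c') * w = (c⁻¹ * c')⁻¹ := flips_C H.spec hw hx hfw hcc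
      have : w * c⁻¹ * c' = (c⁻¹ * c')⁻¹ * w := by
        rw [← hf, mul_assoc _ w w, hw.mul_self, mul_one, mul_assoc]
      rw [this]
      exact H.Iv_mul hx hwI (inv_mem hcc)
    · have hf : w * (c⁻¹ * c') * w = (c⁻¹ * c')⁻¹ := flips_C H.spec hw hx hfw hcc
      have hd' : d = (c⁻¹ * c')⁻¹ := by
        simp only [hd, el, cond_true, mul_inv_rev, hw.inv]
        rw [← mul_inv_rev, ← hf]; group
      refine hout d (hd' ▸ inv_mem hcc) ?_ hstab
      rw [hd', inv_mem_iff]
      exact hPdiff c hp c' hp' fun h => hne (by rw [h])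
  have hinv : ∀ p ∈ R, (invIn (Uc p)).ncard = (invIn U).ncard := by
    intro p _
    have h : invIn (Uc p) = (fun u => el p * u * (el p)⁻¹) '' invIn U := by
      ext a
      constructor
      · rintro ⟨ha, u, hu, rfl⟩
        refine ⟨u, ⟨?_, hu⟩, rfl⟩
        have h := ha.conj (el p)⁻¹
        simp only [MulEquiv.coe_toMonoidHom, MulAut.conj_apply] at h
        rwa [show (el p)⁻¹ * (el p * u * (el p)⁻¹) * (el p)⁻¹⁻¹ = u by group] at h
      · rintro ⟨u, ⟨hu, huU⟩, rfl⟩
        exact ⟨hu.conj _, u, huU, rfl⟩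
    rw [h, Set.ncard_image_of_injective _ fun a b e => mul_left_cancel (mul_right_cancel e)]
  have hlow : 6 * (invIn U).ncard ≤ (TT x).ncard := by
    haveI := Fintype.ofFinite G
    have hdisj : (R : Set (G × Bool)).PairwiseDisjoint
        fun p => Finset.univ.filter fun u => u ∈ invIn (Uc p) := by
      intro p hp p' hp' hne
      simp only [Function.onFun, Finset.disjoint_left, Finset.mem_filter, Finset.mem_univ, true_and]
      intro u hu hu'
      have := hC _ _ (hUc p hp).1 (hUc p' hp').1 (hdist p hp p' hp' hne)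
      exact hu.1.ne (by simpa [this] using Subgroup.mem_inf.mpr ⟨hu.2, hu'.2⟩)
    have hsub : R.biUnion (fun p => Finset.univ.filter fun u => u ∈ invIn (Uc p)) ⊆
        Finset.univ.filter fun u => u ∈ TT x := by
      intro u hu
      simp only [Finset.mem_biUnion, Finset.mem_filter, Finset.mem_univ, true_and] at hu ⊢
      obtain ⟨p, hp, hu⟩ := hu
      exact invIn_subset_TT H.spec hx (hUc p hp).1.isP (hUc p hp).1.stable hu
    have hle := Finset.card_le_card hsub
    rw [Finset.card_biUnion hdisj] at hle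
    have hterm : ∀ p ∈ R,
        (Finset.univ.filter fun u => u ∈ invIn (Uc p)).card = (invIn U).ncard := by
      intro p hp
      rw [← hinv p hp, ← ncard_setOf_eq]
      rfl
    rw [Finset.sum_congr rfl hterm, Finset.sum_const, smul_eq_mul, ← ncard_setOf_eq] at hle
    have hR6 : R.card = 6 := by rw [hR, Finset.card_product, hP3]; rfl
    rw [hR6] at hle
    exact hle
  -- the upper bound
  have hup := le_trans (H.XT_lower hz.1 hi) (Nat.mul_le_mul_left 4 (H.XT_upper hz.1))
  have hJ := sum_J_le H.spec hU.isP hz hCz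
  rw [hc3] at hJ
  rw [hCz] at hup hJ
  have hσ : 0 < Nat.card U := Nat.card_pos
  have hfin : Nat.card U * (q - 1) + 4 * Nat.card U ≤
      Nat.card U * (2 * ((invIn U).ncard + 3)) := by nlinarith
  rw [show 4 * Nat.card U = Nat.card U * 4 by ring, ← mul_add] at hfin
  have hbound := Nat.le_of_mul_le_mul_left hfin hσ
  have hi3 : (centralIn U).ncard ≤ (invIn U).ncard :=
    Set.ncard_le_ncard (centralIn_subset U) (Set.toFinite _)
  have hq9 : q = 9 := by omega
  rw [hq9] at hqb
  have h5 : 5 ∣ 5 ^ b := dvd_pow_self 5 (by omega)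
  rw [← hqb] at h5
  norm_num at h5

end Hyp

end Cfsg.Agent.RecogFive
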