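import Cfsg.Agent.Lib.RecogFive.Count

/-!
# The order in terms of the Sylow two-subgroup

There is one class of involutions, so every centraliser of an involution is a Sylow `2`-subgroup, of
order `σ`, and `|G| = 9σq` with `q` a power of five; counting pairs `(z, x)` with `T3 z x` bounds
`q` by local data at `z`.
-/

set_option autoImplicit false
set_option linter.unusedSectionVars false
set_option linter.style.haveILetI false

namespace Cfsg.Agent.RecogFive

open Subgroup

variable {G : Type*} [Group G] [Finite G] {x z t u : G}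

/-- Orbit–stabiliser for conjugation. -/
theorem ncard_conj_mul_card_C (t : G) :
    {s : G | IsConj t s}.ncard * Nat.card (C t) = Nat.card G := by
  have h1 : (MulAction.orbit (ConjAct G) t).ncard = (MulAction.stabilizer (ConjAct G) t).index :=
    (MulAction.index_stabilizer (ConjAct G) t).symm
  have h2 : MulAction.orbit (ConjAct G) t = {s : G | IsConj t s} := by
    ext s
    rw [ConjAct.mem_orbit_conjAct]
    exact ⟨fun h => h.symm, fun h => h.symm⟩
  have h3 : Nat.card (MulAction.stabilizer (ConjAct G) t) = Nat.card (C t) := by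
    refine Nat.card_congr (ConjAct.ofConjAct.toEquiv.subtypeEquiv fun g => ?_)
    simp only [MulEquiv.toEquiv_eq_coe, EquivLike.coe_coe, MulAction.mem_stabilizer_iff,
      ConjAct.smul_def, mem_C]
    exact mul_inv_eq_iff_eq_mul
  rw [← h2, h1, ← h3, mul_comm, card_mul_index]
  exact Nat.card_congr ConjAct.ofConjAct.toEquiv

/-- The elements of order three of type three for `z`. -/
def XT (z : G) : Set G := {x | El3 x ∧ T3 z x}

namespace Hyp

variable (H : Hyp G)
include H

theorem Invs_eq (ht : Inv2 t) : Invs G = {s : G | IsConj t s} := by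
  ext s
  refine ⟨fun hs => H.all_isConj ht hs, fun hs => ?_⟩
  obtain ⟨g, rfl⟩ := isConj_iff.mp hs
  exact ht.conj g

theorem ncard_Invs_mul (ht : Inv2 t) : (Invs G).ncard * Nat.card (C t) = Nat.card G := by
  rw [H.Invs_eq ht]; exact ncard_conj_mul_card_C t

theorem isPGroup_C_inv (ht : Inv2 t) : IsPGroup 2 (C t) :=
  isPGroup_of_pow_four H.spec fun _ hg => H.spec.cent2 ht (mem_C.mp hg)

theorem exists_el3 : ∃ x : G, El3 x := by
  obtain ⟨x, w, hx, -⟩ := H.exists_strongly_real
  exact ⟨x, hx⟩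

/-- Centralisers of involutions are Sylow subgroups. -/
theorem card_C_inv [Fact (Nat.Prime 2)] (ht : Inv2 t) (P : Sylow 2 G) :
    Nat.card (C t) = Nat.card (P : Subgroup G) := by
  haveI : Nontrivial (P : Subgroup G) := by
    refine Finite.one_lt_card_iff_nontrivial.mp ?_
    have h2 := Nat.le_of_dvd Nat.card_pos
      (P.pow_dvd_card_of_pow_dvd_card (n := 1) (by simpa using H.two))
    omega
  haveI := P.2.center_nontrivial
  obtain ⟨⟨z, hz⟩, hz1⟩ := exists_ne (1 : center (P : Subgroup G))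
  have hzne : (z : G) ≠ 1 := fun e => hz1 (Subtype.ext (Subtype.ext e))
  have hzc : ∀ p ∈ (P : Subgroup G), Commute p (z : G) := fun p hp =>
    congrArg Subtype.val (mem_center_iff.mp hz ⟨p, hp⟩)
  obtain ⟨s, hs, hsP⟩ : ∃ s : G, Inv2 s ∧ (P : Subgroup G) ≤ C s := by
    by_cases h : (z : G) * z = 1
    · exact ⟨z, ⟨h, hzne⟩, fun p hp => mem_C.mpr (hzc p hp)⟩
    · refine ⟨z * z, ⟨?_, h⟩, fun p hp => mem_C.mpr ((hzc p hp).mul_right (hzc p hp))⟩
      rw [← pow_four_of_isPGroup H.spec P.2 z.2]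
      simp only [pow_succ, pow_zero, one_mul, mul_assoc]
  obtain ⟨Q, hQ⟩ := (H.isPGroup_C_inv hs).exists_le_sylow
  have h1 : Nat.card (C s) = Nat.card (P : Subgroup G) := by
    refine le_antisymm ?_ (Nat.le_of_dvd Nat.card_pos (card_dvd_of_le hsP))
    rw [P.card_eq_multiplicity, ← Q.card_eq_multiplicity]
    exact Nat.le_of_dvd Nat.card_pos (card_dvd_of_le hQ)
  have h2 := H.ncard_Invs_mul ht
  rw [← H.ncard_Invs_mul hs] at h2
  have hpos : 0 < (Invs G).ncard := (Set.ncard_pos (Set.toFinite _)).mpr ⟨t, ht⟩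
  rw [← h1]
  exact Nat.eq_of_mul_eq_mul_left hpos h2

theorem card_C_eq_C {s : G} (ht : Inv2 t) (hs : Inv2 s) : Nat.card (C t) = Nat.card (C s) := by
  haveI := Fact.mk Nat.prime_two
  obtain ⟨P⟩ := (inferInstance : Nonempty (Sylow 2 G))
  rw [H.card_C_inv ht P, H.card_C_inv hs P]

/-- A two-subgroup has order at most `σ`. -/
theorem card_le_of_isPGroup (ht : Inv2 t) {U : Subgroup G} (hU : IsPGroup 2 U) :
    Nat.card U ≤ Nat.card (C t) := by
  haveI := Fact.mk Nat.prime_two
  obtain ⟨P, hP⟩ := hU.exists_le_sylow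
  rw [H.card_C_inv ht P]
  exact Nat.le_of_dvd Nat.card_pos (card_dvd_of_le hP)

/-- `|G| = 9σq` with `q` a power of five. -/
theorem exists_q (ht : Inv2 t) : ∃ q b : ℕ, 1 ≤ b ∧ q = 5 ^ b ∧ (Invs G).ncard = 9 * q ∧
    Nat.card G = 9 * q * Nat.card (C t) := by
  haveI := Fact.mk Nat.prime_two
  haveI := Fact.mk Nat.prime_three
  obtain ⟨x, hx⟩ := H.exists_el3
  obtain ⟨P⟩ := (inferInstance : Nonempty (Sylow 3 G))
  obtain ⟨S⟩ := (inferInstance : Nonempty (Sylow 2 G))
  set i := (Invs G).ncard with hi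
  have hg := H.ncard_Invs_mul ht
  have hS : (S : Subgroup G).index = i := by
    have := (S : Subgroup G).card_mul_index
    rw [← hg, ← H.card_C_inv ht S, mul_comm (i : ℕ)] at this
    exact Nat.eq_of_mul_eq_mul_left Nat.card_pos this
  have hP : 9 * (P : Subgroup G).index = i * Nat.card (C t) := by
    rw [hg, ← H.card_C_eq_nine hx, H.card_C hx P, card_mul_index]
  have hodd : ¬ 2 ∣ i := hS ▸ S.not_dvd_index
  have h9 : 9 ∣ i := by
    have hco : Nat.Coprime 9 (Nat.card (C t)) := by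
      obtain ⟨k, hk⟩ := (H.isPGroup_C_inv ht).exists_card_eq
      rw [hk]
      exact Nat.Coprime.pow_right k (by norm_num)
    exact hco.dvd_of_dvd_mul_right ⟨_, hP.symm⟩
  obtain ⟨q, hq⟩ := h9
  have h3 : ¬ 3 ∣ q := by
    intro h
    refine P.not_dvd_index (?_ : 3 ∣ (P : Subgroup G).index)
    rw [hq, mul_assoc] at hP
    rw [Nat.eq_of_mul_eq_mul_left (by norm_num : 0 < 9) hP]
    exact h.mul_right _
  have hg' : Nat.card G = 9 * q * Nat.card (C t) := by rw [← hg, ← hi, hq]
  have hq0 : q ≠ 0 := by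
    intro h
    rw [h] at hg'
    simp at hg'
    exact Nat.card_pos.ne' hg'
  have hpow := Nat.eq_prime_pow_of_unique_prime_dvd (p := 5) hq0 (fun {d} hd hdq => by
    haveI := Fact.mk hd
    obtain ⟨g, hg5⟩ := exists_prime_orderOf_dvd_card' d
      (hg' ▸ (dvd_mul_of_dvd_left (dvd_mul_of_dvd_right hdq 9) _))
    have := H.spec g
    rw [hg5] at this
    have h2 := hd.two_le
    rcases (by omega : d = 2 ∨ d = 3 ∨ d = 4 ∨ d = 5) with rfl | rfl | rfl | rfl
    · exact absurd (hq ▸ dvd_mul_of_dvd_right hdq 9) hodd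
    · exact absurd hdq h3
    · norm_num at hd
    · rfl)
  refine ⟨q, _, ?_, hpow, hq, hg'⟩
  by_contra h0
  push Not at h0
  rw [Nat.lt_one_iff.mp h0, pow_zero] at hpow
  have h5 := H.five
  rw [hg', hpow, mul_one] at h5
  obtain ⟨k, hk⟩ := (H.isPGroup_C_inv ht).exists_card_eq
  rw [hk] at h5
  rcases Nat.prime_five.dvd_mul.mp h5 with h | h
  · norm_num at h
  · exact absurd (Nat.prime_five.dvd_of_dvd_pow h) (by norm_num)

omit H in
theorem ncard_XT_conj (g z : G) : (XT (g * z * g⁻¹)).ncard = (XT z).ncard := by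
  have h : XT (g * z * g⁻¹) = (fun x => g * x * g⁻¹) '' XT z := by
    ext x
    constructor
    · rintro ⟨hx, hz⟩
      refine ⟨g⁻¹ * x * g, ⟨by simpa using hx.conj g⁻¹, ?_⟩, by group⟩
      rw [← t3_conj (x := g⁻¹ * x * g) g, show g * (g⁻¹ * x * g) * g⁻¹ = x by group]
      exact hz
    · rintro ⟨a, ⟨ha, haz⟩, rfl⟩
      exact ⟨ha.conj g, (t3_conj g).mpr haz⟩
  rw [h, Set.ncard_image_of_injective _ fun a b e => mul_left_cancel (mul_right_cancel e)]

/-- The incidence bound from below. -/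
theorem XT_lower (hz : Inv2 z) {q : ℕ} (hq : (Invs G).ncard = 9 * q) :
    Nat.card (C z) * (q - 1) ≤ 4 * (XT z).ncard := by
  classical
  haveI := Fintype.ofFinite G
  obtain ⟨x₀, hx₀⟩ := H.exists_el3
  set a := (TT x₀).ncard with ha
  have hia : 9 + 4 * a = 9 * q := by rw [ha, ← H.card_Invs hx₀, hq]
  set I : Finset G := Finset.univ.filter fun t => t ∈ Invs G with hI
  set X : Finset G := Finset.univ.filter fun x => El3 x with hX
  have hsw := sum_swap I X fun t x => T3 t x
  have hrow : ∀ t ∈ I, (X.filter fun x => T3 t x).card = (XT z).ncard := by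
    intro t ht
    rw [hI, Finset.mem_filter] at ht
    obtain ⟨g, rfl⟩ := isConj_iff.mp (H.all_isConj hz ht.2)
    rw [hX, Finset.filter_filter, ← ncard_setOf_eq, ← ncard_XT_conj g z]
    rfl
  have hcol : ∀ x ∈ X, (I.filter fun t => T3 t x).card = a := by
    intro x hx
    rw [hX, Finset.mem_filter] at hx
    rw [hI, Finset.filter_filter, ← ncard_setOf_eq]
    have := H.card_Invs hx.2
    rw [hq] at this
    show (TT x).ncard = a
    omega
  rw [Finset.sum_congr rfl hrow, Finset.sum_congr rfl hcol, Finset.sum_const, Finset.sum_const,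
    smul_eq_mul, smul_eq_mul] at hsw
  have hIc : I.card = 9 * q := by rw [hI, ← hq, ← ncard_setOf_eq]; rfl
  have hXc : q * Nat.card (C z) ≤ X.card := by
    have h1 := ncard_conj_mul_card_C x₀
    rw [H.card_C_eq_nine hx₀, ← H.ncard_Invs_mul hz, hq] at h1
    have h2 : {s : G | IsConj x₀ s}.ncard ≤ X.card := by
      rw [hX, ← ncard_setOf_eq]
      refine Set.ncard_le_ncard (fun s hs => ?_) (Set.toFinite _)
      obtain ⟨g, rfl⟩ := isConj_iff.mp hs
      exact hx₀.conj g
    nlinarith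
  rw [hIc] at hsw
  have hq1 : 1 ≤ q := by omega
  obtain ⟨r, rfl⟩ : ∃ r, q = r + 1 := ⟨q - 1, by omega⟩
  simp only [Nat.add_sub_cancel]
  have h4a : 4 * a = 9 * r := by omega
  have h5 : (r + 1) * Nat.card (C z) * a ≤ 9 * (r + 1) * (XT z).ncard := by
    rw [hsw]; exact Nat.mul_le_mul_right a hXc
  have h6 : 9 * (r + 1) * (Nat.card (C z) * r) ≤ 9 * (r + 1) * (4 * (XT z).ncard) := by
    calc 9 * (r + 1) * (Nat.card (C z) * r) = (r + 1) * Nat.card (C z) * (9 * r) := by ring
      _ = 4 * ((r + 1) * Nat.card (C z) * a) := by rw [← h4a]; ring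
      _ ≤ 4 * (9 * (r + 1) * (XT z).ncard) := Nat.mul_le_mul_left 4 h5
      _ = _ := by ring
  exact Nat.le_of_mul_le_mul_left h6 (by positivity)

/-- The involutions commuting with `z`, other than `z`. -/
def J (z : G) : Set G := {u | Inv2 u ∧ u ≠ z ∧ Commute u z}

/-- The incidence bound from above. -/
theorem XT_upper (hz : Inv2 z) :
    (XT z).ncard ≤ ∑ u ∈ (Set.toFinite (J z)).toFinset, Nat.card ↥(C z ⊓ C u) := by
  classical
  haveI := Fintype.ofFinite G
  set X : Finset G := (Set.toFinite (XT z)).toFinset with hX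
  set f : G → G := fun x => x * z * x⁻¹ with hf
  have hmaps : ∀ x ∈ X, f x ∈ (Set.toFinite (J z)).toFinset := by
    intro x hx
    rw [hX, Set.Finite.mem_toFinset] at hx
    rw [Set.Finite.mem_toFinset]
    refine ⟨hz.conj x, fun e => H.spec.not_commute hz hx.1 ?_, (T3.commute hz hx.1 hx.2).symm⟩
    exact (mul_inv_eq_iff_eq_mul.mp e).symm
  rw [Set.ncard_eq_toFinset_card _ (Set.toFinite (XT z)), ← hX,
    Finset.card_eq_sum_card_fiberwise hmaps]
  refine Finset.sum_le_sum fun u _ => ?_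
  by_cases hne : (X.filter fun x => f x = u).Nonempty
  · obtain ⟨x₀, hx₀⟩ := hne
    rw [Finset.mem_filter, hX, Set.Finite.mem_toFinset] at hx₀
    obtain ⟨⟨hx3, hxT⟩, hxu⟩ := hx₀
    have hthird : ∀ x : G, El3 x → T3 z x → f x = u → x * u * x⁻¹ = z * u := by
      intro x h3 hT he
      rw [← he, hf]
      show x * (x * z * x⁻¹) * x⁻¹ = z * (x * z * x⁻¹)
      rw [T3.third hz h3 hT, show x * (x * z * x⁻¹) * x⁻¹ = (x * x) * z * (x * x)⁻¹ by group, h3.sq,
        inv_inv]
    rw [Nat.card_eq_fintype_card, ← Finset.card_univ]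
    refine Finset.card_le_card_of_injOn
      (fun x => if h : x₀⁻¹ * x ∈ C z ⊓ C u then ⟨x₀⁻¹ * x, h⟩ else 1)
      (fun _ _ => Finset.mem_univ _) ?_
    have hmem : ∀ x ∈ X.filter (fun x => f x = u), x₀⁻¹ * x ∈ C z ⊓ C u := by
      intro x hx
      rw [Finset.mem_filter, hX, Set.Finite.mem_toFinset] at hx
      obtain ⟨⟨h3, hT⟩, he⟩ := hx
      have e1 : x * z * x⁻¹ = x₀ * z * x₀⁻¹ := he.trans hxu.symm
      have e2 : x * u * x⁻¹ = x₀ * u * x₀⁻¹ :=
        (hthird x h3 hT he).trans (hthird x₀ hx3 hxT hxu).symm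
      refine ⟨mem_C.mpr ?_, mem_C.mpr ?_⟩
      · show _ = _
        calc x₀⁻¹ * x * z = x₀⁻¹ * (x * z * x⁻¹) * x := by group
          _ = x₀⁻¹ * (x₀ * z * x₀⁻¹) * x := by rw [e1]
          _ = _ := by group
      · show _ = _
        calc x₀⁻¹ * x * u = x₀⁻¹ * (x * u * x⁻¹) * x := by group
          _ = x₀⁻¹ * (x₀ * u * x₀⁻¹) * x := by rw [e2]
          _ = _ := by group
    intro a ha b hb he
    simp only [Finset.mem_coe] at ha hb
    simp only [dif_pos (hmem a ha), dif_pos (hmem b hb)] at he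
    exact mul_left_cancel (congrArg Subtype.val he)
  · rw [Finset.not_nonempty_iff_eq_empty.mp hne]
    simp

end Hyp

end Cfsg.Agent.RecogFive
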