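import Cfsg.Agent.Lib.RecogFive.Small

/-!
# A large four-group centraliser: a stable Sylow subgroup above it

For `|F| ≥ 4` some `g` outside `U⟨w⟩` gives, in `N(U)/U`, two commuting involutions; one of them
generates an `A₅` with the image of `x`.  This yields a stable Sylow subgroup `S ⊇ U` and `s ∈ S`
such that no nonidentity element of `U` commutes with `s` and with a conjugate `w' s w'`.
-/

set_option autoImplicit false
set_option linter.unusedSectionVars false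
set_option linter.style.haveILetI false

namespace Cfsg.Agent.RecogFive

open Subgroup

variable {G : Type*} [Group G] [Finite G]

namespace Hyp

variable (H : Hyp G) {x v w : G}
include H

/-- The Sylow subgroup `C v` is larger than `U⟨w⟩`. -/
theorem C_ne_TW (D : S4Data x v w) (hf : 4 ≤ Nat.card (FF x v w)) : C v ≠ H.TW D := by
  haveI := Fact.mk Nat.prime_two
  intro heq
  obtain ⟨-, hcU⟩ := H.U_elementary D
  have hall : ∀ d ∈ FF x v w, ∀ s ∈ C v, Commute s d := by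
    intro d hd s hs
    rw [heq] at hs
    obtain ⟨hdU, hdw⟩ := mem_FF.mp hd
    rcases hs with h | h
    · exact hcU s h d hdU
    · have h' := (hcU _ h d hdU).mul_left hdw.symm
      rwa [mul_assoc, D.hw.1.mul_self, mul_one] at h'
  obtain ⟨d, hd, hdne⟩ : ∃ d ∈ FF x v w, d ≠ 1 ∧ d ≠ v := by
    by_contra hcon
    push Not at hcon
    classical
    haveI := Fintype.ofFinite G
    have h2 : (FF x v w : Set G).ncard ≤ 2 := by
      refine le_trans (Set.ncard_le_ncard (t := {1, v}) (fun a ha => ?_) (Set.toFinite _)) ?_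
      · by_cases h1 : a = 1
        · exact Or.inl h1
        · exact Or.inr (hcon a ha h1)
      · exact le_trans (Set.ncard_insert_le _ _) (by simp)
    have h4 : Nat.card (FF x v w) = (FF x v w : Set G).ncard := Nat.card_coe_set_eq _
    omega
  obtain ⟨P, hP⟩ := (H.isPGroup_C_inv D.hv.1).exists_le_sylow
  have hPe : (P : Subgroup G) = C v :=
    (Subgroup.eq_of_le_of_card_ge hP (H.card_le_of_isPGroup D.hv.1 P.2)).symm
  have hdi : Inv2 d := ⟨(H.U_elementary D).1 d (mem_FF.mp hd).1, hdne.1⟩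
  obtain ⟨g, hg⟩ := isConj_iff.mp (H.all_isConj D.hv.1 hdi)
  have hvc : v ∈ centralizer ((P : Subgroup G) : Set G) :=
    mem_centralizer_iff.mpr fun s hs => (mem_C.mp (hPe ▸ hs : s ∈ C v)).eq
  have hdc : g⁻¹⁻¹ * v * g⁻¹ ∈ centralizer ((P : Subgroup G) : Set G) := by
    rw [inv_inv, hg]
    exact mem_centralizer_iff.mpr fun s hs => (hall d hd s (hPe ▸ hs)).eq
  obtain ⟨n, hn, hne'⟩ := P.conj_eq_normalizer_conj_of_mem_centralizer v g⁻¹ hvc hdc
  rw [inv_inv, hg] at hne'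
  have hnT : n ∈ normalizer (H.TW D : Set G) := by rw [← heq, ← hPe]; exact hn
  have hnU := H.normalizer_TW_le D hf hnT
  have hnC : n ∉ H.TW D := by
    intro h
    apply hdne.2
    rw [hne', mul_assoc, ← (mem_C.mp (heq.symm ▸ h : n ∈ C v)).eq, ← mul_assoc, inv_mul_cancel,
      one_mul]
  rcases H.spec.pow_cases n with h3 | h4 | h5
  rotate_left
  · -- a `2`-element normalising a Sylow subgroup lies in it
    refine hnC ?_
    have hz : IsPGroup 2 (zpowers n) := isPGroup_of_pow_four H.spec fun a ha => by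
      obtain ⟨i, rfl⟩ := mem_zpowers_iff.mp ha
      rw [← zpow_natCast, ← zpow_mul, mul_comm, zpow_mul, zpow_natCast, h4, one_zpow]
    have hsup := sup_isPGroup (T := zpowers n) (hPe ▸ P.2 : IsPGroup 2 (C v)) hz
      (zpowers_le.mpr (by rw [heq]; exact hnT))
    have hn1 := Subgroup.eq_of_le_of_card_ge (le_sup_right : C v ≤ zpowers n ⊔ C v)
      (H.card_le_of_isPGroup D.hv.1 hsup)
    rw [← heq, hn1]
    exact (le_sup_left : zpowers n ≤ zpowers n ⊔ C v) (mem_zpowers n)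
  all_goals
    -- an element of odd prime order fixes a point of the coset `T ∖ U`
    obtain ⟨p, hp, hpn, hp2⟩ : ∃ p : ℕ, p.Prime ∧ n ^ p = 1 ∧ p ≠ 2 := by
      first
        | exact ⟨3, Nat.prime_three, h3, by norm_num⟩
        | exact ⟨5, Nat.prime_five, h5, by norm_num⟩
    haveI := Fact.mk hp
    have hn1 : n ≠ 1 := fun e => hnC (e ▸ one_mem _)
    let Y : Subgroup (ConjAct G) := zpowers (ConjAct.toConjAct n)
    have hYp : IsPGroup p Y := IsPGroup.of_card (n := 1) (by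
      rw [pow_one, Nat.card_zpowers, MulEquiv.orderOf_eq ConjAct.toConjAct,
        orderOf_eq_prime hpn hn1])
    let S : SubMulAction Y G :=
      { carrier := {a | a ∈ H.TW D ∧ a ∉ FU x v}
        smul_mem' := fun y a ha => by
          obtain ⟨i, hi⟩ := mem_zpowers_iff.mp y.2
          show (y : ConjAct G) • a ∈ H.TW D ∧ (y : ConjAct G) • a ∉ FU x v
          rw [← hi, ← map_zpow, ConjAct.smul_def, ConjAct.ofConjAct_toConjAct]
          exact ⟨(mem_normalizer_iff.mp (zpow_mem hnT i) a).mp ha.1,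
            fun h => ha.2 ((mem_normalizer_iff.mp (zpow_mem hnU i) a).mpr h)⟩ }
    have hcard : Nat.card S = Nat.card (FU x v) := by
      have hsplit := Set.ncard_sdiff_add_ncard_of_subset
        (show (FU x v : Set G) ⊆ (H.TW D : Set G) from H.U_le_TW D) (Set.toFinite _)
      have h1 : Nat.card S = ((H.TW D : Set G) \ (FU x v : Set G)).ncard :=
        Nat.card_coe_set_eq _
      have h2 : Nat.card (FU x v) = (FU x v : Set G).ncard := Nat.card_coe_set_eq _
      have h3' : Nat.card (H.TW D) = (H.TW D : Set G).ncard := Nat.card_coe_set_eq _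
      have := H.card_TW D
      omega
    obtain ⟨k, hk⟩ := (H.U_isP D).exists_card_eq
    have hnd : ¬ p ∣ Nat.card S := by
      rw [hcard, hk]
      intro h
      exact hp2 ((Nat.prime_dvd_prime_iff_eq hp Nat.prime_two).mp (hp.dvd_of_dvd_pow h))
    have hfix : Nat.card (MulAction.fixedPoints Y S) ≠ 0 := by
      intro h0
      have := hYp.card_modEq_card_fixedPoints S
      rw [h0] at this
      exact hnd (Nat.modEq_zero_iff_dvd.mp this)
    obtain ⟨⟨⟨a, haT, haU⟩, hfa⟩⟩ := (Nat.card_ne_zero.mp hfix).1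
    have h := congrArg Subtype.val (hfa ⟨ConjAct.toConjAct n, mem_zpowers _⟩)
    change ConjAct.toConjAct n • a = a at h
    rw [ConjAct.smul_def, ConjAct.ofConjAct_toConjAct] at h
    have hna : Commute n a := mul_inv_eq_iff_eq_mul.mp h
    have ha1 : a ≠ 1 := fun e => haU (e ▸ one_mem _)
    obtain ⟨a', ha', hca'⟩ : ∃ a' : G, Inv2 a' ∧ Commute n a' := by
      by_cases haa : a * a = 1
      · exact ⟨a, ⟨haa, ha1⟩, hna⟩
      · refine ⟨a * a, ⟨?_, haa⟩, hna.mul_right hna⟩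
        rw [← pow_four_of_isPGroup H.spec (H.isPGroup_C_inv D.hv.1) (H.TW_le_C D haT)]
        simp only [pow_succ, pow_zero, one_mul, mul_assoc]
    have h4' := H.spec.cent2 ha' hca'
    refine hn1 (?_ : n = 1)
    have hd1 := orderOf_dvd_of_pow_eq_one hpn
    have hd4 := orderOf_dvd_of_pow_eq_one h4'
    have hco : Nat.Coprime p 4 := by
      rw [show (4 : ℕ) = 2 ^ 2 by norm_num]
      exact Nat.Coprime.pow_right 2 ((Nat.coprime_primes hp Nat.prime_two).mpr hp2)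
    exact orderOf_eq_one_iff.mp (Nat.eq_one_of_dvd_coprimes hco hd1 hd4)

/-- An element of `N(U)` outside `U⟨w⟩` with square in `U`. -/
theorem exists_g (D : S4Data x v w) (hf : 4 ≤ Nat.card (FF x v w)) :
    ∃ g : G, g ∈ normalizer (FU x v : Set G) ∧ g ∉ H.TW D ∧
      g * w * g⁻¹ * w ∈ FU x v ∧ g * g ∈ FU x v := by
  obtain ⟨g₀, hg₀C, hg₀T, hg₀N⟩ := exists_mem_normalizer (H.isPGroup_C_inv D.hv.1) (H.TW_le_C D)
    (fun e => H.C_ne_TW D hf e.symm)
  obtain ⟨g, hgC, hgT, hgN, hg2⟩ :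
      ∃ g ∈ C v, g ∉ H.TW D ∧ g ∈ normalizer (H.TW D : Set G) ∧ g * g ∈ H.TW D := by
    by_cases h : g₀ * g₀ ∈ H.TW D
    · exact ⟨g₀, hg₀C, hg₀T, hg₀N, h⟩
    · refine ⟨g₀ * g₀, mul_mem hg₀C hg₀C, h, mul_mem hg₀N hg₀N, ?_⟩
      have h4 := H.spec.cent2 D.hv.1 (mem_C.mp hg₀C)
      rw [show g₀ * g₀ * (g₀ * g₀) = g₀ ^ 4 by simp only [pow_succ, pow_zero, one_mul, mul_assoc],
        h4]
      exact one_mem _
  have hgU := H.normalizer_TW_le D hf hgN
  have hgw : g * w * g⁻¹ * w ∈ FU x v := by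
    refine ((mem_normalizer_iff.mp hgN w).mp (H.w_mem_TW D)).resolve_left fun h => ?_
    exact H.w_notMem D ((mem_normalizer_iff.mp hgU w).mpr h)
  refine ⟨g, hgU, hgT, hgw, ?_⟩
  by_contra hgg
  have hb : g * g * w ∈ FU x v := hg2.resolve_left hgg
  obtain ⟨h2, hc⟩ := H.U_elementary D
  have hgA : ∀ a ∈ FU x v, g * a * g⁻¹ ∈ FU x v := fun a ha => (mem_normalizer_iff.mp hgU a).mp ha
  have hws := H.U_wstable D
  -- `g²` acts as `w`
  have hg2act : ∀ a ∈ FU x v, g * g * a * (g * g)⁻¹ = w * a * w := by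
    intro a ha
    have e : g * g = g * g * w * w := by rw [mul_assoc _ w w, D.hw.1.mul_self, mul_one]
    calc g * g * a * (g * g)⁻¹ = g * g * w * w * a * (g * g * w * w)⁻¹ := by rw [← e]
      _ = g * g * w * (w * a * w⁻¹) * (g * g * w)⁻¹ := by group
      _ = g * g * w * (w * a * w) * (g * g * w)⁻¹ := by rw [D.hw.1.inv]
      _ = w * a * w := by rw [(hc _ hb _ (hws a ha)).eq, mul_inv_cancel_right]
  have hNfix : ∀ a ∈ FU x v,
      a * (w * a * w) * (g * (a * (w * a * w)) * g⁻¹) = 1 := by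
    intro a ha
    have hCa : Commute (g * a) v := (mem_C.mp hgC).mul_left (hc a ha v (H.mem_U D).1)
    have h4 := H.spec.cent2 D.hv.1 hCa
    have hg4 := H.spec.cent2 D.hv.1 (mem_C.mp hgC)
    have hga := hgA a ha
    have hga2 := hgA _ hga
    have e1 : (g * a) ^ 4 = (g * a * g⁻¹) * (g * (g * a * g⁻¹) * g⁻¹) *
        (g * (g * (g * a * g⁻¹) * g⁻¹) * g⁻¹) *
        (g ^ 4 * a * (g ^ 4)⁻¹) * g ^ 4 := by
      simp only [pow_succ, pow_zero, one_mul]
      group
    rw [h4, hg4, one_mul, inv_one, mul_one, mul_one] at e1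
    have hg2a : g * (g * a * g⁻¹) * g⁻¹ = w * a * w := by rw [← hg2act a ha]; group
    rw [hg2a] at e1
    have e2 : g * (a * (w * a * w)) * g⁻¹ = (g * a * g⁻¹) * (g * (w * a * w) * g⁻¹) := by group
    rw [e2]
    generalize g * a * g⁻¹ = A at e1 hga ⊢
    generalize hB : w * a * w = B at e1 ⊢
    have hB' : B ∈ FU x v := hB ▸ hws a ha
    have hBg := hgA B hB'
    calc a * B * (A * (g * B * g⁻¹)) = A * (a * B) * (g * B * g⁻¹) := by
          rw [← mul_assoc, (hc _ (mul_mem ha hB') A hga).eq]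
      _ = A * B * (a * (g * B * g⁻¹)) := by rw [(hc a ha B hB').eq]; simp only [mul_assoc]
      _ = A * B * (g * B * g⁻¹) * a := by rw [(hc a ha _ hBg).eq]; simp only [mul_assoc]
      _ = 1 := e1.symm
  have hinv : ∀ {a b : G}, a ∈ FU x v → a * b = 1 → b = a := fun ha h => by
    rw [← inv_eq_of_mul_eq_one_right h, inv_eq_of_mul_eq_one_right (h2 _ ha)]
  have hN1 : ∀ a ∈ FU x v, a * (w * a * w) = 1 := by
    intro a ha
    set e := a * (g * a * g⁻¹) with he
    have heU : e ∈ FU x v := mul_mem ha (hgA a ha)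
    have hNe : e * (w * e * w) = 1 := by
      have hwe : w * e * w = (w * a * w) * (w * (g * a * g⁻¹) * w) := by
        rw [he]; simp only [mul_assoc, D.hw.1.mul_cancel]
      have hcomm : w * (g * a * g⁻¹) * w = g * (w * a * w) * g⁻¹ := by
        rw [← hg2act _ (hgA a ha), ← hg2act a ha]; group
      rw [hwe, hcomm, he]
      have := hNfix a ha
      rw [show g * (a * (w * a * w)) * g⁻¹ = (g * a * g⁻¹) * (g * (w * a * w) * g⁻¹) by group]
        at this
      rw [mul_assoc a (g * a * g⁻¹), ← mul_assoc (g * a * g⁻¹) (w * a * w),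
        (hc _ (hgA a ha) _ (hws a ha)).eq, mul_assoc (w * a * w), ← mul_assoc a]
      exact this
    have hefix : w * e * w = e := hinv heU hNe
    -- fixed points of `w` are fixed by `g`
    have hgfix : g * e * g⁻¹ = e := by
      set d := x * e * x⁻¹ with hd
      have hdU : d ∈ FU x v := H.U_stable D e heU
      have hdw : w * d * w = x⁻¹ * e * x := by
        rw [hd]
        calc w * (x * e * x⁻¹) * w = (w * x * w) * (w * e * w) * (w * x⁻¹ * w) := by
              simp only [mul_assoc, D.hw.1.mul_cancel]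
          _ = x⁻¹ * e * x⁻¹⁻¹ := by rw [hefix, D.hw.2, D.hw.2.inv D.hw.1]
          _ = _ := by rw [inv_inv]
      have hnorm := (fpf_of_normalizes H.spec D.hx (H.U_isP D) (H.U_stable D)).norm_eq_one heU
      rw [← hd, mul_assoc, ← hdw] at hnorm
      have hde : d * (w * d * w) = e := hinv heU hnorm
      have h := hNfix d hdU
      rw [hde] at h
      exact hinv heU h
    have hδ : e * (g * e * g⁻¹) = 1 := by rw [hgfix]; exact h2 e heU
    rw [he, show g * (a * (g * a * g⁻¹)) * g⁻¹ = (g * a * g⁻¹) * (g * g * a * (g * g)⁻¹) by group,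
      hg2act a ha, mul_assoc, ← mul_assoc (g * a * g⁻¹), h2 _ (hgA a ha), one_mul] at hδ
    exact hδ
  refine H.spec.not_commute D.hv.1 D.hx ?_
  have hu := hN1 _ (H.mem_U D).2
  rw [(U_flip D).2, ← mul_assoc, (hc _ (H.mem_U D).2 _ (H.mem_U D).1).eq, mul_assoc,
    h2 _ (H.mem_U D).2, mul_one] at hu
  exact absurd hu D.hv.1.ne

/-- The Sylow subgroup above `U` and the element `s`. -/
theorem exists_S (D : S4Data x v w) (hf : 4 ≤ Nat.card (FF x v w)) :
    ∃ (S : Subgroup G) (s w' : G), MaxIn x ⊤ S ∧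
      (∀ T : Subgroup G, IsPGroup 2 T → S ≤ T → T = S) ∧ FU x v ≤ S ∧ s ∈ S ∧ s ∉ FU x v ∧
      Inv2 w' ∧ (∀ n ∈ FU x v, w' * n * w' ∈ FU x v) ∧
      ∀ d ∈ FU x v, Commute d s → Commute d (w' * s * w') → d = 1 := by
  obtain ⟨g, hgM, hgT, hgw, hgg⟩ := H.exists_g D hf
  have hxM : x ∈ normalizer (FU x v : Set G) := Stable.mem_normalizer D.hx (H.U_stable D)
  have hwM : w ∈ normalizer (FU x v : Set G) := by
    rw [mem_normalizer_iff]
    intro n
    rw [D.hw.1.inv]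
    refine ⟨H.U_wstable D n, fun hn => ?_⟩
    have := H.U_wstable D _ hn
    simpa [mul_assoc, D.hw.1.mul_cancel, D.hw.1.mul_self] using this
  set M := normalizer (FU x v : Set G) with hM
  have hUM : FU x v ≤ M := le_normalizer
  set U' : Subgroup M := (FU x v).subgroupOf M with hU'
  haveI : U'.Normal := ⟨fun a ha b => by
    rw [hU', mem_subgroupOf]
    exact (mem_normalizer_iff.mp b.2 _).mp ha⟩
  set π := QuotientGroup.mk' U' with hπ
  have hπ1 : ∀ a : M, π a = 1 ↔ (a : G) ∈ FU x v := fun a => QuotientGroup.eq_one_iff a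
  have hQ : Spec5 (M ⧸ U') :=
    (H.spec.subgroup M).of_surjective π (QuotientGroup.mk'_surjective _)
  set X : M ⧸ U' := π ⟨x, hxM⟩ with hX
  set W₀ : M ⧸ U' := π ⟨w, hwM⟩ with hW₀
  set c : M ⧸ U' := π ⟨g, hgM⟩ with hc
  have hX3 : El3 X := El3.of_pow
    (by rw [hX, ← map_pow, show (⟨x, hxM⟩ : M) ^ 3 = 1 from Subtype.ext D.hx.pow3, map_one])
    fun e => not_mem_of_isPGroup H.spec D.hx (H.U_isP D) ((hπ1 _).mp e)
  have hW2 : Inv2 W₀ := ⟨by
      rw [hW₀, ← map_mul, show (⟨w, hwM⟩ : M) * ⟨w, hwM⟩ = 1 from Subtype.ext D.hw.1.mul_self,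
        map_one], fun e => H.w_notMem D ((hπ1 _).mp e)⟩
  have hWX : Flips W₀ X := by
    show W₀ * X * W₀ = X⁻¹
    rw [hW₀, hX, ← map_mul, ← map_mul, ← map_inv]
    exact congrArg π (Subtype.ext D.hw.2)
  have hc2 : Inv2 c :=
    ⟨by rw [hc, ← map_mul]; exact (hπ1 _).mpr hgg, fun e => hgT (Or.inl ((hπ1 _).mp e))⟩
  have hcW : Commute c W₀ := by
    show c * W₀ = W₀ * c
    have h : c * W₀ * c⁻¹ * W₀ = 1 := by
      rw [hc, hW₀, ← map_inv, ← map_mul, ← map_mul, ← map_mul]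
      exact (hπ1 _).mpr hgw
    rw [← mul_inv_eq_iff_eq_mul, eq_inv_of_mul_eq_one_left h, hW2.inv]
  have hcne : c ≠ W₀ := fun e => hgT (Or.inr (by
    have h : π (⟨g, hgM⟩ * ⟨w, hwM⟩) = 1 := by rw [map_mul, ← hc, ← hW₀, e, hW2.mul_self]
    exact (hπ1 _).mp h))
  have hncf : ¬ Flips c X := by
    intro hcf
    refine hQ.not_commute (hc2.mul_of_commute hW2 hcW hcne) hX3 ?_
    show _ = _
    have h1 := hcf.conj_eq hc2
    have h2 := hWX.conj_eq hW2
    refine mul_inv_eq_iff_eq_mul.mp ?_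
    calc c * W₀ * X * (c * W₀)⁻¹ = c * (W₀ * X * W₀⁻¹) * c⁻¹ := by group
      _ = (c * X * c⁻¹)⁻¹ := by rw [h2]; group
      _ = X := by rw [h1, inv_inv]
  -- preimages
  have pre : ∀ Wq : Subgroup (M ⧸ U'), IsPGroup 2 Wq →
      IsPGroup 2 ((Wq.comap π).map M.subtype) := by
    intro Wq hWq
    refine isPGroup_of_pow_four H.spec ?_
    rintro _ ⟨a, ha, rfl⟩
    show (a : G) ^ 4 = 1
    have h4 : π a ^ 4 = 1 := pow_four_of_isPGroup hQ hWq ha
    rw [← map_pow] at h4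
    have h8 : ((a : G) ^ 4) * ((a : G) ^ 4) = 1 := by
      have := (H.U_elementary D).1 _ ((hπ1 _).mp h4)
      simpa using this
    rcases H.spec.pow_cases (a : G) with h | h | h
    · calc (a : G) ^ 4 = ((a : G) ^ 4 * (a : G) ^ 4) ^ 2 * (((a : G) ^ 3) ^ 4)⁻¹ := by group
        _ = 1 := by rw [h8, h, one_pow, one_pow, inv_one, one_mul]
    · exact h
    · calc (a : G) ^ 4 = ((a : G) ^ 4 * (a : G) ^ 4) ^ 3 * (((a : G) ^ 5) ^ 4)⁻¹ := by group
        _ = 1 := by rw [h8, h, one_pow, one_pow, inv_one, one_mul]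
  have pre_le : ∀ Wq : Subgroup (M ⧸ U'), FU x v ≤ (Wq.comap π).map M.subtype := fun Wq a ha =>
    ⟨⟨a, hUM ha⟩, by
      rw [SetLike.mem_coe, mem_comap, (hπ1 ⟨a, hUM ha⟩).mpr ha]; exact one_mem _, rfl⟩
  have pre_stable : ∀ (Wq : Subgroup (M ⧸ U')) (k : M), (∀ n ∈ Wq, π k * n * (π k)⁻¹ ∈ Wq) →
      Stable (k : G) ((Wq.comap π).map M.subtype) := by
    intro Wq k hk a ha
    obtain ⟨b, hb, rfl⟩ := ha
    refine ⟨k * b * k⁻¹, ?_, rfl⟩
    rw [SetLike.mem_coe, mem_comap, map_mul, map_mul, map_inv]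
    exact hk _ hb
  have contra : ∀ (Wq : Subgroup (M ⧸ U')) (k : M), IsPGroup 2 Wq → Stable X Wq →
      (∀ n ∈ Wq, π k * n * π k ∈ Wq) → (k : G) ∈ Iv x → Wq ≠ ⊥ → False := by
    intro Wq k hWq hXs hks hk hne
    apply hne
    have hki : Inv2 (π k) ∨ π k = 1 := by
      by_cases h : π k = 1
      · exact Or.inr h
      · refine Or.inl ⟨?_, h⟩
        rw [← map_mul, show k * k = 1 from Subtype.ext hk.1.mul_self, map_one]
    have hle := H.le_U D (pre Wq hWq) (pre_stable Wq ⟨x, hxM⟩ hXs) (pre_le Wq) hk (by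
      intro a ha
      have := pre_stable Wq k (fun n hn => by
        rcases hki with h | h
        · rw [h.inv]; exact hks n hn
        · simpa [h] using hn) a ha
      rwa [hk.1.inv] at this)
    rw [eq_bot_iff]
    intro q hq
    obtain ⟨a, rfl⟩ := QuotientGroup.mk'_surjective U' q
    exact Subgroup.mem_bot.mpr ((hπ1 a).mpr (hle ⟨a, hq, rfl⟩))
  -- inverters lift
  have lift : ∀ W₁ : M ⧸ U', Inv2 W₁ → Flips W₁ X → ∃ k : M, (k : G) ∈ Iv x ∧ π k = W₁ := by
    intro W₁ hW₁ hf₁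
    obtain ⟨k, rfl⟩ := QuotientGroup.mk'_surjective U' W₁
    change Inv2 (π k) at hW₁
    change π k * X * π k = X⁻¹ at hf₁
    have hu : x * ((k : G) * x * (k : G)⁻¹) ∈ FU x v := by
      have h := (hπ1 (⟨x, hxM⟩ * (k * ⟨x, hxM⟩ * k⁻¹))).mp (by
        rw [map_mul, map_mul, map_mul, map_inv, ← hX, hW₁.inv, hf₁, mul_inv_cancel])
      exact h
    obtain ⟨m, hm, hme⟩ :=
      (fpf_of_normalizes H.spec D.hx (H.U_isP D) (H.U_stable D)).surj hu
    rw [((H.U_elementary D).2 _ (inv_mem hm) _ (H.U_stable D m hm)).eq] at hme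
    have hkx : (k : G) * x * (k : G)⁻¹ = m * x⁻¹ * m⁻¹ := by
      calc (k : G) * x * (k : G)⁻¹ = x⁻¹ * (x * ((k : G) * x * (k : G)⁻¹)) := by group
        _ = x⁻¹ * (x * m * x⁻¹ * m⁻¹) := by rw [hme]
        _ = _ := by group
    have hflip : m⁻¹ * (k : G) * x * (m⁻¹ * (k : G))⁻¹ = x⁻¹ := by
      calc m⁻¹ * (k : G) * x * (m⁻¹ * (k : G))⁻¹ = m⁻¹ * ((k : G) * x * (k : G)⁻¹) * m := by group
        _ = m⁻¹ * (m * x⁻¹ * m⁻¹) * m := by rw [hkx]
        _ = x⁻¹ := by group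
    have hi := H.spec.inv2_of_flip D.hx hflip
    refine ⟨⟨m⁻¹, hUM (inv_mem hm)⟩ * k, ⟨hi, ?_⟩, ?_⟩
    · show m⁻¹ * (k : G) * x * (m⁻¹ * (k : G)) = x⁻¹
      rw [← hflip, hi.inv]
    · rw [map_mul, (hπ1 ⟨m⁻¹, hUM (inv_mem hm)⟩).mpr (inv_mem hm), one_mul]
  -- `c` has type five
  rcases pair_cases hQ hc2 hX3 with h | h | ⟨v₁, w₁, hv₁, hv₁x, hw₁, hw₁x, hc₁, -⟩ |
    ⟨v₁, w₁, hv₁, hv₁x, hw₁, hw₁x, hc₁, -⟩
  · exact absurd h hncf
  · exfalso
    obtain ⟨V, hcV, hVp, hVs⟩ := exists_four hQ hX3 ⟨hc2, h⟩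
    set Wq := V ⊓ V.map (MulAut.conj W₀).toMonoidHom with hWq
    have hmem : ∀ {n : M ⧸ U'}, n ∈ V.map (MulAut.conj W₀).toMonoidHom → W₀ * n * W₀ ∈ V := by
      rintro _ ⟨a, ha, rfl⟩
      have e : W₀ * (W₀ * a * W₀⁻¹) * W₀ = a := by
        rw [hW2.inv]; simp only [mul_assoc, hW2.mul_cancel, hW2.mul_self, mul_one]
      simp only [MulEquiv.coe_toMonoidHom, MulAut.conj_apply]
      rwa [e]
    have hmem' : ∀ {n : M ⧸ U'}, W₀ * n * W₀ ∈ V → n ∈ V.map (MulAut.conj W₀).toMonoidHom := by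
      intro n hn
      refine ⟨_, hn, ?_⟩
      simp only [MulEquiv.coe_toMonoidHom, MulAut.conj_apply, hW2.inv]
      simp only [mul_assoc, hW2.mul_cancel, hW2.mul_self, mul_one]
    have hwn : ∀ n : M ⧸ U', W₀ * (W₀ * n * W₀) * W₀ = n := fun n => by
      simp only [mul_assoc, hW2.mul_cancel, hW2.mul_self, mul_one]
    obtain ⟨k, hk, hkW⟩ := lift W₀ hW2 hWX
    refine contra Wq k (hVp.to_le inf_le_left) ?_ ?_ hk ?_
    · intro n hn
      refine Subgroup.mem_inf.mpr ⟨hVs n hn.1, hmem' ?_⟩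
      have e : W₀ * (X * n * X⁻¹) * W₀ = X⁻¹ * (W₀ * n * W₀) * X := by
        calc W₀ * (X * n * X⁻¹) * W₀ = (W₀ * X * W₀) * (W₀ * n * W₀) * (W₀ * X⁻¹ * W₀) := by
              simp only [mul_assoc, hW2.mul_cancel]
          _ = X⁻¹ * (W₀ * n * W₀) * X⁻¹⁻¹ := by rw [hWX, hWX.inv hW2]
          _ = _ := by rw [inv_inv]
      rw [e]
      exact Stable.inv hX3 hVs (hmem hn.2)
    · intro n hn
      rw [hkW]
      refine Subgroup.mem_inf.mpr ⟨hmem hn.2, hmem' ?_⟩
      rw [hwn]; exact hn.1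
    · intro e
      refine hc2.ne (Subgroup.mem_bot.mp (e ▸ Subgroup.mem_inf.mpr ⟨hcV, hmem' ?_⟩))
      rw [← hcW.eq, mul_assoc, hW2.mul_self, mul_one]
      exact hcV
  · exfalso
    obtain ⟨V, hvV, hVp, hVs⟩ := exists_four hQ hX3 ⟨hv₁, hv₁x⟩
    set Wq := V ⊓ V.map (MulAut.conj w₁).toMonoidHom with hWq
    have hmem : ∀ {n : M ⧸ U'}, n ∈ V.map (MulAut.conj w₁).toMonoidHom → w₁ * n * w₁ ∈ V := by
      rintro _ ⟨a, ha, rfl⟩
      simp only [MulEquiv.coe_toMonoidHom, MulAut.conj_apply, hw₁.inv]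
      rw [show w₁ * (w₁ * a * w₁) * w₁ = a by
        simp only [mul_assoc, hw₁.mul_cancel, hw₁.mul_self, mul_one]]
      exact ha
    have hmem' : ∀ {n : M ⧸ U'}, w₁ * n * w₁ ∈ V → n ∈ V.map (MulAut.conj w₁).toMonoidHom := by
      intro n hn
      refine ⟨_, hn, ?_⟩
      simp only [MulEquiv.coe_toMonoidHom, MulAut.conj_apply, hw₁.inv]
      simp only [mul_assoc, hw₁.mul_cancel, hw₁.mul_self, mul_one]
    obtain ⟨k, hk, hkW⟩ := lift w₁ hw₁ hw₁x
    refine contra Wq k (hVp.to_le inf_le_left) ?_ ?_ hk ?_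
    · intro n hn
      refine Subgroup.mem_inf.mpr ⟨hVs n hn.1, hmem' ?_⟩
      have e : w₁ * (X * n * X⁻¹) * w₁ = X⁻¹ * (w₁ * n * w₁) * X := by
        calc w₁ * (X * n * X⁻¹) * w₁ = (w₁ * X * w₁) * (w₁ * n * w₁) * (w₁ * X⁻¹ * w₁) := by
              simp only [mul_assoc, hw₁.mul_cancel]
          _ = X⁻¹ * (w₁ * n * w₁) * X⁻¹⁻¹ := by rw [hw₁x, hw₁x.inv hw₁]
          _ = _ := by rw [inv_inv]
      rw [e]
      exact Stable.inv hX3 hVs (hmem hn.2)
    · intro n hn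
      rw [hkW]
      refine Subgroup.mem_inf.mpr ⟨hmem hn.2, hmem' ?_⟩
      rw [show w₁ * (w₁ * n * w₁) * w₁ = n by
        simp only [mul_assoc, hw₁.mul_cancel, hw₁.mul_self, mul_one]]
      exact hn.1
    · intro e
      refine hv₁.ne (Subgroup.mem_bot.mp (e ▸ Subgroup.mem_inf.mpr ⟨hvV, hmem' ?_⟩))
      rw [← hc₁.eq, mul_assoc, hw₁.mul_self, mul_one]
      exact hvV
  · obtain ⟨V, hvV, hVp, hVs⟩ := exists_four hQ hX3 ⟨hv₁, hv₁x⟩
    obtain ⟨k, hk, hkW⟩ := lift w₁ hw₁ hw₁x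
    obtain ⟨s, rfl⟩ := QuotientGroup.mk'_surjective U' v₁
    change Inv2 (π s) at hv₁
    change π s ∈ V at hvV
    change (π s * w₁) ^ 3 = 1 at hc₁
    set W := (V.comap π).map M.subtype with hW
    have hsW : (s : G) ∈ W := ⟨s, hvV, rfl⟩
    have hsU : (s : G) ∉ FU x v := fun h => hv₁.ne ((hπ1 s).mpr h)
    obtain ⟨S, hWS, hS⟩ := exists_maxIn (M := ⊤) (pre V hVp) (pre_stable V ⟨x, hxM⟩ hVs) le_top
    have hUS : FU x v ≤ S := (pre_le V).trans hWS
    have hSne : S ≠ ⊥ := fun e => H.U_ne_bot D (le_bot_iff.mp (e ▸ hUS))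
    refine ⟨S, s, k, hS, ?_, hUS, hWS hsW, hsU, hk.1, ?_, ?_⟩
    · rcases H.dichotomy D.hx hS hSne with ⟨w'', hw'', hst⟩ | h
      · exact absurd (H.le_U D hS.isP hS.stable hUS hw'' hst (hWS hsW)) hsU
      · exact h
    · intro n hn
      have := (mem_normalizer_iff.mp k.2 n).mp hn
      rwa [hk.1.inv] at this
    · intro d hd hds hdk
      by_contra hd1
      have hdi : Inv2 d := ⟨(H.U_elementary D).1 d hd, hd1⟩
      have hy4 := H.spec.cent2 hdi (hds.mul_right hdk).symm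
      have hy : π (s * (k * s * k)) ^ 4 = 1 := by
        rw [← map_pow, show (s * (k * s * k) : M) ^ 4 = 1 from Subtype.ext (by simpa using hy4),
          map_one]
      rw [map_mul, map_mul, map_mul, hkW,
        show π s * (w₁ * π s * w₁) = (π s * w₁) * (π s * w₁) by simp only [mul_assoc],
        ← pow_two, ← pow_mul] at hy
      have h1 : (π s * w₁) ^ 2 = 1 := by
        calc (π s * w₁) ^ 2 = (π s * w₁) ^ (2 * 4) * (((π s * w₁) ^ 3) ^ 2)⁻¹ := by group
          _ = 1 := by rw [hy, hc₁, one_pow, inv_one, one_mul]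
      have h0 : π s * w₁ = 1 := by rwa [pow_succ, h1, one_mul] at hc₁
      refine T3.not_flips hv₁ hX3 hv₁x ?_
      rw [mul_eq_one_iff_eq_inv.mp h0, hw₁.inv]
      exact hw₁x

end Hyp

end Cfsg.Agent.RecogFive
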