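import Cfsg.Agent.Lib.RecogFive.NoS4

/-!
# An `S₄`: the centraliser of the four-group

With `v ∈ TT x` commuting with `w ∈ Iv x` let `U = C v ⊓ C (x v x⁻¹)`: an elementary abelian
`2`-group which contains every `⟨x, w'⟩`-invariant `2`-subgroup containing it.
-/

set_option autoImplicit false
set_option linter.unusedSectionVars false
set_option linter.style.haveILetI false

namespace Cfsg.Agent.RecogFive

open Subgroup

variable {G : Type*} [Group G] [Finite G]

/-- A type-three pair `(v, x)` together with an inverter commuting with `v`. -/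
structure S4Data (x v w : G) : Prop where
  hx : El3 x
  hv : v ∈ TT x
  hw : w ∈ Iv x
  comm : Commute v w

/-- The centraliser of the four-group. -/
def FU (x v : G) : Subgroup G := C v ⊓ C (x * v * x⁻¹)

namespace Hyp

variable (H : Hyp G) {x v w : G}
include H

theorem U_isP (D : S4Data x v w) : IsPGroup 2 (FU x v) :=
  (H.isPGroup_C_inv D.hv.1).to_le inf_le_left

omit H in
theorem U_flip (D : S4Data x v w) :
    w * v * w = v ∧ w * (x * v * x⁻¹) * w = v * (x * v * x⁻¹) := by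
  have h1 : w * v * w = v := by rw [← D.comm.eq, mul_assoc, D.hw.1.mul_self, mul_one]
  refine ⟨h1, ?_⟩
  rw [T3.third D.hv.1 D.hx D.hv.2]
  calc w * (x * v * x⁻¹) * w = (w * x * w) * (w * v * w) * (w * x⁻¹ * w) := by
        simp only [mul_assoc, D.hw.1.mul_cancel]
    _ = x⁻¹ * v * x⁻¹⁻¹ := by rw [h1, D.hw.2, D.hw.2.inv D.hw.1]
    _ = _ := by rw [inv_inv]

theorem U_stable (D : S4Data x v w) : Stable x (FU x v) := by
  intro n hn
  set u := x * v * x⁻¹ with hu
  obtain ⟨h1, h2⟩ := hn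
  have e1 : Commute (x * n * x⁻¹) u := by
    have := (mem_C.mp h1).map (MulAut.conj x)
    exact this
  have e2 : Commute (x * n * x⁻¹) (x⁻¹ * v * x) := by
    have h : Commute (x * n * x⁻¹) (x * u * x⁻¹) := (mem_C.mp h2).map (MulAut.conj x)
    rwa [hu, show x * (x * v * x⁻¹) * x⁻¹ = (x * x) * v * (x * x)⁻¹ by group, D.hx.sq,
      inv_inv] at h
  have hv' : v = x⁻¹ * v * x * u := by
    rw [← T3.third D.hv.1 D.hx D.hv.2, ← hu, mul_assoc, hu, (D.hv.1.conj x).mul_self, mul_one]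
  refine ⟨mem_C.mpr ?_, mem_C.mpr e1⟩
  have := e2.mul_right e1
  rwa [← hv'] at this

theorem U_wstable (D : S4Data x v w) : ∀ n ∈ FU x v, w * n * w ∈ FU x v := by
  intro n hn
  obtain ⟨h1, h2⟩ := hn
  obtain ⟨hwv, hwu⟩ := U_flip D
  have hwi := D.hw.1
  have key : ∀ {a b : G}, Commute n a → w * a * w = b → Commute (w * n * w) b := by
    intro a b ha hab
    show _ = _
    rw [← hab]
    simp only [mul_assoc, hwi.mul_cancel]
    rw [← mul_assoc n a, ha.eq, mul_assoc]
  refine ⟨mem_C.mpr (key (mem_C.mp h1) hwv), mem_C.mpr ?_⟩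
  have hu' : w * (v * (x * v * x⁻¹)) * w = x * v * x⁻¹ := by
    calc w * (v * (x * v * x⁻¹)) * w = (w * v * w) * (w * (x * v * x⁻¹) * w) := by
          simp only [mul_assoc, hwi.mul_cancel]
      _ = _ := by rw [hwv, hwu, D.hv.1.mul_cancel]
  exact key ((mem_C.mp h1).mul_right (mem_C.mp h2)) hu'

theorem mem_U (D : S4Data x v w) : v ∈ FU x v ∧ x * v * x⁻¹ ∈ FU x v := by
  have hc := T3.commute D.hv.1 D.hx D.hv.2
  exact ⟨⟨self_mem_C v, mem_C.mpr hc⟩, mem_C.mpr hc.symm, self_mem_C _⟩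

theorem U_ne_bot (D : S4Data x v w) : FU x v ≠ ⊥ := fun e =>
  D.hv.1.ne (by simpa [e] using (H.mem_U D).1)

theorem U_elementary (D : S4Data x v w) :
    (∀ a ∈ FU x v, a * a = 1) ∧ ∀ a ∈ FU x v, ∀ b ∈ FU x v, Commute a b :=
  elementary H.spec D.hx (H.U_isP D) (H.U_stable D) D.hw.1 D.hw.2 (H.U_wstable D)

/-- Nothing larger is invariant under a copy of `Sym(3)`. -/
theorem le_U (D : S4Data x v w) {W : Subgroup G} (hW : IsPGroup 2 W) (hs : Stable x W)
    (hle : FU x v ≤ W) {w' : G} (hw' : w' ∈ Iv x) (hww : ∀ n ∈ W, w' * n * w' ∈ W) :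
    W ≤ FU x v := by
  obtain ⟨-, hc⟩ := elementary H.spec D.hx hW hs hw'.1 hw'.2 hww
  exact fun a ha => ⟨mem_C.mpr (hc a ha v (hle (H.mem_U D).1)),
    mem_C.mpr (hc a ha _ (hle (H.mem_U D).2))⟩

theorem w_notMem (D : S4Data x v w) : w ∉ FU x v := by
  intro h
  have h2 := (U_flip D).2
  rw [mul_assoc, ← (mem_C.mp h.2).eq, ← mul_assoc, D.hw.1.mul_self, one_mul] at h2
  exact D.hv.1.ne (mul_eq_right.mp h2.symm)

omit H in
/-- The fixed points of `w`. -/
def FF (x v w : G) : Subgroup G := FU x v ⊓ centralizer {w}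

omit H in
theorem mem_FF {a : G} : a ∈ FF x v w ↔ a ∈ FU x v ∧ Commute a w := by
  rw [FF, Subgroup.mem_inf, mem_centralizer_singleton_iff]
  rfl

theorem card_U (D : S4Data x v w) : Nat.card (FU x v) = Nat.card (FF x v w) ^ 2 :=
  card_eq_fixed_sq H.spec D.hx (H.U_isP D) (H.U_stable D) D.hw.1 D.hw.2 (H.U_wstable D)

theorem v_mem_FF (D : S4Data x v w) : v ∈ FF x v w := mem_FF.mpr ⟨(H.mem_U D).1, D.comm⟩

theorem card_FF_cases (D : S4Data x v w) :
    Nat.card (FF x v w) = 2 ∨ 4 ≤ Nat.card (FF x v w) := by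
  haveI := Fact.mk Nat.prime_two
  have hP : IsPGroup 2 (FF x v w) := (H.U_isP D).to_le (fun a ha => (mem_FF.mp ha).1)
  obtain ⟨k, hk⟩ := hP.exists_card_eq
  have h1 : 1 < Nat.card (FF x v w) := by
    haveI : Nontrivial (FF x v w) :=
      ⟨⟨⟨v, H.v_mem_FF D⟩, 1, fun e => D.hv.1.ne (congrArg Subtype.val e)⟩⟩
    exact Finite.one_lt_card
  rw [hk] at h1 ⊢
  rcases (by omega : k = 0 ∨ k = 1 ∨ 2 ≤ k) with rfl | rfl | hk2
  · simp at h1
  · exact Or.inl (pow_one 2)
  · exact Or.inr (by simpa using Nat.pow_le_pow_right (show 2 > 0 by norm_num) hk2)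

/-- `U⟨w⟩`. -/
def TW (D : S4Data x v w) : Subgroup G where
  carrier := {g | g ∈ FU x v ∨ g * w ∈ FU x v}
  one_mem' := Or.inl (one_mem _)
  mul_mem' := by
    have hwi := D.hw.1
    have hws := H.U_wstable D
    rintro a b (ha | ha) (hb | hb)
    · exact Or.inl (mul_mem ha hb)
    · exact Or.inr (by rw [mul_assoc]; exact mul_mem ha hb)
    · refine Or.inr ?_
      have h := mul_mem ha (hws b hb)
      rwa [show a * w * (w * b * w) = a * (w * w) * b * w by group, hwi.mul_self, mul_one] at h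
    · refine Or.inl ?_
      have h := mul_mem ha (hws _ hb)
      rwa [show a * w * (w * (b * w) * w) = a * (w * w) * b * (w * w) by group, hwi.mul_self,
        mul_one, mul_one] at h
  inv_mem' := by
    have hwi := D.hw.1
    have hws := H.U_wstable D
    rintro a (ha | ha)
    · exact Or.inl (inv_mem ha)
    · refine Or.inr ?_
      have h := hws _ (inv_mem ha)
      rwa [mul_inv_rev, hwi.inv, show w * (w * a⁻¹) * w = (w * w) * a⁻¹ * w by group, hwi.mul_self,
        one_mul] at h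

theorem mem_TW (D : S4Data x v w) {g : G} :
    g ∈ H.TW D ↔ g ∈ FU x v ∨ g * w ∈ FU x v := Iff.rfl

theorem w_mem_TW (D : S4Data x v w) : w ∈ H.TW D :=
  Or.inr (by rw [D.hw.1.mul_self]; exact one_mem _)

theorem U_le_TW (D : S4Data x v w) : FU x v ≤ H.TW D := fun _ h => Or.inl h

theorem TW_le_C (D : S4Data x v w) : H.TW D ≤ C v := by
  rintro g (hg | hg)
  · exact hg.1
  · have h := mul_mem hg.1 (mem_C.mpr D.comm.symm)
    rwa [mul_assoc, D.hw.1.mul_self, mul_one] at h

theorem card_TW (D : S4Data x v w) : Nat.card (H.TW D) = 2 * Nat.card (FU x v) := by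
  classical
  have hset : (H.TW D : Set G) = (FU x v : Set G) ∪ (· * w) '' (FU x v : Set G) := by
    ext g
    constructor
    · rintro (h | h)
      · exact Or.inl h
      · exact Or.inr ⟨g * w, h, by simp [mul_assoc, D.hw.1.mul_self]⟩
    · rintro (h | ⟨a, ha, rfl⟩)
      · exact Or.inl h
      · exact Or.inr (by simpa [mul_assoc, D.hw.1.mul_self] using ha)
  have hdisj : Disjoint (FU x v : Set G) ((· * w) '' (FU x v : Set G)) := by
    rw [Set.disjoint_left]
    rintro g hg ⟨a, ha, rfl⟩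
    exact H.w_notMem D (by simpa using mul_mem (inv_mem ha) hg)
  have h1 : Nat.card (H.TW D) = (H.TW D : Set G).ncard := Nat.card_coe_set_eq _
  have h2 : Nat.card (FU x v) = (FU x v : Set G).ncard := Nat.card_coe_set_eq _
  rw [h1, hset, Set.ncard_union_eq hdisj, Set.ncard_image_of_injective _ (mul_left_injective w), h2]
  ring

/-- Elements outside `U` act like `w`. -/
theorem commute_of_outside (D : S4Data x v w) {a d : G} (ha : a * w ∈ FU x v) (hd : d ∈ FU x v)
    (hc : Commute d a) : d ∈ FF x v w := by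
  refine mem_FF.mpr ⟨hd, ?_⟩
  have h := hc.inv_right.mul_right ((H.U_elementary D).2 d hd _ ha)
  rwa [inv_mul_cancel_left] at h

/-- For `|F| ≥ 4` the elementary abelian subgroup of index two is unique. -/
theorem normalizer_TW_le (D : S4Data x v w) (hf : 4 ≤ Nat.card (FF x v w)) {g : G}
    (hg : g ∈ normalizer (H.TW D : Set G)) : g ∈ normalizer (FU x v : Set G) := by
  classical
  obtain ⟨-, hc⟩ := H.U_elementary D
  suffices key : ∀ g ∈ normalizer (H.TW D : Set G), ∀ u ∈ FU x v, g * u * g⁻¹ ∈ FU x v by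
    rw [mem_normalizer_iff]
    refine fun n => ⟨fun hn => key g hg n hn, fun hn => ?_⟩
    have := key g⁻¹ (inv_mem hg) _ hn
    rwa [inv_inv, show g⁻¹ * (g * n * g⁻¹) * g = n by group] at this
  intro g hg u hu
  by_contra hgu
  have hT : ∀ a ∈ FU x v, g * a * g⁻¹ ∈ H.TW D := fun a ha =>
    (mem_normalizer_iff.mp hg a).mp (H.U_le_TW D ha)
  have hgu' : g * u * g⁻¹ * w ∈ FU x v := (hT u hu).resolve_left hgu
  have hcA : ∀ a ∈ FU x v, ∀ b ∈ FU x v, Commute (g * a * g⁻¹) (g * b * g⁻¹) := fun a ha b hb =>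
    (hc a ha b hb).map (MulAut.conj g)
  have hin : ∀ a ∈ FU x v, g * a * g⁻¹ ∈ FU x v → g * a * g⁻¹ ∈ FF x v w := fun a ha h =>
    H.commute_of_outside D hgu' h (hcA a ha u hu)
  let φ : FU x v → FF x v w × Bool := fun a =>
    if h : g * (a : G) * g⁻¹ ∈ FU x v then (⟨_, hin a a.2 h⟩, true)
    else if h' : g * ((a : G) * u) * g⁻¹ ∈ FU x v then (⟨_, hin _ (mul_mem a.2 hu) h'⟩, false)
    else (1, false)
  have hout : ∀ a : FU x v, g * (a : G) * g⁻¹ ∉ FU x v → g * ((a : G) * u) * g⁻¹ ∈ FU x v := by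
    intro a ha
    have h1 := (hT a a.2).resolve_left ha
    have h2 := mul_mem h1 (H.U_wstable D _ hgu')
    rw [show g * (a : G) * g⁻¹ * w * (w * (g * u * g⁻¹ * w) * w)
      = g * (a : G) * g⁻¹ * (w * w) * (g * u * g⁻¹) * (w * w) by group, D.hw.1.mul_self] at h2
    rwa [show g * ((a : G) * u) * g⁻¹ = g * (a : G) * g⁻¹ * 1 * (g * u * g⁻¹) * 1 by group]
  have hφ : Function.Injective φ := by
    intro a b hab
    by_cases h1 : g * (a : G) * g⁻¹ ∈ FU x v <;> by_cases h2 : g * (b : G) * g⁻¹ ∈ FU x v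
    · simp only [φ, dif_pos h1, dif_pos h2, Prod.mk.injEq, Subtype.mk.injEq] at hab
      exact Subtype.ext (mul_left_cancel (mul_right_cancel hab.1))
    · simp [φ, dif_pos h1, dif_neg h2, dif_pos (hout b h2)] at hab
    · simp [φ, dif_neg h1, dif_pos h2, dif_pos (hout a h1)] at hab
    · simp only [φ, dif_neg h1, dif_neg h2, dif_pos (hout a h1), dif_pos (hout b h2),
        Prod.mk.injEq, Subtype.mk.injEq] at hab
      exact Subtype.ext (mul_right_cancel (mul_left_cancel (mul_right_cancel hab.1)))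
  have hle := Nat.card_le_card_of_injective φ hφ
  rw [Nat.card_prod, Nat.card_eq_fintype_card (α := Bool), Fintype.card_bool, H.card_U D,
    pow_two] at hle
  have := Nat.le_of_mul_le_mul_left hle (by omega)
  omega

end Hyp

end Cfsg.Agent.RecogFive
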