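import Cfsg.Agent.Lib.RecogFive.S4

/-!
# A self-centralising four-group: Sylow two-subgroups of order eight and `|G| = 360`
-/

set_option autoImplicit false
set_option linter.unusedSectionVars false
set_option linter.style.haveILetI false

namespace Cfsg.Agent.RecogFive

open Subgroup

variable {G : Type*} [Group G] [Finite G]

namespace Hyp

variable (H : Hyp G) {x v w : G}
include H

theorem small_case (D : S4Data x v w) (hf : Nat.card (FF x v w) = 2) :
    Nat.card (C v) = 8 ∧ Nat.card G = 360 := by
  classical
  obtain ⟨h2, hc⟩ := H.U_elementary D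
  set u := x * v * x⁻¹ with hu
  have hui : Inv2 u := D.hv.1.conj x
  have hcard : Nat.card (FU x v) = 4 := by rw [H.card_U D, hf]; norm_num
  have huU : u ∈ FU x v := (H.mem_U D).2
  have hvU := (H.mem_U D).1
  have huv : u ≠ v := fun e => H.spec.not_commute D.hv.1 D.hx
    (mul_inv_eq_iff_eq_mul.mp e).symm
  have hU4 : ∀ a ∈ FU x v, a = 1 ∨ a = v ∨ a = u ∨ a = v * u := by
    intro a ha
    haveI := Fintype.ofFinite G
    set A : Finset G := {1, v, u, v * u} with hA
    have hAc : A.card = 4 := by
      rw [hA, Finset.card_insert_of_notMem, Finset.card_insert_of_notMem, Finset.card_pair]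
      · exact fun e => D.hv.1.ne (mul_eq_right.mp e.symm)
      · simp only [Finset.mem_insert, Finset.mem_singleton, not_or]
        exact ⟨huv.symm, fun e => hui.ne (mul_eq_left.mp e.symm)⟩
      · simp only [Finset.mem_insert, Finset.mem_singleton, not_or]
        refine ⟨D.hv.1.ne.symm, hui.ne.symm, fun e => huv ?_⟩
        rw [eq_inv_of_mul_eq_one_right e.symm, D.hv.1.inv]
    have hsub : A ⊆ Finset.univ.filter fun a => a ∈ FU x v := by
      intro b hb
      simp only [hA, Finset.mem_insert, Finset.mem_singleton] at hb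
      simp only [Finset.mem_filter, Finset.mem_univ, true_and]
      rcases hb with rfl | rfl | rfl | rfl
      exacts [one_mem _, hvU, huU, mul_mem hvU huU]
    have heq := Finset.eq_of_subset_of_card_le hsub (by
      rw [hAc, ← ncard_setOf_eq, ← hcard]
      exact le_of_eq (Nat.card_coe_set_eq _).symm)
    have : a ∈ A := by rw [heq]; simp [ha]
    simpa [hA] using this
  have hF2 : ∀ a ∈ FF x v w, a = 1 ∨ a = v := by
    intro a ha
    have hwu := (U_flip D).2
    obtain ⟨haU, haw⟩ := mem_FF.mp ha
    rcases hU4 a haU with h | h | h | h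
    · exact Or.inl h
    · exact Or.inr h
    · exfalso
      rw [h] at haw
      refine D.hv.1.ne (mul_eq_right.mp (?_ : v * u = u))
      rw [← hwu, ← haw.eq, mul_assoc, D.hw.1.mul_self, mul_one]
    · exfalso
      rw [h] at haw
      have hu' : w * u * w = u := by
        have := haw.eq
        have e : Commute v w := D.comm
        have : Commute u w := by
          have h := e.mul_left haw
          rwa [D.hv.1.mul_cancel] at h
        rw [← this.eq, mul_assoc, D.hw.1.mul_self, mul_one]
      refine D.hv.1.ne (mul_eq_right.mp (?_ : v * u = u))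
      rw [← hwu, hu']
  have huw : ¬ Commute u w := fun h => by
    rcases hF2 u (mem_FF.mpr ⟨huU, h⟩) with e | e
    exacts [hui.ne e, huv e]
  -- `C v = U⟨w⟩`
  have hS : C v = H.TW D := by
    by_contra hne
    obtain ⟨g, hgC, hgT, hgN⟩ :=
      exists_mem_normalizer (H.isPGroup_C_inv D.hv.1) (H.TW_le_C D) (fun e => hne e.symm)
    obtain ⟨g, hgC, hgT, hgN, hg2⟩ :
        ∃ g ∈ C v, g ∉ H.TW D ∧ g ∈ normalizer (H.TW D : Set G) ∧ g * g ∈ H.TW D := by
      by_cases h : g * g ∈ H.TW D
      · exact ⟨g, hgC, hgT, hgN, h⟩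
      · refine ⟨g * g, mul_mem hgC hgC, h, mul_mem hgN hgN, ?_⟩
        have h4 := H.spec.cent2 D.hv.1 (mem_C.mp hgC)
        rw [show g * g * (g * g) = g ^ 4 by simp only [pow_succ, pow_zero, one_mul, mul_assoc], h4]
        exact one_mem _
    set u' := g * u * g⁻¹ with hu'
    have hgv : g * v * g⁻¹ = v := by rw [(mem_C.mp hgC).eq, mul_inv_cancel_right]
    have hu'T : u' ∈ H.TW D := (mem_normalizer_iff.mp hgN u).mp (H.U_le_TW D huU)
    have hu'U : u' ∉ FU x v := by
      intro h
      -- otherwise `g` or `g w` centralises `u`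
      have hgC' : ∀ k : G, k ∈ C v → k * u * k⁻¹ = u → k ∈ FU x v := fun k hk he =>
        ⟨hk, mem_C.mpr (mul_inv_eq_iff_eq_mul.mp he)⟩
      rcases hU4 u' h with e | e | e | e
      · exact hui.ne (conj_eq_one_iff.mp e)
      · exact huv (mul_left_cancel (mul_right_cancel (e.trans hgv.symm)))
      · exact hgT (H.U_le_TW D (hgC' g hgC e))
      · refine hgT ?_
        have hk : g * w ∈ FU x v := by
          refine hgC' (g * w) (mul_mem hgC (mem_C.mpr D.comm.symm)) ?_
          rw [show g * w * u * (g * w)⁻¹ = g * (w * u * w⁻¹) * g⁻¹ by group, D.hw.1.inv,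
            (U_flip D).2, show g * (v * u) * g⁻¹ = (g * v * g⁻¹) * (g * u * g⁻¹) by group, hgv]
          show v * u' = u
          rw [e, D.hv.1.mul_cancel]
        exact Or.inr hk
    have hu'w : u' * w ∈ FU x v := hu'T.resolve_left hu'U
    have hg4 : g * g * (g * g) = 1 := by
      rw [← H.spec.cent2 D.hv.1 (mem_C.mp hgC)]
      simp only [pow_succ, pow_zero, one_mul, mul_assoc]
    have hgg : g * (g * g) * g⁻¹ = g * g := by group
    have hg2c : g * g = 1 ∨ g * g = v := by
      rcases hg2 with h | h
      · rcases hU4 _ h with e | e | e | e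
        · exact Or.inl e
        · exact Or.inr e
        · rw [e] at hgg; exact absurd (by rw [hu', hgg]; exact huU : u' ∈ FU x v) hu'U
        · exfalso
          rw [e, show g * (v * u) * g⁻¹ = (g * v * g⁻¹) * (g * u * g⁻¹) by group, hgv] at hgg
          exact hu'U (by rw [hu', mul_left_cancel hgg]; exact huU)
      · exfalso
        set b := g * g * w with hb
        have hgb : g * g = b * w := by rw [hb, mul_assoc, D.hw.1.mul_self, mul_one]
        have hbw : Commute b w := by
          have h1 : b * w * (b * w) = 1 := by rw [← hgb]; exact hg4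
          show b * w = w * b
          rw [eq_inv_of_mul_eq_one_left h1, mul_inv_rev, D.hw.1.inv,
            inv_eq_of_mul_eq_one_right (h2 b h)]
        have hgw : g * w * g⁻¹ = w := by
          rcases hF2 b (mem_FF.mpr ⟨h, hbw⟩) with e | e <;> rw [hgb, e] at hgg
          · rwa [one_mul] at hgg
          · rw [show g * (v * w) * g⁻¹ = (g * v * g⁻¹) * (g * w * g⁻¹) by group, hgv] at hgg
            exact mul_left_cancel hgg
        have hcand : u' = w ∨ u' = v * w ∨ u' = u * w ∨ u' = v * u * w := by
          have e : u' = u' * w * w := by rw [mul_assoc, D.hw.1.mul_self, mul_one]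
          rcases hU4 _ hu'w with h' | h' | h' | h' <;> rw [h'] at e
          · exact Or.inl (by rwa [one_mul] at e)
          · exact Or.inr (Or.inl e)
          · exact Or.inr (Or.inr (Or.inl e))
          · exact Or.inr (Or.inr (Or.inr e))
        have hsq : u' * u' = 1 := (hui.conj g).mul_self
        have hne_uw : u * w * (u * w) ≠ 1 := fun h1 => huw (by
          show u * w = w * u
          rw [eq_inv_of_mul_eq_one_left h1, mul_inv_rev, D.hw.1.inv, hui.inv])
        rcases hcand with e | e | e | e
        · exact H.w_notMem D (mul_left_cancel (mul_right_cancel (hgw.trans e.symm)) ▸ huU)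
        · have h' : g * u * g⁻¹ = g * (v * w) * g⁻¹ := by
            rw [show g * (v * w) * g⁻¹ = (g * v * g⁻¹) * (g * w * g⁻¹) by group, hgv, hgw]
            exact e
          have h'' := mul_left_cancel (mul_right_cancel h')
          exact H.w_notMem D (by
            have := mul_mem hvU huU
            rwa [h'', D.hv.1.mul_cancel] at this)
        · rw [e] at hsq; exact hne_uw hsq
        · rw [e] at hsq
          apply hne_uw
          have hvuw : Commute v (u * w) := (hc v hvU u huU).mul_right D.comm
          rw [mul_assoc v u w, mul_assoc v (u * w), ← mul_assoc (u * w) v (u * w), ← hvuw.eq,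
            mul_assoc v (u * w) (u * w), D.hv.1.mul_cancel] at hsq
          exact hsq
    have hgu : Commute (g * u) v := (mem_C.mp hgC).mul_left (hc u huU v hvU)
    have h4 := H.spec.cent2 D.hv.1 hgu
    have hggc : Commute (g * g) u := by
      rcases hg2c with e | e <;> rw [e]
      exacts [Commute.one_left u, hc v hvU u huU]
    have hggc' : Commute (g * g) u' := by
      rcases hg2c with e | e <;> rw [e]
      · exact Commute.one_left u'
      · exact (mem_C.mp (H.TW_le_C D hu'T)).symm
    have e4 : (g * u) ^ 4 = (u' * u) * (u' * u) * ((g * g) * (g * g)) := by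
      have e1 : g * u * (g * u) = u' * (g * g * u) := by rw [hu']; group
      rw [hggc.eq] at e1
      have hcc : Commute (g * g) (u' * u) := hggc'.mul_right hggc
      calc (g * u) ^ 4 = g * u * (g * u) * (g * u * (g * u)) := by
            simp only [pow_succ, pow_zero, one_mul, mul_assoc]
        _ = u' * u * (g * g) * (u' * u * (g * g)) := by rw [e1]; simp only [mul_assoc]
        _ = u' * u * ((g * g) * (u' * u)) * (g * g) := by simp only [mul_assoc]
        _ = _ := by rw [hcc.eq]; simp only [mul_assoc]
    rw [h4, hg4, mul_one] at e4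
    have hcu : Commute u' u := by
      show u' * u = u * u'
      rw [eq_inv_of_mul_eq_one_left e4.symm, mul_inv_rev, hui.inv, (hui.conj g).inv]
    rcases hF2 u (H.commute_of_outside D hu'w huU hcu.symm) with e | e
    exacts [hui.ne e, huv e]
  have hS8 : Nat.card (C v) = 8 := by rw [hS, H.card_TW D, hcard]
  refine ⟨hS8, ?_⟩
  obtain ⟨q, b, hb, hqb, hi, hg⟩ := H.exists_q D.hv.1
  have hup := le_trans (H.XT_lower D.hv.1 hi) (Nat.mul_le_mul_left 4 (H.XT_upper D.hv.1))
  rw [hS8] at hup
  haveI := Fintype.ofFinite G
  have hterm : ∀ a ∈ (Set.toFinite (J v)).toFinset, Nat.card ↥(C v ⊓ C a) ≤ 4 := by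
    intro a ha
    rw [Set.Finite.mem_toFinset] at ha
    obtain ⟨hai, hav, hac⟩ := ha
    obtain ⟨k, hk⟩ := card_dvd_of_le (inf_le_left : C v ⊓ C a ≤ C v)
    rw [hS8] at hk
    have hk1 : k ≠ 1 := by
      intro h1
      rw [h1, mul_one] at hk
      have heq := Subgroup.eq_of_le_of_card_ge (inf_le_left : C v ⊓ C a ≤ C v) (hk ▸ hS8.le)
      have hall : ∀ s ∈ C v, Commute a s := fun s hs =>
        (mem_C.mp ((by rw [heq]; exact hs : s ∈ C v ⊓ C a).2)).symm
      have haT : a ∈ H.TW D := hS ▸ mem_C.mpr hac
      rcases haT with haU | haU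
      · rcases hF2 a (mem_FF.mpr ⟨haU, hall w (hS ▸ H.w_mem_TW D)⟩) with e | e
        exacts [hai.ne e, hav e]
      · rcases hF2 u (H.commute_of_outside D haU huU
          (hall u (hS ▸ H.U_le_TW D huU)).symm) with e | e
        exacts [hui.ne e, huv e]
    have hk0 : k ≠ 0 := fun h => by rw [h, mul_zero] at hk; norm_num at hk
    nlinarith [Nat.mul_le_mul_left (Nat.card ↥(C v ⊓ C a)) (show 2 ≤ k by omega)]
  have hJ : (Set.toFinite (J v)).toFinset.card ≤ 8 := by
    rw [← Set.ncard_eq_toFinset_card (J v)]
    refine le_trans (Set.ncard_le_ncard (t := (C v : Set G))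
      (fun a ha => mem_C.mpr ha.2.2) (Set.toFinite _)) ?_
    exact le_of_eq ((Nat.card_coe_set_eq _).symm.trans hS8)
  have hsum := Finset.sum_le_card_nsmul _ _ 4 hterm
  rw [smul_eq_mul] at hsum
  have h17 : q ≤ 17 := by
    have := le_trans hup (Nat.mul_le_mul_left 4 (le_trans hsum (Nat.mul_le_mul_right 4 hJ)))
    omega
  have hb1 : b = 1 := by
    by_contra hb2
    have := Nat.pow_le_pow_right (show 5 > 0 by norm_num) (show 2 ≤ b by omega)
    omega
  rw [hg, hS8, hqb, hb1]
  norm_num

end Hyp

end Cfsg.Agent.RecogFive
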