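import Cfsg.Agent.Lib.RecogFive.Invariant

/-!
# Sylow two-subgroups stable under an element of order three: three central involutions
-/

set_option autoImplicit false
set_option linter.unusedSectionVars false
set_option linter.style.haveILetI false

namespace Cfsg.Agent.RecogFive

open Subgroup

/-- A group of order fifteen has an element of order greater than five. -/
theorem not_spec5_of_card_fifteen {Q : Type*} [Group Q] [Finite Q] (hQ : Nat.card Q = 15) :
    ¬ Spec5 Q := by
  intro hS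
  haveI := Fact.mk Nat.prime_three
  haveI := Fact.mk Nat.prime_five
  obtain ⟨a, ha⟩ := exists_prime_orderOf_dvd_card' (G := Q) 3 (hQ ▸ by norm_num)
  obtain ⟨y, hy⟩ := exists_prime_orderOf_dvd_card' (G := Q) 5 (hQ ▸ by norm_num)
  obtain ⟨P⟩ := (inferInstance : Nonempty (Sylow 3 Q))
  have h1 : Nat.card (Sylow 3 Q) = 1 := by
    have h2 := P.card_dvd_index
    have h3 : Nat.card (P : Subgroup Q) = 3 := by
      rw [P.card_eq_multiplicity, hQ]
      have : (15 : ℕ).factorization 3 = 1 := by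
        rw [show (15 : ℕ) = 3 * 5 by norm_num, Nat.factorization_mul (by norm_num) (by norm_num)]
        simp [Nat.prime_three.factorization, Nat.prime_five.factorization]
      rw [this, pow_one]
    have h4 := (P : Subgroup Q).card_mul_index
    rw [h3, hQ] at h4
    have h5 : Nat.card (Sylow 3 Q) ∣ 5 := (show (P : Subgroup Q).index = 5 by omega) ▸ h2
    rcases (Nat.dvd_prime Nat.prime_five).mp h5 with h | h
    · exact h
    · have h6 := card_sylow_modEq_one 3 Q
      rw [h] at h6
      norm_num [Nat.ModEq] at h6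
  haveI : Subsingleton (Sylow 3 Q) := (Nat.card_eq_one_iff_unique.mp h1).1
  obtain ⟨Pa, hPa⟩ := (IsPGroup.of_card (n := 1)
    (by rw [Nat.card_zpowers, ha, pow_one]) : IsPGroup 3 (zpowers a)).exists_le_sylow
  have hPa' : (Pa : Subgroup Q) = zpowers a := by
    refine (Subgroup.eq_of_le_of_card_ge hPa ?_).symm
    rw [Nat.card_zpowers, ha, Pa.card_eq_multiplicity, hQ]
    have : (15 : ℕ).factorization 3 = 1 := by
      rw [show (15 : ℕ) = 3 * 5 by norm_num, Nat.factorization_mul (by norm_num) (by norm_num)]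
      simp [Nat.prime_three.factorization, Nat.prime_five.factorization]
    rw [this, pow_one]
  haveI : (Pa : Subgroup Q).Normal := Sylow.normal_of_subsingleton Pa
  have hmem : y * a * y⁻¹ ∈ zpowers a :=
    hPa' ▸ (Subgroup.Normal.conj_mem inferInstance a (hPa' ▸ mem_zpowers a) y)
  have ha3 := El3.of_orderOf ha
  have hcases : y * a * y⁻¹ = a ∨ y * a * y⁻¹ = a⁻¹ := by
    obtain ⟨i, hi⟩ := (Submonoid.mem_powers_iff _ _).mp (mem_powers_iff_mem_zpowers.mpr hmem)
    rw [← pow_mod_orderOf, ha] at hi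
    rcases (by omega : i % 3 = 0 ∨ i % 3 = 1 ∨ i % 3 = 2) with e | e | e <;> rw [e] at hi
    · exact absurd (conj_eq_one_iff.mp (hi.symm.trans (pow_zero a))) ha3.ne
    · exact Or.inl (by rw [← hi, pow_one])
    · exact Or.inr (by rw [← hi, pow_two, ha3.sq])
  rcases hcases with h | h
  · exact hS.not_commute_five (hy ▸ pow_orderOf_eq_one y)
      (fun e => by rw [e, orderOf_one] at hy; omega) (Or.inr ha)
      (mul_inv_eq_iff_eq_mul.mp h).symm
  · have h2 := hS.inv2_of_flip ha3 h
    rw [h2.orderOf] at hy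
    omega

/-- Arithmetic: `2ᵃ - 1 = 3·5ᵏ` only for `k ≤ 1`. -/
theorem k_le_one {a k : ℕ} (h : 2 ^ a = 3 * 5 ^ k + 1) : k ≤ 1 := by
  by_contra hk
  have h25 : 25 ∣ 5 ^ k := by
    have := pow_dvd_pow 5 (show 2 ≤ k by omega)
    norm_num at this
    exact this
  have hmod : 2 ^ a % 25 = 1 := by
    obtain ⟨m, hm⟩ := h25
    rw [h, hm]
    omega
  have h20 : a % 20 = 0 := by
    rw [← Nat.div_add_mod a 20, pow_add, pow_mul, Nat.mul_mod, Nat.pow_mod] at hmod
    norm_num at hmod
    have hlt : a % 20 < 20 := Nat.mod_lt _ (by norm_num)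
    generalize a % 20 = r at hmod hlt
    interval_cases r <;> simp_all
  have hdvd : 2 ^ 5 - 1 ∣ 2 ^ a - 1 :=
    Nat.pow_sub_one_dvd_pow_sub_one 2 (show 5 ∣ a by omega)
  rw [h, Nat.add_sub_cancel] at hdvd
  norm_num at hdvd
  have h31 : Nat.Prime 31 := by norm_num
  rcases h31.dvd_mul.mp hdvd with h' | h'
  · norm_num at h'
  · exact absurd (h31.dvd_of_dvd_pow h') (by norm_num)

variable {G : Type*} [Group G] [Finite G] {x z : G} {S : Subgroup G}

/-- The involutions of `S`. -/
def invIn (S : Subgroup G) : Set G := {u | Inv2 u ∧ u ∈ S}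

/-- The involutions of `S` central in `S`. -/
def centralIn (S : Subgroup G) : Set G := {u | Inv2 u ∧ u ∈ S ∧ S ≤ C u}

theorem centralIn_subset (S : Subgroup G) : centralIn S ⊆ invIn S := fun _ h => ⟨h.1, h.2.1⟩

theorem centralIn_nonempty (hS : Spec5 G) (hP : IsPGroup 2 S) (hne : S ≠ ⊥) :
    (centralIn S).Nonempty := by
  haveI := Fact.mk Nat.prime_two
  haveI : Nontrivial S := S.nontrivial_iff_ne_bot.mpr hne
  haveI := hP.center_nontrivial
  obtain ⟨⟨z, hz⟩, hz1⟩ := exists_ne (1 : center S)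
  have hzne : (z : G) ≠ 1 := fun e => hz1 (Subtype.ext (Subtype.ext e))
  have hzc : ∀ s ∈ S, Commute s (z : G) := fun s hs =>
    congrArg Subtype.val (mem_center_iff.mp hz ⟨s, hs⟩)
  by_cases h : (z : G) * z = 1
  · exact ⟨z, ⟨h, hzne⟩, z.2, fun s hs => mem_C.mpr (hzc s hs)⟩
  · refine ⟨z * z, ⟨?_, h⟩, mul_mem z.2 z.2, fun s hs => mem_C.mpr ((hzc s hs).mul_right (hzc s hs))⟩
    rw [← pow_four_of_isPGroup hS hP z.2]
    simp only [pow_succ, pow_zero, one_mul, mul_assoc]

namespace Hyp

variable (H : Hyp G)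
include H

/-- The centraliser of an involution central in a Sylow subgroup. -/
theorem C_eq_of_central (hP : IsPGroup 2 S) (hz : z ∈ centralIn S)
    (hmax : ∀ T : Subgroup G, IsPGroup 2 T → S ≤ T → T = S) : C z = S :=
  hmax _ (H.isPGroup_C_inv hz.1) hz.2.2

theorem card_sylow (hP : IsPGroup 2 S) (hz : Inv2 z)
    (hmax : ∀ T : Subgroup G, IsPGroup 2 T → S ≤ T → T = S) : Nat.card S = Nat.card (C z) := by
  haveI := Fact.mk Nat.prime_two
  obtain ⟨P, hPS⟩ := hP.exists_le_sylow
  rw [H.card_C_inv hz P, ← hmax _ P.2 hPS]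

/-- A stable Sylow `2`-subgroup has exactly three central involutions. -/
theorem ncard_centralIn (hx : El3 x) (hP : IsPGroup 2 S) (hs : Stable x S)
    (hne : S ≠ ⊥) (hmax : ∀ T : Subgroup G, IsPGroup 2 T → S ≤ T → T = S) :
    (centralIn S).ncard = 3 := by
  haveI := Fact.mk Nat.prime_two
  haveI := Fact.mk Nat.prime_three
  set c := (centralIn S).ncard with hc
  obtain ⟨z, hz⟩ := centralIn_nonempty H.spec hP hne
  set N := normalizer (S : Set G) with hN
  -- the central involutions form a subgroup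
  let A : Subgroup G :=
    { carrier := {u | u ∈ S ∧ u * u = 1 ∧ S ≤ C u}
      one_mem' := ⟨one_mem _, mul_one 1, fun s _ => mem_C.mpr (Commute.one_right s)⟩
      inv_mem' := fun {u} hu => ⟨inv_mem hu.1, by rw [← mul_inv_rev, hu.2.1, inv_one],
        fun s hs => mem_C.mpr (mem_C.mp (hu.2.2 hs)).inv_right⟩
      mul_mem' := fun {u v} hu hv => ⟨mul_mem hu.1 hv.1, by
          rw [mul_assoc, ← mul_assoc v u v, (mem_C.mp (hu.2.2 hv.1)).eq, mul_assoc u v v,
            hv.2.1, mul_one, hu.2.1],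
        fun s hs => mem_C.mpr ((mem_C.mp (hu.2.2 hs)).mul_right (mem_C.mp (hv.2.2 hs)))⟩ }
  have hA : (A : Set G) = insert 1 (centralIn S) := by
    ext u
    constructor
    · intro hu
      by_cases h1 : u = 1
      · exact Or.inl h1
      · exact Or.inr ⟨⟨hu.2.1, h1⟩, hu.1, hu.2.2⟩
    · rintro (rfl | hu)
      · exact one_mem A
      · exact ⟨hu.2.1, hu.1.mul_self, hu.2.2⟩
  have hAc : Nat.card A = c + 1 := by
    have h : Nat.card A = (A : Set G).ncard := Nat.card_coe_set_eq _
    rw [h, hA, Set.ncard_insert_of_notMem (fun h => h.1.ne rfl)]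
  obtain ⟨a, ha⟩ := (hP.to_le (fun u hu => hu.1 : A ≤ S)).exists_card_eq
  -- Burnside: one orbit of the normaliser
  obtain ⟨P, hPS⟩ := hP.exists_le_sylow
  have hPeq : (P : Subgroup G) = S := hmax _ P.2 hPS
  let f : G → G := fun g => g * z * g⁻¹
  have himg : f '' (N : Set G) = centralIn S := by
    ext u
    constructor
    · rintro ⟨g, hg, rfl⟩
      refine ⟨hz.1.conj g, (mem_normalizer_iff.mp hg z).mp hz.2.1, fun s hs => mem_C.mpr ?_⟩
      have h1 := (mem_normalizer_iff''.mp hg s).mp hs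
      have h2 := ((mem_C.mp (hz.2.2 h1)).map (MulAut.conj g)).eq
      simp only [MulAut.conj_apply] at h2
      rw [show g * (g⁻¹ * s * g) * g⁻¹ = s by group] at h2
      exact h2
    · intro hu
      obtain ⟨g, hg⟩ := isConj_iff.mp (H.all_isConj hz.1 hu.1)
      have hzc : z ∈ centralizer ((P : Subgroup G) : Set G) :=
        mem_centralizer_iff.mpr fun s hs => (mem_C.mp (hz.2.2 (hPeq ▸ hs))).eq
      have huc : g⁻¹⁻¹ * z * g⁻¹ ∈ centralizer ((P : Subgroup G) : Set G) := by
        rw [inv_inv, hg]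
        exact mem_centralizer_iff.mpr fun s hs => (mem_C.mp (hu.2.2 (hPeq ▸ hs))).eq
      obtain ⟨n, hn, hne'⟩ := P.conj_eq_normalizer_conj_of_mem_centralizer z g⁻¹ hzc huc
      have hn' : n ∈ N := by rw [hN, ← hPeq]; exact hn
      refine ⟨n⁻¹, inv_mem hn', ?_⟩
      rw [inv_inv, hg] at hne'
      simp only [f, inv_inv]
      exact hne'.symm
  -- orbit–stabiliser
  have hNc : Nat.card N = c * Nat.card S := by
    classical
    haveI := Fintype.ofFinite G
    set Nf : Finset G := Finset.univ.filter fun g => g ∈ N with hNf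
    have hfib : ∀ u ∈ Nf.image f, (Nf.filter fun g => f g = u).card = Nat.card S := by
      intro u hu
      rw [Finset.mem_image] at hu
      obtain ⟨g₀, hg₀, rfl⟩ := hu
      rw [hNf, Finset.mem_filter] at hg₀
      rw [← Nat.card_eq_finsetCard]
      refine (Nat.card_congr (Equiv.ofBijective (fun s : S =>
        (⟨g₀ * (s : G), ?_⟩ : ↥(Nf.filter fun g => f g = f g₀))) ⟨?_, ?_⟩)).symm
      · rw [Finset.mem_filter, hNf, Finset.mem_filter]
        refine ⟨⟨Finset.mem_univ _, mul_mem hg₀.2 (le_normalizer s.2)⟩, ?_⟩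
        show g₀ * (s : G) * z * (g₀ * (s : G))⁻¹ = g₀ * z * g₀⁻¹
        rw [mul_assoc g₀ (s : G) z, (mem_C.mp (hz.2.2 s.2)).eq]
        group
      · intro s s' h
        exact Subtype.ext (mul_left_cancel (congrArg Subtype.val h))
      · rintro ⟨g, hg⟩
        rw [Finset.mem_filter] at hg
        have hgs : g₀⁻¹ * g ∈ C z := by
          refine mem_C.mpr ?_
          show _ = _
          calc g₀⁻¹ * g * z = g₀⁻¹ * (g * z * g⁻¹) * g := by group
            _ = g₀⁻¹ * (g₀ * z * g₀⁻¹) * g := by rw [show g * z * g⁻¹ = g₀ * z * g₀⁻¹ from hg.2]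
            _ = _ := by group
        rw [H.C_eq_of_central hP hz hmax] at hgs
        exact ⟨⟨_, hgs⟩, Subtype.ext (by simp)⟩
    have h1 : Nat.card N = Nf.card := by
      rw [hNf, ← ncard_setOf_eq, ← Nat.card_coe_set_eq]; rfl
    have h2 : (Nf.image f).card = c := by
      rw [hc, ← himg, ← Set.ncard_coe_finset, Finset.coe_image, hNf]
      congr 2
      ext g
      simp
    rw [h1, Finset.card_eq_sum_card_image f Nf, Finset.sum_congr rfl hfib, Finset.sum_const, h2,
      smul_eq_mul]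
  -- the quotient `Q = N/S`
  set S' : Subgroup N := S.subgroupOf N with hS'
  haveI : S'.Normal := ⟨fun s hs g => by
    rw [hS', mem_subgroupOf]
    exact (mem_normalizer_iff.mp g.2 _).mp hs⟩
  have hQc : Nat.card (N ⧸ S') = c := by
    have h := S'.card_eq_card_quotient_mul_card_subgroup
    rw [hNc, Nat.card_congr (subgroupOfEquivOfLe (le_normalizer : S ≤ N)).toEquiv] at h
    exact (Nat.eq_of_mul_eq_mul_right Nat.card_pos h).symm
  have hQS : Spec5 (N ⧸ S') :=
    (H.spec.subgroup N).of_surjective (QuotientGroup.mk' S') (QuotientGroup.mk'_surjective _)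
  have hcpos : 0 < c := (Set.ncard_pos (Set.toFinite _)).mpr ⟨z, hz⟩
  have hodd : ¬ 2 ∣ c := by
    intro h2
    have ha1 : 1 ≤ a := by
      by_contra h0
      rw [Nat.lt_one_iff.mp (Nat.not_le.mp h0), pow_zero] at ha
      omega
    have : 2 ∣ c + 1 := by rw [← hAc, ha]; exact dvd_pow_self 2 (by omega)
    omega
  have hxN : x ∈ N := Stable.mem_normalizer hx hs
  have h3c : 3 ∣ c := by
    rw [← hQc]
    refine dvd_trans ?_ (orderOf_dvd_natCard (QuotientGroup.mk' S' ⟨x, hxN⟩))
    have hne' : QuotientGroup.mk' S' ⟨x, hxN⟩ ≠ 1 := fun e =>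
      not_mem_of_isPGroup H.spec hx hP (mem_subgroupOf.mp ((QuotientGroup.eq_one_iff (⟨x, hxN⟩ : N)).mp e))
    rw [orderOf_eq_prime (p := 3) (by
      rw [← map_pow, show (⟨x, hxN⟩ : N) ^ 3 = 1 from Subtype.ext hx.pow3, map_one]) hne']
  have h9c : ¬ 9 ∣ c := by
    intro h9
    obtain ⟨K, hK⟩ := Sylow.exists_subgroup_card_pow_prime (G := N) 3 (n := 2)
      (by rw [hNc]; exact dvd_mul_of_dvd_left (by simpa using h9) _)
    haveI : Nontrivial K := Finite.one_lt_card_iff_nontrivial.mp (by omega)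
    obtain ⟨u, hu⟩ := exists_ne (1 : K)
    have hexp : ∀ k : K, ((k : N) : G) ^ 3 = 1 := by
      intro k
      obtain ⟨i, hi⟩ := IsPGroup.iff_orderOf.mp (IsPGroup.of_card hK) k
      have h5 := H.spec ((k : N) : G)
      rw [Subgroup.orderOf_coe, Subgroup.orderOf_coe, hi] at h5
      rw [← orderOf_dvd_iff_pow_eq_one, Subgroup.orderOf_coe, Subgroup.orderOf_coe, hi]
      refine (pow_dvd_pow 3 (?_ : i ≤ 1)).trans (by simp)
      by_contra hi2
      have := Nat.pow_le_pow_right (show 3 > 0 by norm_num) (show 2 ≤ i by omega)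
      omega
    have hu3 : El3 ((u : N) : G) :=
      El3.of_pow (hexp u) fun e => hu (Subtype.ext (Subtype.ext e))
    haveI : IsMulCommutative K := IsPGroup.isMulCommutative_of_card_eq_prime_sq hK
    have hsubK : ∀ k : K, ((k : N) : G) ∈ zpowers ((u : N) : G) := by
      intro k
      refine H.alone hu3 hP hne (stable_of_mem_normalizer (u : N).2) (k : N).2 ?_
      exact congrArg (fun e : K => ((e : N) : G)) (mul_comm' k u)
    have hinj : Nat.card K ≤ Nat.card (zpowers ((u : N) : G)) :=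
      Nat.card_le_card_of_injective (fun k => (⟨_, hsubK k⟩ : zpowers ((u : N) : G)))
        fun k k' e => Subtype.ext (Subtype.ext (congrArg Subtype.val e :))
    rw [Nat.card_zpowers, hu3.orderOf, hK] at hinj
    norm_num at hinj
  obtain ⟨d, hd⟩ := h3c
  have hd5 := Nat.eq_prime_pow_of_unique_prime_dvd (p := 5) (show d ≠ 0 by omega) (fun {r} hr hrd => by
    haveI := Fact.mk hr
    obtain ⟨g, hg⟩ := exists_prime_orderOf_dvd_card' (G := N ⧸ S') r
      (hQc ▸ hd ▸ dvd_mul_of_dvd_right hrd 3)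
    have h5 := hQS g
    rw [hg] at h5
    have := hr.two_le
    rcases (by omega : r = 2 ∨ r = 3 ∨ r = 4 ∨ r = 5) with rfl | rfl | rfl | rfl
    · exact absurd (hd ▸ dvd_mul_of_dvd_right hrd 3) hodd
    · exact absurd (hd ▸ mul_dvd_mul_left 3 hrd : 9 ∣ c) h9c
    · norm_num at hr
    · rfl)
  generalize d.primeFactorsList.length = k at hd5
  subst hd5
  have h2a : 2 ^ a = 3 * 5 ^ k + 1 := by rw [← ha, hAc, hd]
  have hk := k_le_one h2a
  rcases (by omega : k = 0 ∨ k = 1) with rfl | rfl
  · rw [hd]; norm_num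
  · exact absurd hQS (not_spec5_of_card_fifteen (by rw [hQc, hd]; norm_num))

end Hyp

end Cfsg.Agent.RecogFive
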