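import Cfsg.Agent.Lib.RecogFive.Fpf
import Mathlib.GroupTheory.Sylow

/-!
# Centralisers of elements of order three when nine divides the order

Some element of order three is inverted by an involution, so the Sylow `3`-subgroups are abelian
and are the centralisers of their nonidentity elements.
-/

set_option autoImplicit false
set_option linter.unusedSectionVars false
set_option linter.style.haveILetI false

namespace Cfsg.Agent.RecogFive

open Subgroup

/-- The hypotheses under which the group turns out to be `A₆`. -/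
structure Hyp (G : Type*) [Group G] : Prop where
  spec : Spec5 G
  two : 2 ∣ Nat.card G
  nine : 9 ∣ Nat.card G
  five : 5 ∣ Nat.card G

/-- The centraliser of an element. -/
def C {G : Type*} [Group G] (a : G) : Subgroup G := centralizer {a}

variable {G : Type*} [Group G] {x y z t w c : G}

theorem mem_C {a : G} : c ∈ C a ↔ Commute c a := mem_centralizer_singleton_iff

theorem self_mem_C (a : G) : a ∈ C a := mem_C.mpr (Commute.refl a)

variable [Finite G]

theorem isPGroup_C (hS : Spec5 G) (hx : El3 x) : IsPGroup 3 (C x) := fun g =>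
  ⟨1, Subtype.ext (by simpa using hS.cent3 hx (mem_C.mp g.2))⟩

theorem el3_of_mem_C (hS : Spec5 G) (hx : El3 x) (hc : c ∈ C x) (hne : c ≠ 1) : El3 c :=
  El3.of_pow (hS.cent3 hx (mem_C.mp hc)) hne

/-- If every `h` in a subgroup leaves `t` commuting with `h t h⁻¹` then that subgroup is small. -/
theorem conj_abelian (hS : Spec5 G) (ht : Inv2 t) (hy : El3 y) (hz : El3 z) (hc : Commute y z)
    (hne : z ≠ y) (hne' : z ≠ y⁻¹) {H : Subgroup G} (hyH : y ∈ H) (hzH : z ∈ H)
    (hH : ∀ h ∈ H, Commute t (h * t * h⁻¹)) : False := by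
  let S : Set G := {g | ∃ h ∈ H, g = h * t * h⁻¹}
  have hcomm : ∀ a ∈ S, ∀ b ∈ S, a * b = b * a := by
    rintro _ ⟨h, hh, rfl⟩ _ ⟨k, hk, rfl⟩
    have h1 := ((hH _ (mul_mem (inv_mem hh) hk)).map (MulAut.conj h)).eq
    simp only [MulAut.conj_apply] at h1
    rwa [show h * (h⁻¹ * k * t * (h⁻¹ * k)⁻¹) * h⁻¹ = k * t * k⁻¹ by group] at h1
  set U := Subgroup.closure S with hU
  haveI : IsMulCommutative U := Subgroup.isMulCommutative_closure hcomm
  have hU2 : ∀ g ∈ U, g ^ 2 = 1 := by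
    intro g hg
    induction hg using Subgroup.closure_induction with
    | mem g hg =>
      obtain ⟨h, -, rfl⟩ := hg
      rw [pow_two, (ht.conj h).mul_self]
    | one => exact one_pow 2
    | mul a b ha hb iha ihb =>
      have hab : Commute a b :=
        congrArg Subtype.val (mul_comm' (⟨a, ha⟩ : U) ⟨b, hb⟩)
      rw [hab.mul_pow, iha, ihb, one_mul]
    | inv a _ iha => rw [inv_pow, iha, inv_one]
  have hUp : IsPGroup 2 U := fun g => ⟨1, Subtype.ext (by simpa using hU2 g g.2)⟩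
  have hnorm : ∀ k ∈ H, ∀ n ∈ U, k * n * k⁻¹ ∈ U := by
    intro k hk n hn
    induction hn using Subgroup.closure_induction with
    | mem g hg =>
      obtain ⟨h, hh, rfl⟩ := hg
      exact Subgroup.subset_closure ⟨k * h, mul_mem hk hh, by group⟩
    | one => simp
    | mul a b _ _ iha ihb =>
      rw [show k * (a * b) * k⁻¹ = (k * a * k⁻¹) * (k * b * k⁻¹) by group]
      exact mul_mem iha ihb
    | inv a _ iha =>
      rw [show k * a⁻¹ * k⁻¹ = (k * a * k⁻¹)⁻¹ by group]
      exact inv_mem iha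
  have htU : t ∈ U := Subgroup.subset_closure ⟨1, one_mem H, by group⟩
  exact ht.ne (by
    simpa [no_nine hS hy hz hc hne hne' hUp (hnorm y hyH) (hnorm z hzH)] using htU)

namespace Hyp

variable (H : Hyp G)
include H

theorem exists_inv2 : ∃ t : G, Inv2 t := by
  haveI := Fact.mk Nat.prime_two
  obtain ⟨t, ht⟩ := exists_prime_orderOf_dvd_card' 2 H.two
  exact ⟨t, Inv2.of_sq (ht ▸ pow_orderOf_eq_one t) fun e => by rw [e, orderOf_one] at ht; omega⟩

theorem nine_le_sylow [Fact (Nat.Prime 3)] (P : Sylow 3 G) : 9 ≤ Nat.card (P : Subgroup G) :=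
  Nat.le_of_dvd Nat.card_pos (P.pow_dvd_card_of_pow_dvd_card (n := 2) (by simpa using H.nine))

theorem exists_pair : ∃ y z : G, El3 y ∧ El3 z ∧ Commute y z ∧ z ≠ y ∧ z ≠ y⁻¹ := by
  haveI := Fact.mk Nat.prime_three
  obtain ⟨P⟩ := (inferInstance : Nonempty (Sylow 3 G))
  have h9 := H.nine_le_sylow P
  haveI : Nontrivial (P : Subgroup G) := Finite.one_lt_card_iff_nontrivial.mp (by omega)
  haveI := P.2.center_nontrivial
  obtain ⟨⟨y, hy⟩, hy1⟩ := exists_ne (1 : center (P : Subgroup G))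
  have hyne : (y : G) ≠ 1 := fun e => hy1 (Subtype.ext (Subtype.ext e))
  have h3 : ∀ p ∈ (P : Subgroup G), p ^ 3 = 1 := by
    intro p hp
    obtain ⟨k, hk⟩ := IsPGroup.iff_orderOf.mp P.2 ⟨p, hp⟩
    rw [Subgroup.orderOf_mk] at hk
    have h5 := H.spec p
    rw [hk] at h5
    have : k ≤ 1 := by
      by_contra hk2
      have := Nat.pow_le_pow_right (show 3 > 0 by norm_num) (show 2 ≤ k by omega)
      omega
    rw [← orderOf_dvd_iff_pow_eq_one, hk]
    calc 3 ^ k ∣ 3 ^ 1 := pow_dvd_pow 3 this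
      _ = 3 := pow_one 3
  have hy3 : El3 (y : G) := El3.of_pow (h3 _ y.2) hyne
  by_contra hcon
  push Not at hcon
  have hsub : (P : Subgroup G) ≤ zpowers (y : G) := by
    intro p hp
    by_cases hp1 : p = 1
    · rw [hp1]; exact one_mem _
    have hc : Commute (y : G) p :=
      (congrArg Subtype.val (mem_center_iff.mp hy ⟨p, hp⟩)).symm
    by_cases hpy : p = y
    · rw [hpy]; exact mem_zpowers _
    · rw [hcon _ _ hy3 (El3.of_pow (h3 p hp) hp1) hc hpy]
      exact inv_mem (mem_zpowers _)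
  have := Nat.le_of_dvd Nat.card_pos (card_dvd_of_le hsub)
  rw [Nat.card_zpowers, hy3.orderOf] at this
  omega

/-- Some involution inverts some element of order three. -/
theorem exists_strongly_real : ∃ x w : G, El3 x ∧ Inv2 w ∧ Flips w x := by
  by_contra hcon
  push Not at hcon
  obtain ⟨t, ht⟩ := H.exists_inv2
  obtain ⟨y, z, hy, hz, hc, hne, hne'⟩ := H.exists_pair
  have hall : ∀ u : G, El3 u → T3 t u := by
    intro u hu
    rcases pair_cases H.spec ht hu with h | h | ⟨v, w, -, -, hw, hf, -, -⟩ |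
      ⟨v, w, -, -, hw, hf, -, -⟩
    · exact absurd h (hcon u t hu ht)
    · exact h
    · exact absurd hf (hcon u w hu hw)
    · exact absurd hf (hcon u w hu hw)
  refine conj_abelian H.spec ht hy hz hc hne hne' (H := C y) (self_mem_C y) (mem_C.mpr hc.symm)
    fun h hh => ?_
  by_cases h1 : h = 1
  · simp [h1]
  · have h3 := el3_of_mem_C H.spec hy hh h1
    exact T3.commute ht h3 (hall h h3)

omit H in
theorem flips_C (hS : Spec5 G) (hw : Inv2 w) (hx : El3 x) (hwx : Flips w x) (hc : c ∈ C x) :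
    Flips w c := by
  have hconj : ∀ a ∈ C x, w * a * w ∈ C x := by
    intro a ha
    have h : Commute (w * a * w⁻¹) (w * x * w⁻¹) := (mem_C.mp ha).map (MulAut.conj w)
    rw [hwx.conj_eq hw, Commute.inv_right_iff, hw.inv] at h
    exact mem_C.mpr h
  let f : C x → C x := fun a => ⟨(a : G)⁻¹ * (w * a * w), mul_mem (inv_mem a.2) (hconj a a.2)⟩
  have hf : Function.Injective f := by
    intro a b hab
    have hab' : (a : G)⁻¹ * (w * a * w) = (b : G)⁻¹ * (w * b * w) := congrArg Subtype.val hab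
    set d := (b : G) * (a : G)⁻¹ with hd
    have hdC : d ∈ C x := mul_mem b.2 (inv_mem a.2)
    have hfix : w * d * w = d := by
      calc w * d * w = (w * b * w) * (w * (a : G)⁻¹ * w) := by
            rw [hd]; simp only [mul_assoc, hw.mul_cancel]
        _ = (w * b * w) * (w * a * w)⁻¹ := by simp only [mul_inv_rev, hw.inv, mul_assoc]
        _ = ((b : G) * ((b : G)⁻¹ * (w * b * w))) * (w * a * w)⁻¹ := by group
        _ = _ := by rw [← hab', hd]; group
    by_contra hne
    refine hS.not_commute hw (el3_of_mem_C hS hx hdC fun e => hne (Subtype.ext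
      (mul_inv_eq_one.mp e).symm)) ?_
    show w * d = d * w
    conv_rhs => rw [← hfix, mul_assoc, hw.mul_self, mul_one]
  obtain ⟨a, ha⟩ := (Finite.injective_iff_surjective.mp hf) ⟨c, hc⟩
  have ha' : (a : G)⁻¹ * (w * a * w) = c := congrArg Subtype.val ha
  show w * c * w = c⁻¹
  rw [← ha']
  calc w * ((a : G)⁻¹ * (w * a * w)) * w = (w * (a : G)⁻¹ * w) * ((a : G) * (w * w)) := by
        simp only [mul_assoc]
    _ = (w⁻¹ * (a : G)⁻¹ * w⁻¹) * a := by rw [hw.mul_self, mul_one, hw.inv]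
    _ = _ := by group

/-- A subgroup all of whose elements are inverted by `w` is abelian. -/
theorem abelian_of_flipped (hw : Inv2 w) (hx : El3 x) (hwx : Flips w x) {a b : G} (ha : a ∈ C x)
    (hb : b ∈ C x) : Commute a b := by
  have h1 : w * a * w = a⁻¹ := flips_C H.spec hw hx hwx ha
  have h2 : w * b * w = b⁻¹ := flips_C H.spec hw hx hwx hb
  have h3 : w * (a * b) * w = (a * b)⁻¹ := flips_C H.spec hw hx hwx (mul_mem ha hb)
  have h4 : a⁻¹ * b⁻¹ = b⁻¹ * a⁻¹ := by
    rw [← mul_inv_rev a b, ← h3, ← h1, ← h2]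
    simp only [mul_assoc, hw.mul_cancel]
  show a * b = b * a
  have := congrArg (·⁻¹) h4
  simp only [mul_inv_rev, inv_inv] at this
  exact this.symm

/-- Every element of order three is inverted by an involution. -/
theorem exists_flip (hx : El3 x) : ∃ w : G, Inv2 w ∧ Flips w x := by
  haveI := Fact.mk Nat.prime_three
  obtain ⟨x₀, w₀, hx₀, hw₀, hf₀⟩ := H.exists_strongly_real
  obtain ⟨P, hP⟩ := (isPGroup_C H.spec hx₀).exists_le_sylow
  haveI : Nontrivial (P : Subgroup G) :=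
    Finite.one_lt_card_iff_nontrivial.mp (by have := H.nine_le_sylow P; omega)
  haveI := P.2.center_nontrivial
  obtain ⟨⟨z, hz⟩, hz1⟩ := exists_ne (1 : center (P : Subgroup G))
  have hzc : ∀ p ∈ (P : Subgroup G), Commute p (z : G) := fun p hp =>
    congrArg Subtype.val (mem_center_iff.mp hz ⟨p, hp⟩)
  have hzC : (z : G) ∈ C x₀ := mem_C.mpr (hzc x₀ (hP (self_mem_C x₀))).symm
  have hzne : (z : G) ≠ 1 := fun e => hz1 (Subtype.ext (Subtype.ext e))
  have hz3 := el3_of_mem_C H.spec hx₀ hzC hzne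
  have hfz : Flips w₀ (z : G) := flips_C H.spec hw₀ hx₀ hf₀ hzC
  have hPC : (P : Subgroup G) ≤ C x₀ := fun p hp => mem_C.mpr
    (H.abelian_of_flipped hw₀ hz3 hfz (mem_C.mpr (hzc p hp))
      (mem_C.mpr (hzc x₀ (hP (self_mem_C x₀)))))
  obtain ⟨Q, hQ⟩ := (isPGroup_C H.spec hx).exists_le_sylow
  obtain ⟨g, hg⟩ := MulAction.exists_smul_eq G P Q
  have h1 : x ∈ (Q : Subgroup G) := hQ (self_mem_C x)
  rw [← hg] at h1
  obtain ⟨p, hp, hpx⟩ :=
    (h1 : x ∈ (P : Subgroup G).map (MulDistribMulAction.toMonoidEnd _ _ (MulAut.conj g)))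
  have hpx' : g * p * g⁻¹ = x := hpx
  refine ⟨g * w₀ * g⁻¹, hw₀.conj g, ?_⟩
  rw [← hpx', flips_conj]
  exact flips_C H.spec hw₀ hx₀ hf₀ (hPC hp)

theorem cent_comm (hx : El3 x) {a b : G} (ha : a ∈ C x) (hb : b ∈ C x) : Commute a b := by
  obtain ⟨w, hw, hf⟩ := H.exists_flip hx
  exact H.abelian_of_flipped hw hx hf ha hb

/-- Centralisers are constant on their nonidentity elements. -/
theorem C_eq (hx : El3 x) (hy : y ∈ C x) (hy1 : y ≠ 1) : C y = C x := by
  have hy3 := el3_of_mem_C H.spec hx hy hy1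
  ext c
  refine ⟨fun hc => mem_C.mpr (H.cent_comm hy3 hc (mem_C.mpr (mem_C.mp hy).symm)), fun hc => ?_⟩
  exact mem_C.mpr (H.cent_comm hx hc hy)

/-- The centraliser is a Sylow subgroup. -/
theorem card_C (hx : El3 x) [Fact (Nat.Prime 3)] (P : Sylow 3 G) :
    Nat.card (C x) = Nat.card (P : Subgroup G) := by
  obtain ⟨Q, hQ⟩ := (isPGroup_C H.spec hx).exists_le_sylow
  haveI : Nontrivial (Q : Subgroup G) :=
    Finite.one_lt_card_iff_nontrivial.mp (by have := H.nine_le_sylow Q; omega)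
  haveI := Q.2.center_nontrivial
  obtain ⟨⟨z, hz⟩, hz1⟩ := exists_ne (1 : center (Q : Subgroup G))
  have hzc : ∀ p ∈ (Q : Subgroup G), Commute p (z : G) := fun p hp =>
    congrArg Subtype.val (mem_center_iff.mp hz ⟨p, hp⟩)
  have hzC : (z : G) ∈ C x := mem_C.mpr (hzc x (hQ (self_mem_C x))).symm
  have hzne : (z : G) ≠ 1 := fun e => hz1 (Subtype.ext (Subtype.ext e))
  have hQC : (Q : Subgroup G) = C x := le_antisymm
    (fun p hp => by rw [← H.C_eq hx hzC hzne]; exact mem_C.mpr (hzc p hp)) hQ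
  rw [← hQC, Q.card_eq_multiplicity, P.card_eq_multiplicity]

theorem nine_le_C (hx : El3 x) : 9 ≤ Nat.card (C x) := by
  haveI := Fact.mk Nat.prime_three
  obtain ⟨P⟩ := (inferInstance : Nonempty (Sylow 3 G))
  rw [H.card_C hx P]
  exact H.nine_le_sylow P

theorem exists_indep (hx : El3 x) :
    ∃ y : G, El3 y ∧ Commute x y ∧ y ≠ x ∧ y ≠ x⁻¹ ∧ y ∈ C x := by
  by_contra hcon
  push Not at hcon
  have hsub : C x ≤ zpowers x := by
    intro c hc
    by_cases hc1 : c = 1
    · rw [hc1]; exact one_mem _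
    by_cases hcx : c = x
    · rw [hcx]; exact mem_zpowers _
    by_cases hcx' : c = x⁻¹
    · rw [hcx']; exact inv_mem (mem_zpowers _)
    · exact absurd hc
        (hcon c (el3_of_mem_C H.spec hx hc hc1) (mem_C.mp hc).symm hcx hcx')
  have := Nat.le_of_dvd Nat.card_pos (card_dvd_of_le hsub)
  rw [Nat.card_zpowers, hx.orderOf] at this
  have := H.nine_le_C hx
  omega

/-- No nontrivial `2`-subgroup is normalised by all of a centraliser `C x`. -/
theorem no_two_normalized (hx : El3 x) (hy : El3 y) (hyx : y ∈ C x) (hne : y ≠ x) (hne' : y ≠ x⁻¹)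
    {U : Subgroup G} (hU : IsPGroup 2 U) (hxU : ∀ n ∈ U, x * n * x⁻¹ ∈ U)
    (hyU : ∀ n ∈ U, y * n * y⁻¹ ∈ U) : U = ⊥ :=
  no_nine H.spec hx hy (mem_C.mp hyx).symm hne hne' hU hxU hyU

end Hyp

/-- The involutions inverting `x`. -/
def Iv (x : G) : Set G := {w | Inv2 w ∧ Flips w x}

namespace Hyp

variable (H : Hyp G)
include H

theorem Iv_mul (hx : El3 x) (hw : w ∈ Iv x) (hc : c ∈ C x) : c * w ∈ Iv x := by
  have hwc : w * c * w = c⁻¹ := flips_C H.spec hw.1 hx hw.2 hc
  have h2 : c * w * (c * w) = 1 := by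
    calc c * w * (c * w) = c * (w * c * w) := by group
      _ = 1 := by rw [hwc, mul_inv_cancel]
  refine ⟨⟨h2, fun e => ?_⟩, ?_⟩
  · refine H.spec.not_commute hw.1 hx ?_
    rw [← inv_eq_of_mul_eq_one_right e]
    exact (mem_C.mp hc).inv_left
  · show c * w * x * (c * w) = x⁻¹
    calc c * w * x * (c * w) = c * (w * (x * c) * w) := by group
      _ = c * ((w * x * w) * (w * c * w)) := by simp only [mul_assoc, hw.1.mul_cancel]
      _ = c * (x⁻¹ * c⁻¹) := by rw [hw.2, hwc]
      _ = x⁻¹ := by rw [(mem_C.mp hc).inv_inv.eq.symm, mul_inv_cancel_left]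

theorem mul_mem_C (hx : El3 x) {w' : G} (hw : w ∈ Iv x) (hw' : w' ∈ Iv x) : w' * w ∈ C x := by
  refine mem_C.mpr ?_
  have h1 := hw.2.conj_eq hw.1
  have h2 := (hw'.2.inv hw'.1).conj_eq hw'.1
  refine mul_inv_eq_iff_eq_mul.mp ?_
  calc w' * w * x * (w' * w)⁻¹ = w' * (w * x * w⁻¹) * w'⁻¹ := by group
    _ = w' * x⁻¹ * w'⁻¹ := by rw [h1]
    _ = x := by rw [h2, inv_inv]

theorem card_Iv (hx : El3 x) : (Iv x).ncard = Nat.card (C x) := by
  obtain ⟨w, hw⟩ := H.exists_flip hx
  have hw' : w ∈ Iv x := hw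
  have h : Iv x = (· * w) '' (C x : Set G) := by
    ext a
    constructor
    · exact fun ha => ⟨a * w, H.mul_mem_C hx hw' ha, by simp [mul_assoc, hw'.1.mul_self]⟩
    · rintro ⟨c, hc, rfl⟩
      exact H.Iv_mul hx hw' hc
  rw [h, Set.ncard_image_of_injective _ (mul_left_injective w)]
  exact (Nat.card_coe_set_eq _).symm

theorem Iv_isConj (hx : El3 x) {w' : G} (hw : w ∈ Iv x) (hw' : w' ∈ Iv x) : IsConj w w' := by
  have hc := H.mul_mem_C hx hw hw'
  set c := w' * w with hc'
  refine isConj_iff.mpr ⟨c ^ 2, ?_⟩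
  have hf : w * (c ^ 2) * w = (c ^ 2)⁻¹ := flips_C H.spec hw.1 hx hw.2 (pow_mem hc 2)
  have h3 : c ^ 3 = 1 := H.spec.cent3 hx (mem_C.mp hc)
  have h4 : w * (c ^ 2)⁻¹ = c ^ 2 * w := by
    rw [← hf, ← mul_assoc, ← mul_assoc, hw.1.mul_self, one_mul]
  calc c ^ 2 * w * (c ^ 2)⁻¹ = c ^ 2 * (w * (c ^ 2)⁻¹) := by group
    _ = c ^ 2 * (c ^ 2 * w) := by rw [h4]
    _ = c ^ 3 * (c * w) := by group
    _ = w' := by rw [h3, one_mul, hc', mul_assoc, hw.1.mul_self, mul_one]

end Hyp

end Cfsg.Agent.RecogFive
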