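import Mathlib.Tactic

/-!
# Word identities in the triangle groups `(2,3,4)` and `(2,3,5)`

Derived from the three relators by chains of single rewriting steps.
-/

set_option autoImplicit false
set_option linter.unusedVariables false
set_option linter.unusedSimpArgs false

namespace Cfsg.Agent.RecogFive.Word

variable {G : Type*} [Group G] {t x : G}

theorem r4_0 (ht : t * t = 1) (hx : x * x * x = 1) (hn : (t * x) ^ 4 = 1) :
    ∀ k : G, t * (t * k) = k := by
  intro k
  calc _ = (t * t) * k := by simp only [pow_succ, pow_zero, one_mul, mul_assoc]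
    _ = k := by rw [ht, one_mul]

theorem r4_1 (ht : t * t = 1) (hx : x * x * x = 1) (hn : (t * x) ^ 4 = 1) :
    ∀ k : G, x * (x * (x * k)) = k := by
  intro k
  calc _ = (x * x * x) * k := by simp only [pow_succ, pow_zero, one_mul, mul_assoc]
    _ = k := by rw [hx, one_mul]

theorem r4_2 (ht : t * t = 1) (hx : x * x * x = 1) (hn : (t * x) ^ 4 = 1) :
    ∀ k : G, t * (x * (t * (x * (t * (x * (t * (x * k))))))) = k := by
  intro k
  calc _ = ((t * x) ^ 4) * k := by simp only [pow_succ, pow_zero, one_mul, mul_assoc]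
    _ = k := by rw [hn, one_mul]

theorem r4_3 (ht : t * t = 1) (hx : x * x * x = 1) (hn : (t * x) ^ 4 = 1) :
    ∀ k : G, x * (t * (x * (t * (x * (t * (x * k)))))) = t * k := by
  intro k
  calc x * (t * (x * (t * (x * (t * (x * k)))))) = t * (t * (x * (t * (x * (t * (x * (t * (x * k)))))))) := (r4_0 ht hx hn (x * (t * (x * (t * (x * (t * (x * k)))))))).symm
    _ = t * k := (congrArg (t * ·) (r4_2 ht hx hn (k)))

theorem r4_4 (ht : t * t = 1) (hx : x * x * x = 1) (hn : (t * x) ^ 4 = 1) :
    ∀ k : G, t * (x * (t * (x * (t * (x * k))))) = x * (x * (t * k)) := by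
  intro k
  calc t * (x * (t * (x * (t * (x * k))))) = x * (x * (x * (t * (x * (t * (x * (t * (x * k)))))))) := (r4_1 ht hx hn (t * (x * (t * (x * (t * (x * k))))))).symm
    _ = x * (x * (t * k)) := (congrArg (x * ·) (congrArg (x * ·) (r4_3 ht hx hn (k))))

theorem r4_5 (ht : t * t = 1) (hx : x * x * x = 1) (hn : (t * x) ^ 4 = 1) :
    ∀ k : G, x * (t * (x * (t * (x * k)))) = t * (x * (x * (t * k))) := by
  intro k
  calc x * (t * (x * (t * (x * k)))) = t * (t * (x * (t * (x * (t * (x * k)))))) := (r4_0 ht hx hn (x * (t * (x * (t * (x * k)))))).symm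
    _ = t * (x * (x * (t * k))) := (congrArg (t * ·) (r4_4 ht hx hn (k)))

theorem r4_7 (ht : t * t = 1) (hx : x * x * x = 1) (hn : (t * x) ^ 4 = 1) :
    ∀ k : G, t * (x * (x * (t * (x * (x * k))))) = x * (t * (x * (t * k))) := by
  intro k
  calc t * (x * (x * (t * (x * (x * k))))) = x * (t * (x * (t * (x * (x * (x * k)))))) := (r4_5 ht hx hn (x * (x * k))).symm
    _ = x * (t * (x * (t * k))) := (congrArg (x * ·) (congrArg (t * ·) (congrArg (x * ·) (congrArg (t * ·) (r4_1 ht hx hn (k))))))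

theorem r4_8 (ht : t * t = 1) (hx : x * x * x = 1) (hn : (t * x) ^ 4 = 1) :
    ∀ k : G, x * (x * (t * (x * (x * k)))) = t * (x * (t * (x * (t * k)))) := by
  intro k
  calc x * (x * (t * (x * (x * k)))) = t * (t * (x * (x * (t * (x * (x * k)))))) := (r4_0 ht hx hn (x * (x * (t * (x * (x * k)))))).symm
    _ = t * (x * (t * (x * (t * k)))) := (congrArg (t * ·) (r4_7 ht hx hn (k)))

theorem r4_9 (ht : t * t = 1) (hx : x * x * x = 1) (hn : (t * x) ^ 4 = 1) :
    ∀ k : G, x * (t * (x * (x * (t * (x * (t * k)))))) = t * (x * (t * (x * (x * (t * (x * k)))))) := by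
  intro k
  calc x * (t * (x * (x * (t * (x * (t * k)))))) = x * (t * (x * (t * (t * (x * (t * (x * (t * k)))))))) := (congrArg (x * ·) (congrArg (t * ·) (congrArg (x * ·) (r4_0 ht hx hn (x * (t * (x * (t * k)))))))).symm
    _ = x * (t * (x * (t * (x * (x * (t * (x * (x * k)))))))) := (congrArg (x * ·) (congrArg (t * ·) (congrArg (x * ·) (congrArg (t * ·) (r4_8 ht hx hn (k)))))).symm
    _ = t * (x * (x * (t * (x * (t * (x * (x * k))))))) := (r4_5 ht hx hn (x * (t * (x * (x * k)))))
    _ = t * (x * (t * (x * (x * (t * (x * k)))))) := (congrArg (t * ·) (congrArg (x * ·) (r4_5 ht hx hn (x * k))))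

theorem vv4 (ht : t * t = 1) (hx : x * x * x = 1) (hn : (t * x) ^ 4 = 1) :
    ∀ k : G, x * (t * (x * (x * (t * (x * (x * (t * (x * (x * (t * (x * k))))))))))) = k := by
  intro k
  calc x * (t * (x * (x * (t * (x * (x * (t * (x * (x * (t * (x * k))))))))))) = x * (t * (t * (x * (t * (x * (t * (t * (x * (x * (t * (x * k))))))))))) := (congrArg (x * ·) (congrArg (t * ·) (r4_8 ht hx hn (t * (x * (x * (t * (x * k))))))))
    _ = x * (x * (t * (x * (t * (t * (x * (x * (t * (x * k))))))))) := (congrArg (x * ·) (r4_0 ht hx hn (x * (t * (x * (t * (t * (x * (x * (t * (x * k)))))))))))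
    _ = x * (x * (t * (x * (x * (x * (t * (x * k))))))) := (congrArg (x * ·) (congrArg (x * ·) (congrArg (t * ·) (congrArg (x * ·) (r4_0 ht hx hn (x * (x * (t * (x * k)))))))))
    _ = t * (x * (t * (x * (t * (x * (t * (x * k))))))) := (r4_8 ht hx hn (x * (t * (x * k))))
    _ = t * (t * (x * (x * (t * (t * (x * k)))))) := (congrArg (t * ·) (r4_5 ht hx hn (t * (x * k))))
    _ = x * (x * (t * (t * (x * k)))) := (r4_0 ht hx hn (x * (x * (t * (t * (x * k))))))
    _ = x * (x * (x * k)) := (congrArg (x * ·) (congrArg (x * ·) (r4_0 ht hx hn (x * k))))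
    _ = k := (r4_1 ht hx hn (k))

theorem wx4 (ht : t * t = 1) (hx : x * x * x = 1) (hn : (t * x) ^ 4 = 1) :
    ∀ k : G, x * (t * (x * (t * (x * (x * (t * (x * (x * (x * (x * (t * (x * (t * (x * (x * (t * (x * (x * (x * k))))))))))))))))))) = k := by
  intro k
  calc x * (t * (x * (t * (x * (x * (t * (x * (x * (x * (x * (t * (x * (t * (x * (x * (t * (x * (x * (x * k))))))))))))))))))) = t * (x * (x * (t * (x * (t * (x * (x * (x * (x * (t * (x * (t * (x * (x * (t * (x * (x * (x * k)))))))))))))))))) := (r4_5 ht hx hn (x * (t * (x * (x * (x * (x * (t * (x * (t * (x * (x * (t * (x * (x * (x * k))))))))))))))))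
    _ = t * (x * (t * (x * (x * (t * (x * (x * (x * (t * (x * (t * (x * (x * (t * (x * (x * (x * k))))))))))))))))) := (congrArg (t * ·) (congrArg (x * ·) (r4_5 ht hx hn (x * (x * (x * (t * (x * (t * (x * (x * (t * (x * (x * (x * k)))))))))))))))
    _ = t * (x * (t * (t * (x * (t * (x * (t * (x * (t * (x * (t * (x * (x * (t * (x * (x * (x * k))))))))))))))))) := (congrArg (t * ·) (congrArg (x * ·) (congrArg (t * ·) (r4_8 ht hx hn (x * (t * (x * (t * (x * (x * (t * (x * (x * (x * k))))))))))))))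
    _ = t * (x * (x * (t * (x * (t * (x * (t * (x * (t * (x * (x * (t * (x * (x * (x * k))))))))))))))) := (congrArg (t * ·) (congrArg (x * ·) (r4_0 ht hx hn (x * (t * (x * (t * (x * (t * (x * (t * (x * (x * (t * (x * (x * (x * k)))))))))))))))))
    _ = t * (x * (t * (x * (x * (t * (t * (x * (t * (x * (x * (t * (x * (x * (x * k)))))))))))))) := (congrArg (t * ·) (congrArg (x * ·) (r4_5 ht hx hn (t * (x * (t * (x * (x * (t * (x * (x * (x * k))))))))))))
    _ = t * (x * (t * (x * (x * (x * (t * (x * (x * (t * (x * (x * (x * k)))))))))))) := (congrArg (t * ·) (congrArg (x * ·) (congrArg (t * ·) (congrArg (x * ·) (congrArg (x * ·) (r4_0 ht hx hn (x * (t * (x * (x * (t * (x * (x * (x * k))))))))))))))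
    _ = t * (x * (t * (t * (x * (x * (t * (x * (x * (x * k))))))))) := (congrArg (t * ·) (congrArg (x * ·) (congrArg (t * ·) (r4_1 ht hx hn (t * (x * (x * (t * (x * (x * (x * k)))))))))))
    _ = t * (x * (x * (x * (t * (x * (x * (x * k))))))) := (congrArg (t * ·) (congrArg (x * ·) (r4_0 ht hx hn (x * (x * (t * (x * (x * (x * k)))))))))
    _ = t * (t * (x * (x * (x * k)))) := (congrArg (t * ·) (r4_1 ht hx hn (t * (x * (x * (x * k))))))
    _ = x * (x * (x * k)) := (r4_0 ht hx hn (x * (x * (x * k))))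
    _ = k := (r4_1 ht hx hn (k))

theorem vx4 (ht : t * t = 1) (hx : x * x * x = 1) (hn : (t * x) ^ 4 = 1) :
    ∀ k : G, x * (t * (x * (x * (t * (x * (x * (x * (t * (x * (x * (t * (x * (x * (x * (t * (x * (x * (t * (x * (x * k)))))))))))))))))))) = k := by
  intro k
  calc x * (t * (x * (x * (t * (x * (x * (x * (t * (x * (x * (t * (x * (x * (x * (t * (x * (x * (t * (x * (x * k)))))))))))))))))))) = x * (t * (t * (x * (t * (x * (t * (x * (t * (x * (x * (t * (x * (x * (x * (t * (x * (x * (t * (x * (x * k)))))))))))))))))))) := (congrArg (x * ·) (congrArg (t * ·) (r4_8 ht hx hn (x * (t * (x * (x * (t * (x * (x * (x * (t * (x * (x * (t * (x * (x * k)))))))))))))))))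
    _ = x * (x * (t * (x * (t * (x * (t * (x * (x * (t * (x * (x * (x * (t * (x * (x * (t * (x * (x * k)))))))))))))))))) := (congrArg (x * ·) (r4_0 ht hx hn (x * (t * (x * (t * (x * (t * (x * (x * (t * (x * (x * (x * (t * (x * (x * (t * (x * (x * k))))))))))))))))))))
    _ = x * (t * (x * (x * (t * (t * (x * (x * (t * (x * (x * (x * (t * (x * (x * (t * (x * (x * k))))))))))))))))) := (congrArg (x * ·) (r4_5 ht hx hn (t * (x * (x * (t * (x * (x * (x * (t * (x * (x * (t * (x * (x * k)))))))))))))))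
    _ = x * (t * (x * (x * (x * (x * (t * (x * (x * (x * (t * (x * (x * (t * (x * (x * k))))))))))))))) := (congrArg (x * ·) (congrArg (t * ·) (congrArg (x * ·) (congrArg (x * ·) (r4_0 ht hx hn (x * (x * (t * (x * (x * (x * (t * (x * (x * (t * (x * (x * k)))))))))))))))))
    _ = x * (t * (x * (t * (x * (x * (x * (t * (x * (x * (t * (x * (x * k)))))))))))) := (congrArg (x * ·) (congrArg (t * ·) (r4_1 ht hx hn (x * (t * (x * (x * (x * (t * (x * (x * (t * (x * (x * k))))))))))))))
    _ = t * (x * (x * (t * (x * (x * (t * (x * (x * (t * (x * (x * k))))))))))) := (r4_5 ht hx hn (x * (x * (t * (x * (x * (t * (x * (x * k)))))))))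
    _ = t * (t * (x * (t * (x * (t * (t * (x * (x * (t * (x * (x * k))))))))))) := (congrArg (t * ·) (r4_8 ht hx hn (t * (x * (x * (t * (x * (x * k))))))))
    _ = x * (t * (x * (t * (t * (x * (x * (t * (x * (x * k))))))))) := (r4_0 ht hx hn (x * (t * (x * (t * (t * (x * (x * (t * (x * (x * k)))))))))))
    _ = x * (t * (x * (x * (x * (t * (x * (x * k))))))) := (congrArg (x * ·) (congrArg (t * ·) (congrArg (x * ·) (r4_0 ht hx hn (x * (x * (t * (x * (x * k)))))))))
    _ = x * (t * (t * (x * (x * k)))) := (congrArg (x * ·) (congrArg (t * ·) (r4_1 ht hx hn (t * (x * (x * k))))))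
    _ = x * (x * (x * k)) := (congrArg (x * ·) (r4_0 ht hx hn (x * (x * k))))
    _ = k := (r4_1 ht hx hn (k))

theorem vw4 (ht : t * t = 1) (hx : x * x * x = 1) (hn : (t * x) ^ 4 = 1) :
    ∀ k : G, x * (t * (x * (x * (t * (x * (x * (t * (x * (t * (x * (x * (t * (x * (x * (x * (t * (x * (x * (t * (x * (x * (t * (x * (t * (x * (x * (t * (x * (x * k))))))))))))))))))))))))))))) = k := by
  intro k
  calc x * (t * (x * (x * (t * (x * (x * (t * (x * (t * (x * (x * (t * (x * (x * (x * (t * (x * (x * (t * (x * (x * (t * (x * (t * (x * (x * (t * (x * (x * k))))))))))))))))))))))))))))) = x * (t * (t * (x * (t * (x * (t * (t * (x * (t * (x * (x * (t * (x * (x * (x * (t * (x * (x * (t * (x * (x * (t * (x * (t * (x * (x * (t * (x * (x * k))))))))))))))))))))))))))))) := (congrArg (x * ·) (congrArg (t * ·) (r4_8 ht hx hn (t * (x * (t * (x * (x * (t * (x * (x * (x * (t * (x * (x * (t * (x * (x * (t * (x * (t * (x * (x * (t * (x * (x * k))))))))))))))))))))))))))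
    _ = x * (x * (t * (x * (t * (t * (x * (t * (x * (x * (t * (x * (x * (x * (t * (x * (x * (t * (x * (x * (t * (x * (t * (x * (x * (t * (x * (x * k))))))))))))))))))))))))))) := (congrArg (x * ·) (r4_0 ht hx hn (x * (t * (x * (t * (t * (x * (t * (x * (x * (t * (x * (x * (x * (t * (x * (x * (t * (x * (x * (t * (x * (t * (x * (x * (t * (x * (x * k)))))))))))))))))))))))))))))
    _ = x * (x * (t * (x * (x * (t * (x * (x * (t * (x * (x * (x * (t * (x * (x * (t * (x * (x * (t * (x * (t * (x * (x * (t * (x * (x * k))))))))))))))))))))))))) := (congrArg (x * ·) (congrArg (x * ·) (congrArg (t * ·) (congrArg (x * ·) (r4_0 ht hx hn (x * (t * (x * (x * (t * (x * (x * (x * (t * (x * (x * (t * (x * (x * (t * (x * (t * (x * (x * (t * (x * (x * k)))))))))))))))))))))))))))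
    _ = t * (x * (t * (x * (t * (t * (x * (x * (t * (x * (x * (x * (t * (x * (x * (t * (x * (x * (t * (x * (t * (x * (x * (t * (x * (x * k))))))))))))))))))))))))) := (r4_8 ht hx hn (t * (x * (x * (t * (x * (x * (x * (t * (x * (x * (t * (x * (x * (t * (x * (t * (x * (x * (t * (x * (x * k))))))))))))))))))))))
    _ = t * (x * (t * (x * (x * (x * (t * (x * (x * (x * (t * (x * (x * (t * (x * (x * (t * (x * (t * (x * (x * (t * (x * (x * k))))))))))))))))))))))) := (congrArg (t * ·) (congrArg (x * ·) (congrArg (t * ·) (congrArg (x * ·) (r4_0 ht hx hn (x * (x * (t * (x * (x * (x * (t * (x * (x * (t * (x * (x * (t * (x * (t * (x * (x * (t * (x * (x * k)))))))))))))))))))))))))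
    _ = t * (x * (t * (t * (x * (x * (x * (t * (x * (x * (t * (x * (x * (t * (x * (t * (x * (x * (t * (x * (x * k)))))))))))))))))))) := (congrArg (t * ·) (congrArg (x * ·) (congrArg (t * ·) (r4_1 ht hx hn (t * (x * (x * (x * (t * (x * (x * (t * (x * (x * (t * (x * (t * (x * (x * (t * (x * (x * k))))))))))))))))))))))
    _ = t * (x * (x * (x * (x * (t * (x * (x * (t * (x * (x * (t * (x * (t * (x * (x * (t * (x * (x * k)))))))))))))))))) := (congrArg (t * ·) (congrArg (x * ·) (r4_0 ht hx hn (x * (x * (x * (t * (x * (x * (t * (x * (x * (t * (x * (t * (x * (x * (t * (x * (x * k))))))))))))))))))))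
    _ = t * (x * (t * (x * (x * (t * (x * (x * (t * (x * (t * (x * (x * (t * (x * (x * k))))))))))))))) := (congrArg (t * ·) (r4_1 ht hx hn (x * (t * (x * (x * (t * (x * (x * (t * (x * (t * (x * (x * (t * (x * (x * k)))))))))))))))))
    _ = t * (x * (t * (t * (x * (t * (x * (t * (t * (x * (t * (x * (x * (t * (x * (x * k))))))))))))))) := (congrArg (t * ·) (congrArg (x * ·) (congrArg (t * ·) (r4_8 ht hx hn (t * (x * (t * (x * (x * (t * (x * (x * k))))))))))))
    _ = t * (x * (x * (t * (x * (t * (t * (x * (t * (x * (x * (t * (x * (x * k))))))))))))) := (congrArg (t * ·) (congrArg (x * ·) (r4_0 ht hx hn (x * (t * (x * (t * (t * (x * (t * (x * (x * (t * (x * (x * k)))))))))))))))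
    _ = t * (x * (x * (t * (x * (x * (t * (x * (x * (t * (x * (x * k))))))))))) := (congrArg (t * ·) (congrArg (x * ·) (congrArg (x * ·) (congrArg (t * ·) (congrArg (x * ·) (r4_0 ht hx hn (x * (t * (x * (x * (t * (x * (x * k)))))))))))))
    _ = t * (t * (x * (t * (x * (t * (t * (x * (x * (t * (x * (x * k))))))))))) := (congrArg (t * ·) (r4_8 ht hx hn (t * (x * (x * (t * (x * (x * k))))))))
    _ = x * (t * (x * (t * (t * (x * (x * (t * (x * (x * k))))))))) := (r4_0 ht hx hn (x * (t * (x * (t * (t * (x * (x * (t * (x * (x * k)))))))))))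
    _ = x * (t * (x * (x * (x * (t * (x * (x * k))))))) := (congrArg (x * ·) (congrArg (t * ·) (congrArg (x * ·) (r4_0 ht hx hn (x * (x * (t * (x * (x * k)))))))))
    _ = x * (t * (t * (x * (x * k)))) := (congrArg (x * ·) (congrArg (t * ·) (r4_1 ht hx hn (t * (x * (x * k))))))
    _ = x * (x * (x * k)) := (congrArg (x * ·) (r4_0 ht hx hn (x * (x * k))))
    _ = k := (r4_1 ht hx hn (k))

theorem eq4 (ht : t * t = 1) (hx : x * x * x = 1) (hn : (t * x) ^ 4 = 1) :
    ∀ k : G, x * (t * (x * (x * (t * (x * (x * (t * (x * (t * (x * (x * (t * (x * (x * k)))))))))))))) = t * k := by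
  intro k
  calc x * (t * (x * (x * (t * (x * (x * (t * (x * (t * (x * (x * (t * (x * (x * k)))))))))))))) = x * (t * (t * (x * (t * (x * (t * (t * (x * (t * (x * (x * (t * (x * (x * k)))))))))))))) := (congrArg (x * ·) (congrArg (t * ·) (r4_8 ht hx hn (t * (x * (t * (x * (x * (t * (x * (x * k)))))))))))
    _ = x * (x * (t * (x * (t * (t * (x * (t * (x * (x * (t * (x * (x * k)))))))))))) := (congrArg (x * ·) (r4_0 ht hx hn (x * (t * (x * (t * (t * (x * (t * (x * (x * (t * (x * (x * k))))))))))))))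
    _ = x * (x * (t * (x * (x * (t * (x * (x * (t * (x * (x * k)))))))))) := (congrArg (x * ·) (congrArg (x * ·) (congrArg (t * ·) (congrArg (x * ·) (r4_0 ht hx hn (x * (t * (x * (x * (t * (x * (x * k))))))))))))
    _ = t * (x * (t * (x * (t * (t * (x * (x * (t * (x * (x * k)))))))))) := (r4_8 ht hx hn (t * (x * (x * (t * (x * (x * k)))))))
    _ = t * (x * (t * (x * (x * (x * (t * (x * (x * k)))))))) := (congrArg (t * ·) (congrArg (x * ·) (congrArg (t * ·) (congrArg (x * ·) (r4_0 ht hx hn (x * (x * (t * (x * (x * k))))))))))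
    _ = t * (x * (t * (t * (x * (x * k))))) := (congrArg (t * ·) (congrArg (x * ·) (congrArg (t * ·) (r4_1 ht hx hn (t * (x * (x * k)))))))
    _ = t * (x * (x * (x * k))) := (congrArg (t * ·) (congrArg (x * ·) (r4_0 ht hx hn (x * (x * k)))))
    _ = t * k := (congrArg (t * ·) (r4_1 ht hx hn (k)))

theorem comm4 (ht : t * t = 1) (hx : x * x * x = 1) (hn : (t * x) ^ 4 = 1) :
    ∀ k : G, t * (x * (t * (x * (x * (t * (x * (t * (x * (x * (t * (x * (t * (x * (x * k)))))))))))))) = k := by
  intro k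
  calc t * (x * (t * (x * (x * (t * (x * (t * (x * (x * (t * (x * (t * (x * (x * k)))))))))))))) = t * (t * (x * (t * (x * (x * (t * (x * (x * (x * (t * (x * (t * (x * (x * k)))))))))))))) := (congrArg (t * ·) (r4_9 ht hx hn (x * (x * (t * (x * (t * (x * (x * k)))))))))
    _ = x * (t * (x * (x * (t * (x * (x * (x * (t * (x * (t * (x * (x * k)))))))))))) := (r4_0 ht hx hn (x * (t * (x * (x * (t * (x * (x * (x * (t * (x * (t * (x * (x * k))))))))))))))
    _ = x * (t * (t * (x * (t * (x * (t * (x * (t * (x * (t * (x * (x * k)))))))))))) := (congrArg (x * ·) (congrArg (t * ·) (r4_8 ht hx hn (x * (t * (x * (t * (x * (x * k)))))))))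
    _ = x * (x * (t * (x * (t * (x * (t * (x * (t * (x * (x * k)))))))))) := (congrArg (x * ·) (r4_0 ht hx hn (x * (t * (x * (t * (x * (t * (x * (t * (x * (x * k))))))))))))
    _ = x * (t * (x * (x * (t * (t * (x * (t * (x * (x * k))))))))) := (congrArg (x * ·) (r4_5 ht hx hn (t * (x * (t * (x * (x * k)))))))
    _ = x * (t * (x * (x * (x * (t * (x * (x * k))))))) := (congrArg (x * ·) (congrArg (t * ·) (congrArg (x * ·) (congrArg (x * ·) (r4_0 ht hx hn (x * (t * (x * (x * k)))))))))
    _ = x * (t * (t * (x * (x * k)))) := (congrArg (x * ·) (congrArg (t * ·) (r4_1 ht hx hn (t * (x * (x * k))))))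
    _ = x * (x * (x * k)) := (congrArg (x * ·) (r4_0 ht hx hn (x * (x * k))))
    _ = k := (r4_1 ht hx hn (k))

theorem r5_0 (ht : t * t = 1) (hx : x * x * x = 1) (hn : (t * x) ^ 5 = 1) :
    ∀ k : G, t * (t * k) = k := by
  intro k
  calc _ = (t * t) * k := by simp only [pow_succ, pow_zero, one_mul, mul_assoc]
    _ = k := by rw [ht, one_mul]

theorem r5_1 (ht : t * t = 1) (hx : x * x * x = 1) (hn : (t * x) ^ 5 = 1) :
    ∀ k : G, x * (x * (x * k)) = k := by
  intro k
  calc _ = (x * x * x) * k := by simp only [pow_succ, pow_zero, one_mul, mul_assoc]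
    _ = k := by rw [hx, one_mul]

theorem r5_2 (ht : t * t = 1) (hx : x * x * x = 1) (hn : (t * x) ^ 5 = 1) :
    ∀ k : G, t * (x * (t * (x * (t * (x * (t * (x * (t * (x * k))))))))) = k := by
  intro k
  calc _ = ((t * x) ^ 5) * k := by simp only [pow_succ, pow_zero, one_mul, mul_assoc]
    _ = k := by rw [hn, one_mul]

theorem r5_3 (ht : t * t = 1) (hx : x * x * x = 1) (hn : (t * x) ^ 5 = 1) :
    ∀ k : G, x * (t * (x * (t * (x * (t * (x * (t * (x * k)))))))) = t * k := by
  intro k
  calc x * (t * (x * (t * (x * (t * (x * (t * (x * k)))))))) = t * (t * (x * (t * (x * (t * (x * (t * (x * (t * (x * k)))))))))) := (r5_0 ht hx hn (x * (t * (x * (t * (x * (t * (x * (t * (x * k)))))))))).symm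
    _ = t * k := (congrArg (t * ·) (r5_2 ht hx hn (k)))

theorem r5_4 (ht : t * t = 1) (hx : x * x * x = 1) (hn : (t * x) ^ 5 = 1) :
    ∀ k : G, t * (x * (t * (x * (t * (x * (t * (x * k))))))) = x * (x * (t * k)) := by
  intro k
  calc t * (x * (t * (x * (t * (x * (t * (x * k))))))) = x * (x * (x * (t * (x * (t * (x * (t * (x * (t * (x * k)))))))))) := (r5_1 ht hx hn (t * (x * (t * (x * (t * (x * (t * (x * k))))))))).symm
    _ = x * (x * (t * k)) := (congrArg (x * ·) (congrArg (x * ·) (r5_3 ht hx hn (k))))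

theorem r5_5 (ht : t * t = 1) (hx : x * x * x = 1) (hn : (t * x) ^ 5 = 1) :
    ∀ k : G, x * (t * (x * (t * (x * (t * (x * k)))))) = t * (x * (x * (t * k))) := by
  intro k
  calc x * (t * (x * (t * (x * (t * (x * k)))))) = t * (t * (x * (t * (x * (t * (x * (t * (x * k)))))))) := (r5_0 ht hx hn (x * (t * (x * (t * (x * (t * (x * k)))))))).symm
    _ = t * (x * (x * (t * k))) := (congrArg (t * ·) (r5_4 ht hx hn (k)))

theorem r5_6 (ht : t * t = 1) (hx : x * x * x = 1) (hn : (t * x) ^ 5 = 1) :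
    ∀ k : G, x * (x * (t * (x * (x * (t * k))))) = t * (x * (t * (x * (t * (x * k))))) := by
  intro k
  calc x * (x * (t * (x * (x * (t * k))))) = x * (x * (x * (t * (x * (t * (x * (t * (x * k)))))))) := (congrArg (x * ·) (congrArg (x * ·) (r5_5 ht hx hn (k)))).symm
    _ = t * (x * (t * (x * (t * (x * k))))) := (r5_1 ht hx hn (t * (x * (t * (x * (t * (x * k)))))))

theorem r5_7 (ht : t * t = 1) (hx : x * x * x = 1) (hn : (t * x) ^ 5 = 1) :
    ∀ k : G, x * (t * (x * (t * (x * (t * k))))) = t * (x * (x * (t * (x * (x * k))))) := by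
  intro k
  calc x * (t * (x * (t * (x * (t * k))))) = x * (t * (x * (t * (x * (t * (x * (x * (x * k)))))))) := (congrArg (x * ·) (congrArg (t * ·) (congrArg (x * ·) (congrArg (t * ·) (congrArg (x * ·) (congrArg (t * ·) (r5_1 ht hx hn (k)))))))).symm
    _ = t * (x * (x * (t * (x * (x * k))))) := (r5_5 ht hx hn (x * (x * k)))

theorem r5_8 (ht : t * t = 1) (hx : x * x * x = 1) (hn : (t * x) ^ 5 = 1) :
    ∀ k : G, x * (x * (t * (x * (t * (x * (x * (t * (x * (x * k))))))))) = t * (x * (t * (x * (t * (x * (x * (t * (x * (t * k))))))))) := by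
  intro k
  calc x * (x * (t * (x * (t * (x * (x * (t * (x * (x * k))))))))) = x * (x * (t * (x * (x * (t * (x * (t * (x * (t * k))))))))) := (congrArg (x * ·) (congrArg (x * ·) (congrArg (t * ·) (congrArg (x * ·) (r5_7 ht hx hn (k)))))).symm
    _ = t * (x * (t * (x * (t * (x * (x * (t * (x * (t * k))))))))) := (r5_6 ht hx hn (x * (t * (x * (t * k)))))

theorem r5_9 (ht : t * t = 1) (hx : x * x * x = 1) (hn : (t * x) ^ 5 = 1) :
    ∀ k : G, t * (x * (t * (x * (t * (x * (x * (t * (x * (t * (x * (x * k))))))))))) = x * (x * (t * (x * (t * (x * (x * (t * (x * k)))))))) := by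
  intro k
  calc t * (x * (t * (x * (t * (x * (x * (t * (x * (t * (x * (x * k))))))))))) = x * (x * (t * (x * (t * (x * (x * (t * (x * (x * (x * (x * k))))))))))) := (r5_8 ht hx hn (x * (x * k))).symm
    _ = x * (x * (t * (x * (t * (x * (x * (t * (x * k)))))))) := (congrArg (x * ·) (congrArg (x * ·) (congrArg (t * ·) (congrArg (x * ·) (congrArg (t * ·) (congrArg (x * ·) (congrArg (x * ·) (congrArg (t * ·) (congrArg (x * ·) (r5_1 ht hx hn (k)))))))))))

theorem r5_10 (ht : t * t = 1) (hx : x * x * x = 1) (hn : (t * x) ^ 5 = 1) :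
    ∀ k : G, x * (t * (x * (t * (x * (x * (t * (x * (t * (x * (x * k)))))))))) = t * (x * (x * (t * (x * (t * (x * (x * (t * (x * k))))))))) := by
  intro k
  calc x * (t * (x * (t * (x * (x * (t * (x * (t * (x * (x * k)))))))))) = t * (t * (x * (t * (x * (t * (x * (x * (t * (x * (t * (x * (x * k)))))))))))) := (r5_0 ht hx hn (x * (t * (x * (t * (x * (x * (t * (x * (t * (x * (x * k)))))))))))).symm
    _ = t * (x * (x * (t * (x * (t * (x * (x * (t * (x * k))))))))) := (congrArg (t * ·) (r5_9 ht hx hn (k)))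

theorem r5_11 (ht : t * t = 1) (hx : x * x * x = 1) (hn : (t * x) ^ 5 = 1) :
    ∀ k : G, x * (t * (x * (x * (t * (x * (t * (x * (x * (t * (x * (t * (x * k)))))))))))) = t * (x * (x * (t * (x * (t * (x * (x * (t * (x * (t * k)))))))))) := by
  intro k
  calc x * (t * (x * (x * (t * (x * (t * (x * (x * (t * (x * (t * (x * k)))))))))))) = x * (x * (t * (x * (t * (x * (x * (t * (x * (t * (x * (x * (t * (x * k))))))))))))) := (congrArg (x * ·) (r5_10 ht hx hn (t * (x * k)))).symm
    _ = x * (x * (t * (x * (x * (t * (x * (t * (x * (x * (t * (x * (t * (x * (x * k)))))))))))))) := (congrArg (x * ·) (congrArg (x * ·) (congrArg (t * ·) (congrArg (x * ·) (r5_10 ht hx hn (k)))))).symm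
    _ = t * (x * (t * (x * (t * (x * (x * (t * (x * (x * (t * (x * (t * (x * (x * k)))))))))))))) := (r5_6 ht hx hn (x * (t * (x * (x * (t * (x * (t * (x * (x * k))))))))))
    _ = t * (x * (t * (x * (t * (t * (x * (t * (x * (t * (x * (x * (t * (x * (x * k)))))))))))))) := (congrArg (t * ·) (congrArg (x * ·) (congrArg (t * ·) (congrArg (x * ·) (congrArg (t * ·) (r5_6 ht hx hn (x * (t * (x * (x * k))))))))))
    _ = t * (x * (t * (x * (x * (t * (x * (t * (x * (x * (t * (x * (x * k)))))))))))) := (congrArg (t * ·) (congrArg (x * ·) (congrArg (t * ·) (congrArg (x * ·) (r5_0 ht hx hn (x * (t * (x * (t * (x * (x * (t * (x * (x * k))))))))))))))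
    _ = t * (x * (t * (t * (x * (t * (x * (t * (x * (x * (t * (x * (t * k)))))))))))) := (congrArg (t * ·) (congrArg (x * ·) (congrArg (t * ·) (r5_8 ht hx hn (k)))))
    _ = t * (x * (x * (t * (x * (t * (x * (x * (t * (x * (t * k)))))))))) := (congrArg (t * ·) (congrArg (x * ·) (r5_0 ht hx hn (x * (t * (x * (t * (x * (x * (t * (x * (t * k))))))))))))

theorem r5_12 (ht : t * t = 1) (hx : x * x * x = 1) (hn : (t * x) ^ 5 = 1) :
    ∀ k : G, t * (x * (x * (t * (x * (t * (x * (x * (t * (x * (t * (x * k))))))))))) = t * (x * (t * (x * (x * (t * (x * (t * (x * (x * (t * k)))))))))) := by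
  intro k
  calc t * (x * (x * (t * (x * (t * (x * (x * (t * (x * (t * (x * k))))))))))) = x * (x * (x * (t * (x * (x * (t * (x * (t * (x * (x * (t * (x * (t * (x * k)))))))))))))) := (r5_1 ht hx hn (t * (x * (x * (t * (x * (t * (x * (x * (t * (x * (t * (x * k))))))))))))).symm
    _ = x * (x * (t * (x * (x * (t * (x * (t * (x * (x * (t * (x * (t * k)))))))))))) := (congrArg (x * ·) (congrArg (x * ·) (r5_11 ht hx hn (k))))
    _ = t * (x * (t * (x * (t * (x * (x * (t * (x * (x * (t * (x * (t * k)))))))))))) := (r5_6 ht hx hn (x * (t * (x * (x * (t * (x * (t * k))))))))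
    _ = t * (x * (t * (x * (t * (t * (x * (t * (x * (t * (x * (x * (t * k)))))))))))) := (congrArg (t * ·) (congrArg (x * ·) (congrArg (t * ·) (congrArg (x * ·) (congrArg (t * ·) (r5_6 ht hx hn (x * (t * k))))))))
    _ = t * (x * (t * (x * (x * (t * (x * (t * (x * (x * (t * k)))))))))) := (congrArg (t * ·) (congrArg (x * ·) (congrArg (t * ·) (congrArg (x * ·) (r5_0 ht hx hn (x * (t * (x * (t * (x * (x * (t * k))))))))))))

theorem r5_13 (ht : t * t = 1) (hx : x * x * x = 1) (hn : (t * x) ^ 5 = 1) :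
    ∀ k : G, x * (x * (t * (x * (t * (x * (x * (t * (x * (t * (x * k)))))))))) = x * (t * (x * (x * (t * (x * (t * (x * (x * (t * k))))))))) := by
  intro k
  calc x * (x * (t * (x * (t * (x * (x * (t * (x * (t * (x * k)))))))))) = t * (t * (x * (x * (t * (x * (t * (x * (x * (t * (x * (t * (x * k)))))))))))) := (r5_0 ht hx hn (x * (x * (t * (x * (t * (x * (x * (t * (x * (t * (x * k)))))))))))).symm
    _ = t * (t * (x * (t * (x * (x * (t * (x * (t * (x * (x * (t * k))))))))))) := (congrArg (t * ·) (r5_12 ht hx hn (k)))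
    _ = x * (t * (x * (x * (t * (x * (t * (x * (x * (t * k))))))))) := (r5_0 ht hx hn (x * (t * (x * (x * (t * (x * (t * (x * (x * (t * k)))))))))))

theorem r5_14 (ht : t * t = 1) (hx : x * x * x = 1) (hn : (t * x) ^ 5 = 1) :
    ∀ k : G, x * (t * (x * (t * (x * (x * (t * (x * (t * (x * k))))))))) = t * (x * (x * (t * (x * (t * (x * (x * (t * k)))))))) := by
  intro k
  calc x * (t * (x * (t * (x * (x * (t * (x * (t * (x * k))))))))) = x * (x * (x * (x * (t * (x * (t * (x * (x * (t * (x * (t * (x * k)))))))))))) := (r5_1 ht hx hn (x * (t * (x * (t * (x * (x * (t * (x * (t * (x * k))))))))))).symm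
    _ = x * (x * (x * (t * (x * (x * (t * (x * (t * (x * (x * (t * k))))))))))) := (congrArg (x * ·) (congrArg (x * ·) (r5_13 ht hx hn (k))))
    _ = t * (x * (x * (t * (x * (t * (x * (x * (t * k)))))))) := (r5_1 ht hx hn (t * (x * (x * (t * (x * (t * (x * (x * (t * k))))))))))

theorem r5_15 (ht : t * t = 1) (hx : x * x * x = 1) (hn : (t * x) ^ 5 = 1) :
    ∀ k : G, x * (t * (x * (x * (t * (x * (t * (x * (x * (t * (x * (t * k))))))))))) = t * (x * (t * (x * (x * (t * (x * (t * (x * (x * (t * (x * k))))))))))) := by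
  intro k
  calc x * (t * (x * (x * (t * (x * (t * (x * (x * (t * (x * (t * k))))))))))) = x * (x * (t * (x * (t * (x * (x * (t * (x * (t * (x * (x * (t * k)))))))))))) := (congrArg (x * ·) (r5_14 ht hx hn (x * (t * k)))).symm
    _ = x * (x * (t * (x * (x * (t * (x * (t * (x * (x * (t * (x * (t * (x * k))))))))))))) := (congrArg (x * ·) (congrArg (x * ·) (congrArg (t * ·) (congrArg (x * ·) (r5_14 ht hx hn (k)))))).symm
    _ = t * (x * (t * (x * (t * (x * (x * (t * (x * (x * (t * (x * (t * (x * k))))))))))))) := (r5_6 ht hx hn (x * (t * (x * (x * (t * (x * (t * (x * k)))))))))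
    _ = t * (x * (t * (x * (t * (t * (x * (t * (x * (t * (x * (x * (t * (x * k))))))))))))) := (congrArg (t * ·) (congrArg (x * ·) (congrArg (t * ·) (congrArg (x * ·) (congrArg (t * ·) (r5_6 ht hx hn (x * (t * (x * k)))))))))
    _ = t * (x * (t * (x * (x * (t * (x * (t * (x * (x * (t * (x * k))))))))))) := (congrArg (t * ·) (congrArg (x * ·) (congrArg (t * ·) (congrArg (x * ·) (r5_0 ht hx hn (x * (t * (x * (t * (x * (x * (t * (x * k)))))))))))))

theorem wx5 (ht : t * t = 1) (hx : x * x * x = 1) (hn : (t * x) ^ 5 = 1) :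
    ∀ k : G, t * (x * (x * (t * (x * (t * (x * (x * (t * (x * (t * (x * (t * (x * (x * (t * (x * (t * (x * (x * (t * (x * (t * (x * k))))))))))))))))))))))) = k := by
  intro k
  calc t * (x * (x * (t * (x * (t * (x * (x * (t * (x * (t * (x * (t * (x * (x * (t * (x * (t * (x * (x * (t * (x * (t * (x * k))))))))))))))))))))))) = t * (x * (t * (x * (x * (t * (x * (t * (x * (x * (t * (t * (x * (x * (t * (x * (t * (x * (x * (t * (x * (t * (x * k)))))))))))))))))))))) := (congrArg (t * ·) (congrArg (x * ·) (r5_14 ht hx hn (t * (x * (x * (t * (x * (t * (x * (x * (t * (x * (t * (x * k)))))))))))))))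
    _ = t * (x * (t * (x * (x * (t * (x * (t * (x * (x * (x * (x * (t * (x * (t * (x * (x * (t * (x * (t * (x * k)))))))))))))))))))) := (congrArg (t * ·) (congrArg (x * ·) (congrArg (t * ·) (congrArg (x * ·) (congrArg (x * ·) (congrArg (t * ·) (congrArg (x * ·) (congrArg (t * ·) (congrArg (x * ·) (congrArg (x * ·) (r5_0 ht hx hn (x * (x * (t * (x * (t * (x * (x * (t * (x * (t * (x * k))))))))))))))))))))))
    _ = t * (x * (t * (x * (x * (t * (x * (t * (x * (t * (x * (t * (x * (x * (t * (x * (t * (x * k))))))))))))))))) := (congrArg (t * ·) (congrArg (x * ·) (congrArg (t * ·) (congrArg (x * ·) (congrArg (x * ·) (congrArg (t * ·) (congrArg (x * ·) (congrArg (t * ·) (r5_1 ht hx hn (x * (t * (x * (t * (x * (x * (t * (x * (t * (x * k)))))))))))))))))))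
    _ = t * (x * (t * (x * (t * (x * (x * (t * (x * (x * (x * (t * (x * (x * (t * (x * (t * (x * k))))))))))))))))) := (congrArg (t * ·) (congrArg (x * ·) (congrArg (t * ·) (congrArg (x * ·) (r5_7 ht hx hn (x * (t * (x * (x * (t * (x * (t * (x * k)))))))))))))
    _ = t * (x * (t * (x * (t * (x * (x * (t * (t * (x * (x * (t * (x * (t * (x * k)))))))))))))) := (congrArg (t * ·) (congrArg (x * ·) (congrArg (t * ·) (congrArg (x * ·) (congrArg (t * ·) (congrArg (x * ·) (congrArg (x * ·) (congrArg (t * ·) (r5_1 ht hx hn (t * (x * (x * (t * (x * (t * (x * k))))))))))))))))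
    _ = t * (x * (t * (x * (t * (x * (x * (x * (x * (t * (x * (t * (x * k)))))))))))) := (congrArg (t * ·) (congrArg (x * ·) (congrArg (t * ·) (congrArg (x * ·) (congrArg (t * ·) (congrArg (x * ·) (congrArg (x * ·) (r5_0 ht hx hn (x * (x * (t * (x * (t * (x * k))))))))))))))
    _ = t * (x * (t * (x * (t * (x * (t * (x * (t * (x * k))))))))) := (congrArg (t * ·) (congrArg (x * ·) (congrArg (t * ·) (congrArg (x * ·) (congrArg (t * ·) (r5_1 ht hx hn (x * (t * (x * (t * (x * k)))))))))))
    _ = t * (t * (x * (x * (t * (x * (x * (x * (t * (x * k))))))))) := (congrArg (t * ·) (r5_7 ht hx hn (x * (t * (x * k)))))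
    _ = x * (x * (t * (x * (x * (x * (t * (x * k))))))) := (r5_0 ht hx hn (x * (x * (t * (x * (x * (x * (t * (x * k)))))))))
    _ = x * (x * (t * (t * (x * k)))) := (congrArg (x * ·) (congrArg (x * ·) (congrArg (t * ·) (r5_1 ht hx hn (t * (x * k))))))
    _ = x * (x * (x * k)) := (congrArg (x * ·) (congrArg (x * ·) (r5_0 ht hx hn (x * k))))
    _ = k := (r5_1 ht hx hn (k))

theorem vx5 (ht : t * t = 1) (hx : x * x * x = 1) (hn : (t * x) ^ 5 = 1) :
    ∀ k : G, t * (x * (t * (x * (x * (t * (x * (t * (x * (t * (x * (x * (t * (x * (t * (x * (t * (x * (x * (t * (x * k)))))))))))))))))))) = k := by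
  intro k
  calc t * (x * (t * (x * (x * (t * (x * (t * (x * (t * (x * (x * (t * (x * (t * (x * (t * (x * (x * (t * (x * k)))))))))))))))))))) = t * (x * (t * (x * (t * (x * (x * (t * (x * (x * (x * (x * (t * (x * (t * (x * (t * (x * (x * (t * (x * k)))))))))))))))))))) := (congrArg (t * ·) (congrArg (x * ·) (congrArg (t * ·) (congrArg (x * ·) (r5_7 ht hx hn (x * (x * (t * (x * (t * (x * (t * (x * (x * (t * (x * k))))))))))))))))
    _ = t * (x * (t * (x * (t * (x * (x * (t * (x * (t * (x * (t * (x * (t * (x * (x * (t * (x * k))))))))))))))))) := (congrArg (t * ·) (congrArg (x * ·) (congrArg (t * ·) (congrArg (x * ·) (congrArg (t * ·) (congrArg (x * ·) (congrArg (x * ·) (congrArg (t * ·) (r5_1 ht hx hn (x * (t * (x * (t * (x * (t * (x * (x * (t * (x * k)))))))))))))))))))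
    _ = t * (t * (x * (x * (t * (x * (t * (x * (x * (t * (t * (x * (t * (x * (x * (t * (x * k)))))))))))))))) := (congrArg (t * ·) (r5_14 ht hx hn (t * (x * (t * (x * (x * (t * (x * k)))))))))
    _ = x * (x * (t * (x * (t * (x * (x * (t * (t * (x * (t * (x * (x * (t * (x * k)))))))))))))) := (r5_0 ht hx hn (x * (x * (t * (x * (t * (x * (x * (t * (t * (x * (t * (x * (x * (t * (x * k))))))))))))))))
    _ = x * (x * (t * (x * (t * (x * (x * (x * (t * (x * (x * (t * (x * k)))))))))))) := (congrArg (x * ·) (congrArg (x * ·) (congrArg (t * ·) (congrArg (x * ·) (congrArg (t * ·) (congrArg (x * ·) (congrArg (x * ·) (r5_0 ht hx hn (x * (t * (x * (x * (t * (x * k))))))))))))))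
    _ = x * (x * (t * (x * (t * (t * (x * (x * (t * (x * k))))))))) := (congrArg (x * ·) (congrArg (x * ·) (congrArg (t * ·) (congrArg (x * ·) (congrArg (t * ·) (r5_1 ht hx hn (t * (x * (x * (t * (x * k)))))))))))
    _ = x * (x * (t * (x * (x * (x * (t * (x * k))))))) := (congrArg (x * ·) (congrArg (x * ·) (congrArg (t * ·) (congrArg (x * ·) (r5_0 ht hx hn (x * (x * (t * (x * k)))))))))
    _ = x * (x * (t * (t * (x * k)))) := (congrArg (x * ·) (congrArg (x * ·) (congrArg (t * ·) (r5_1 ht hx hn (t * (x * k))))))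
    _ = x * (x * (x * k)) := (congrArg (x * ·) (congrArg (x * ·) (r5_0 ht hx hn (x * k))))
    _ = k := (r5_1 ht hx hn (k))

theorem vw5 (ht : t * t = 1) (hx : x * x * x = 1) (hn : (t * x) ^ 5 = 1) :
    ∀ k : G, t * (x * (t * (x * (x * (t * (t * (x * (x * (t * (x * (t * (x * (x * (t * (x * (t * (t * (x * (t * (x * (x * (t * (t * (x * (x * (t * (x * (t * (x * (x * (t * (x * (t * (t * (x * (t * (x * (x * (t * (t * (x * (x * (t * (x * (t * (x * (x * (t * (x * (t * k)))))))))))))))))))))))))))))))))))))))))))))))))) = k := by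
  intro k
  calc t * (x * (t * (x * (x * (t * (t * (x * (x * (t * (x * (t * (x * (x * (t * (x * (t * (t * (x * (t * (x * (x * (t * (t * (x * (x * (t * (x * (t * (x * (x * (t * (x * (t * (t * (x * (t * (x * (x * (t * (t * (x * (x * (t * (x * (t * (x * (x * (t * (x * (t * k)))))))))))))))))))))))))))))))))))))))))))))))))) = t * (x * (t * (x * (x * (x * (x * (t * (x * (t * (x * (x * (t * (x * (t * (t * (x * (t * (x * (x * (t * (t * (x * (x * (t * (x * (t * (x * (x * (t * (x * (t * (t * (x * (t * (x * (x * (t * (t * (x * (x * (t * (x * (t * (x * (x * (t * (x * (t * k)))))))))))))))))))))))))))))))))))))))))))))))) := (congrArg (t * ·) (congrArg (x * ·) (congrArg (t * ·) (congrArg (x * ·) (congrArg (x * ·) (r5_0 ht hx hn (x * (x * (t * (x * (t * (x * (x * (t * (x * (t * (t * (x * (t * (x * (x * (t * (t * (x * (x * (t * (x * (t * (x * (x * (t * (x * (t * (t * (x * (t * (x * (x * (t * (t * (x * (x * (t * (x * (t * (x * (x * (t * (x * (t * k))))))))))))))))))))))))))))))))))))))))))))))))))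
    _ = t * (x * (t * (x * (t * (x * (t * (x * (x * (t * (x * (t * (t * (x * (t * (x * (x * (t * (t * (x * (x * (t * (x * (t * (x * (x * (t * (x * (t * (t * (x * (t * (x * (x * (t * (t * (x * (x * (t * (x * (t * (x * (x * (t * (x * (t * k))))))))))))))))))))))))))))))))))))))))))))) := (congrArg (t * ·) (congrArg (x * ·) (congrArg (t * ·) (r5_1 ht hx hn (x * (t * (x * (t * (x * (x * (t * (x * (t * (t * (x * (t * (x * (x * (t * (t * (x * (x * (t * (x * (t * (x * (x * (t * (x * (t * (t * (x * (t * (x * (x * (t * (t * (x * (x * (t * (x * (t * (x * (x * (t * (x * (t * k)))))))))))))))))))))))))))))))))))))))))))))))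
    _ = t * (t * (x * (x * (t * (x * (x * (x * (x * (t * (x * (t * (t * (x * (t * (x * (x * (t * (t * (x * (x * (t * (x * (t * (x * (x * (t * (x * (t * (t * (x * (t * (x * (x * (t * (t * (x * (x * (t * (x * (t * (x * (x * (t * (x * (t * k))))))))))))))))))))))))))))))))))))))))))))) := (congrArg (t * ·) (r5_7 ht hx hn (x * (x * (t * (x * (t * (t * (x * (t * (x * (x * (t * (t * (x * (x * (t * (x * (t * (x * (x * (t * (x * (t * (t * (x * (t * (x * (x * (t * (t * (x * (x * (t * (x * (t * (x * (x * (t * (x * (t * k)))))))))))))))))))))))))))))))))))))))))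
    _ = x * (x * (t * (x * (x * (x * (x * (t * (x * (t * (t * (x * (t * (x * (x * (t * (t * (x * (x * (t * (x * (t * (x * (x * (t * (x * (t * (t * (x * (t * (x * (x * (t * (t * (x * (x * (t * (x * (t * (x * (x * (t * (x * (t * k))))))))))))))))))))))))))))))))))))))))))) := (r5_0 ht hx hn (x * (x * (t * (x * (x * (x * (x * (t * (x * (t * (t * (x * (t * (x * (x * (t * (t * (x * (x * (t * (x * (t * (x * (x * (t * (x * (t * (t * (x * (t * (x * (x * (t * (t * (x * (x * (t * (x * (t * (x * (x * (t * (x * (t * k)))))))))))))))))))))))))))))))))))))))))))))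
    _ = x * (x * (t * (x * (t * (x * (t * (t * (x * (t * (x * (x * (t * (t * (x * (x * (t * (x * (t * (x * (x * (t * (x * (t * (t * (x * (t * (x * (x * (t * (t * (x * (x * (t * (x * (t * (x * (x * (t * (x * (t * k)))))))))))))))))))))))))))))))))))))))) := (congrArg (x * ·) (congrArg (x * ·) (congrArg (t * ·) (r5_1 ht hx hn (x * (t * (x * (t * (t * (x * (t * (x * (x * (t * (t * (x * (x * (t * (x * (t * (x * (x * (t * (x * (t * (t * (x * (t * (x * (x * (t * (t * (x * (x * (t * (x * (t * (x * (x * (t * (x * (t * k))))))))))))))))))))))))))))))))))))))))))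
    _ = x * (t * (x * (x * (t * (x * (x * (t * (x * (t * (x * (x * (t * (t * (x * (x * (t * (x * (t * (x * (x * (t * (x * (t * (t * (x * (t * (x * (x * (t * (t * (x * (x * (t * (x * (t * (x * (x * (t * (x * (t * k)))))))))))))))))))))))))))))))))))))))) := (congrArg (x * ·) (r5_7 ht hx hn (t * (x * (t * (x * (x * (t * (t * (x * (x * (t * (x * (t * (x * (x * (t * (x * (t * (t * (x * (t * (x * (x * (t * (t * (x * (x * (t * (x * (t * (x * (x * (t * (x * (t * k))))))))))))))))))))))))))))))))))))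
    _ = x * (t * (t * (x * (t * (x * (t * (x * (x * (t * (x * (x * (t * (t * (x * (x * (t * (x * (t * (x * (x * (t * (x * (t * (t * (x * (t * (x * (x * (t * (t * (x * (x * (t * (x * (t * (x * (x * (t * (x * (t * k)))))))))))))))))))))))))))))))))))))))) := (congrArg (x * ·) (congrArg (t * ·) (r5_6 ht hx hn (x * (t * (x * (x * (t * (t * (x * (x * (t * (x * (t * (x * (x * (t * (x * (t * (t * (x * (t * (x * (x * (t * (t * (x * (x * (t * (x * (t * (x * (x * (t * (x * (t * k))))))))))))))))))))))))))))))))))))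
    _ = x * (x * (t * (x * (t * (x * (x * (t * (x * (x * (t * (t * (x * (x * (t * (x * (t * (x * (x * (t * (x * (t * (t * (x * (t * (x * (x * (t * (t * (x * (x * (t * (x * (t * (x * (x * (t * (x * (t * k)))))))))))))))))))))))))))))))))))))) := (congrArg (x * ·) (r5_0 ht hx hn (x * (t * (x * (t * (x * (x * (t * (x * (x * (t * (t * (x * (x * (t * (x * (t * (x * (x * (t * (x * (t * (t * (x * (t * (x * (x * (t * (t * (x * (x * (t * (x * (t * (x * (x * (t * (x * (t * k))))))))))))))))))))))))))))))))))))))))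
    _ = t * (x * (t * (x * (t * (x * (x * (t * (x * (t * (t * (t * (x * (x * (t * (x * (t * (x * (x * (t * (x * (t * (t * (x * (t * (x * (x * (t * (t * (x * (x * (t * (x * (t * (x * (x * (t * (x * (t * k)))))))))))))))))))))))))))))))))))))) := (r5_8 ht hx hn (t * (t * (x * (x * (t * (x * (t * (x * (x * (t * (x * (t * (t * (x * (t * (x * (x * (t * (t * (x * (x * (t * (x * (t * (x * (x * (t * (x * (t * k))))))))))))))))))))))))))))))
    _ = t * (x * (t * (x * (t * (x * (x * (t * (x * (t * (x * (x * (t * (x * (t * (x * (x * (t * (x * (t * (t * (x * (t * (x * (x * (t * (t * (x * (x * (t * (x * (t * (x * (x * (t * (x * (t * k)))))))))))))))))))))))))))))))))))) := (congrArg (t * ·) (congrArg (x * ·) (congrArg (t * ·) (congrArg (x * ·) (congrArg (t * ·) (congrArg (x * ·) (congrArg (x * ·) (congrArg (t * ·) (congrArg (x * ·) (r5_0 ht hx hn (t * (x * (x * (t * (x * (t * (x * (x * (t * (x * (t * (t * (x * (t * (x * (x * (t * (t * (x * (x * (t * (x * (t * (x * (x * (t * (x * (t * k))))))))))))))))))))))))))))))))))))))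
    _ = t * (t * (x * (x * (t * (x * (t * (x * (x * (t * (x * (t * (x * (t * (x * (x * (t * (x * (t * (t * (x * (t * (x * (x * (t * (t * (x * (x * (t * (x * (t * (x * (x * (t * (x * (t * k))))))))))))))))))))))))))))))))))) := (congrArg (t * ·) (r5_14 ht hx hn (x * (t * (x * (t * (x * (x * (t * (x * (t * (t * (x * (t * (x * (x * (t * (t * (x * (x * (t * (x * (t * (x * (x * (t * (x * (t * k))))))))))))))))))))))))))))
    _ = x * (x * (t * (x * (t * (x * (x * (t * (x * (t * (x * (t * (x * (x * (t * (x * (t * (t * (x * (t * (x * (x * (t * (t * (x * (x * (t * (x * (t * (x * (x * (t * (x * (t * k))))))))))))))))))))))))))))))))) := (r5_0 ht hx hn (x * (x * (t * (x * (t * (x * (x * (t * (x * (t * (x * (t * (x * (x * (t * (x * (t * (t * (x * (t * (x * (x * (t * (t * (x * (x * (t * (x * (t * (x * (x * (t * (x * (t * k)))))))))))))))))))))))))))))))))))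
    _ = x * (t * (x * (x * (t * (x * (t * (x * (x * (t * (t * (x * (x * (t * (x * (t * (t * (x * (t * (x * (x * (t * (t * (x * (x * (t * (x * (t * (x * (x * (t * (x * (t * k)))))))))))))))))))))))))))))))) := (congrArg (x * ·) (r5_14 ht hx hn (t * (x * (x * (t * (x * (t * (t * (x * (t * (x * (x * (t * (t * (x * (x * (t * (x * (t * (x * (x * (t * (x * (t * k)))))))))))))))))))))))))
    _ = x * (t * (x * (x * (t * (x * (t * (x * (x * (x * (x * (t * (x * (t * (t * (x * (t * (x * (x * (t * (t * (x * (x * (t * (x * (t * (x * (x * (t * (x * (t * k)))))))))))))))))))))))))))))) := (congrArg (x * ·) (congrArg (t * ·) (congrArg (x * ·) (congrArg (x * ·) (congrArg (t * ·) (congrArg (x * ·) (congrArg (t * ·) (congrArg (x * ·) (congrArg (x * ·) (r5_0 ht hx hn (x * (x * (t * (x * (t * (t * (x * (t * (x * (x * (t * (t * (x * (x * (t * (x * (t * (x * (x * (t * (x * (t * k))))))))))))))))))))))))))))))))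
    _ = x * (t * (x * (x * (t * (x * (t * (x * (t * (x * (t * (t * (x * (t * (x * (x * (t * (t * (x * (x * (t * (x * (t * (x * (x * (t * (x * (t * k))))))))))))))))))))))))))) := (congrArg (x * ·) (congrArg (t * ·) (congrArg (x * ·) (congrArg (x * ·) (congrArg (t * ·) (congrArg (x * ·) (congrArg (t * ·) (r5_1 ht hx hn (x * (t * (x * (t * (t * (x * (t * (x * (x * (t * (t * (x * (x * (t * (x * (t * (x * (x * (t * (x * (t * k)))))))))))))))))))))))))))))
    _ = x * (t * (x * (t * (x * (x * (t * (x * (x * (x * (t * (t * (x * (t * (x * (x * (t * (t * (x * (x * (t * (x * (t * (x * (x * (t * (x * (t * k))))))))))))))))))))))))))) := (congrArg (x * ·) (congrArg (t * ·) (congrArg (x * ·) (r5_7 ht hx hn (x * (t * (t * (x * (t * (x * (x * (t * (t * (x * (x * (t * (x * (t * (x * (x * (t * (x * (t * k)))))))))))))))))))))))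
    _ = x * (t * (x * (t * (x * (x * (t * (t * (t * (x * (t * (x * (x * (t * (t * (x * (x * (t * (x * (t * (x * (x * (t * (x * (t * k)))))))))))))))))))))))) := (congrArg (x * ·) (congrArg (t * ·) (congrArg (x * ·) (congrArg (t * ·) (congrArg (x * ·) (congrArg (x * ·) (congrArg (t * ·) (r5_1 ht hx hn (t * (t * (x * (t * (x * (x * (t * (t * (x * (x * (t * (x * (t * (x * (x * (t * (x * (t * k))))))))))))))))))))))))))
    _ = x * (t * (x * (t * (x * (x * (t * (x * (t * (x * (x * (t * (t * (x * (x * (t * (x * (t * (x * (x * (t * (x * (t * k)))))))))))))))))))))) := (congrArg (x * ·) (congrArg (t * ·) (congrArg (x * ·) (congrArg (t * ·) (congrArg (x * ·) (congrArg (x * ·) (r5_0 ht hx hn (t * (x * (t * (x * (x * (t * (t * (x * (x * (t * (x * (t * (x * (x * (t * (x * (t * k))))))))))))))))))))))))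
    _ = t * (x * (x * (t * (x * (t * (x * (x * (t * (x * (t * (t * (x * (x * (t * (x * (t * (x * (x * (t * (x * (t * k))))))))))))))))))))) := (r5_14 ht hx hn (x * (t * (t * (x * (x * (t * (x * (t * (x * (x * (t * (x * (t * k))))))))))))))
    _ = t * (x * (x * (t * (x * (t * (x * (x * (t * (x * (x * (x * (t * (x * (t * (x * (x * (t * (x * (t * k))))))))))))))))))) := (congrArg (t * ·) (congrArg (x * ·) (congrArg (x * ·) (congrArg (t * ·) (congrArg (x * ·) (congrArg (t * ·) (congrArg (x * ·) (congrArg (x * ·) (congrArg (t * ·) (congrArg (x * ·) (r5_0 ht hx hn (x * (x * (t * (x * (t * (x * (x * (t * (x * (t * k)))))))))))))))))))))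
    _ = t * (t * (x * (t * (x * (t * (x * (x * (t * (x * (t * (x * (t * (x * (t * (x * (x * (t * (x * (t * k))))))))))))))))))) := (congrArg (t * ·) (r5_8 ht hx hn (x * (t * (x * (t * (x * (x * (t * (x * (t * k)))))))))))
    _ = x * (t * (x * (t * (x * (x * (t * (x * (t * (x * (t * (x * (t * (x * (x * (t * (x * (t * k))))))))))))))))) := (r5_0 ht hx hn (x * (t * (x * (t * (x * (x * (t * (x * (t * (x * (t * (x * (t * (x * (x * (t * (x * (t * k)))))))))))))))))))
    _ = t * (x * (x * (t * (x * (t * (x * (x * (t * (t * (x * (t * (x * (x * (t * (x * (t * k)))))))))))))))) := (r5_14 ht hx hn (t * (x * (t * (x * (x * (t * (x * (t * k)))))))))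
    _ = t * (x * (x * (t * (x * (t * (x * (x * (x * (t * (x * (x * (t * (x * (t * k)))))))))))))) := (congrArg (t * ·) (congrArg (x * ·) (congrArg (x * ·) (congrArg (t * ·) (congrArg (x * ·) (congrArg (t * ·) (congrArg (x * ·) (congrArg (x * ·) (r5_0 ht hx hn (x * (t * (x * (x * (t * (x * (t * k))))))))))))))))
    _ = t * (x * (x * (t * (x * (t * (t * (x * (x * (t * (x * (t * k))))))))))) := (congrArg (t * ·) (congrArg (x * ·) (congrArg (x * ·) (congrArg (t * ·) (congrArg (x * ·) (congrArg (t * ·) (r5_1 ht hx hn (t * (x * (x * (t * (x * (t * k)))))))))))))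
    _ = t * (x * (x * (t * (x * (x * (x * (t * (x * (t * k))))))))) := (congrArg (t * ·) (congrArg (x * ·) (congrArg (x * ·) (congrArg (t * ·) (congrArg (x * ·) (r5_0 ht hx hn (x * (x * (t * (x * (t * k)))))))))))
    _ = t * (x * (x * (t * (t * (x * (t * k)))))) := (congrArg (t * ·) (congrArg (x * ·) (congrArg (x * ·) (congrArg (t * ·) (r5_1 ht hx hn (t * (x * (t * k))))))))
    _ = t * (x * (x * (x * (t * k)))) := (congrArg (t * ·) (congrArg (x * ·) (congrArg (x * ·) (r5_0 ht hx hn (x * (t * k))))))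
    _ = t * (t * k) := (congrArg (t * ·) (r5_1 ht hx hn (t * k)))
    _ = k := (r5_0 ht hx hn (k))

theorem eq5 (ht : t * t = 1) (hx : x * x * x = 1) (hn : (t * x) ^ 5 = 1) :
    ∀ k : G, t * (x * (t * (x * (x * (t * (t * (x * (x * (t * (x * (t * (x * (x * (t * (x * (t * (x * (t * (x * (t * (x * (x * (t * k))))))))))))))))))))))) = t * k := by
  intro k
  calc t * (x * (t * (x * (x * (t * (t * (x * (x * (t * (x * (t * (x * (x * (t * (x * (t * (x * (t * (x * (t * (x * (x * (t * k))))))))))))))))))))))) = t * (x * (t * (x * (x * (x * (x * (t * (x * (t * (x * (x * (t * (x * (t * (x * (t * (x * (t * (x * (x * (t * k))))))))))))))))))))) := (congrArg (t * ·) (congrArg (x * ·) (congrArg (t * ·) (congrArg (x * ·) (congrArg (x * ·) (r5_0 ht hx hn (x * (x * (t * (x * (t * (x * (x * (t * (x * (t * (x * (t * (x * (t * (x * (x * (t * k)))))))))))))))))))))))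
    _ = t * (x * (t * (x * (t * (x * (t * (x * (x * (t * (x * (t * (x * (t * (x * (t * (x * (x * (t * k)))))))))))))))))) := (congrArg (t * ·) (congrArg (x * ·) (congrArg (t * ·) (r5_1 ht hx hn (x * (t * (x * (t * (x * (x * (t * (x * (t * (x * (t * (x * (t * (x * (x * (t * k))))))))))))))))))))
    _ = t * (t * (x * (x * (t * (x * (x * (x * (x * (t * (x * (t * (x * (t * (x * (t * (x * (x * (t * k)))))))))))))))))) := (congrArg (t * ·) (r5_7 ht hx hn (x * (x * (t * (x * (t * (x * (t * (x * (t * (x * (x * (t * k))))))))))))))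
    _ = x * (x * (t * (x * (x * (x * (x * (t * (x * (t * (x * (t * (x * (t * (x * (x * (t * k)))))))))))))))) := (r5_0 ht hx hn (x * (x * (t * (x * (x * (x * (x * (t * (x * (t * (x * (t * (x * (t * (x * (x * (t * k))))))))))))))))))
    _ = x * (x * (t * (x * (t * (x * (t * (x * (t * (x * (t * (x * (x * (t * k))))))))))))) := (congrArg (x * ·) (congrArg (x * ·) (congrArg (t * ·) (r5_1 ht hx hn (x * (t * (x * (t * (x * (t * (x * (t * (x * (x * (t * k)))))))))))))))
    _ = x * (t * (x * (x * (t * (x * (x * (x * (t * (x * (t * (x * (x * (t * k))))))))))))) := (congrArg (x * ·) (r5_7 ht hx hn (x * (t * (x * (t * (x * (x * (t * k)))))))))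
    _ = x * (t * (x * (x * (t * (t * (x * (t * (x * (x * (t * k)))))))))) := (congrArg (x * ·) (congrArg (t * ·) (congrArg (x * ·) (congrArg (x * ·) (congrArg (t * ·) (r5_1 ht hx hn (t * (x * (t * (x * (x * (t * k))))))))))))
    _ = x * (t * (x * (x * (x * (t * (x * (x * (t * k)))))))) := (congrArg (x * ·) (congrArg (t * ·) (congrArg (x * ·) (congrArg (x * ·) (r5_0 ht hx hn (x * (t * (x * (x * (t * k))))))))))
    _ = x * (t * (t * (x * (x * (t * k))))) := (congrArg (x * ·) (congrArg (t * ·) (r5_1 ht hx hn (t * (x * (x * (t * k)))))))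
    _ = x * (x * (x * (t * k))) := (congrArg (x * ·) (r5_0 ht hx hn (x * (x * (t * k)))))
    _ = t * k := (r5_1 ht hx hn (t * k))

theorem comm5 (ht : t * t = 1) (hx : x * x * x = 1) (hn : (t * x) ^ 5 = 1) :
    ∀ k : G, t * (x * (t * (x * (x * (t * (x * (t * (x * (x * (t * (x * (t * (x * (x * (t * (x * (t * (x * (x * (t * (x * (t * (x * (x * k)))))))))))))))))))))))) = k := by
  intro k
  calc t * (x * (t * (x * (x * (t * (x * (t * (x * (x * (t * (x * (t * (x * (x * (t * (x * (t * (x * (x * (t * (x * (t * (x * (x * k)))))))))))))))))))))))) = t * (t * (x * (t * (x * (x * (t * (x * (t * (x * (x * (t * (x * (x * (x * (t * (x * (t * (x * (x * (t * (x * (t * (x * (x * k)))))))))))))))))))))))) := (congrArg (t * ·) (r5_15 ht hx hn (x * (x * (t * (x * (t * (x * (x * (t * (x * (t * (x * (x * k))))))))))))))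
    _ = x * (t * (x * (x * (t * (x * (t * (x * (x * (t * (x * (x * (x * (t * (x * (t * (x * (x * (t * (x * (t * (x * (x * k)))))))))))))))))))))) := (r5_0 ht hx hn (x * (t * (x * (x * (t * (x * (t * (x * (x * (t * (x * (x * (x * (t * (x * (t * (x * (x * (t * (x * (t * (x * (x * k))))))))))))))))))))))))
    _ = x * (t * (t * (x * (t * (x * (t * (x * (x * (t * (x * (t * (x * (t * (x * (t * (x * (x * (t * (x * (t * (x * (x * k)))))))))))))))))))))) := (congrArg (x * ·) (congrArg (t * ·) (r5_8 ht hx hn (x * (t * (x * (t * (x * (x * (t * (x * (t * (x * (x * k))))))))))))))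
    _ = x * (x * (t * (x * (t * (x * (x * (t * (x * (t * (x * (t * (x * (t * (x * (x * (t * (x * (t * (x * (x * k)))))))))))))))))))) := (congrArg (x * ·) (r5_0 ht hx hn (x * (t * (x * (t * (x * (x * (t * (x * (t * (x * (t * (x * (t * (x * (x * (t * (x * (t * (x * (x * k))))))))))))))))))))))
    _ = x * (t * (x * (x * (t * (x * (t * (x * (x * (t * (t * (x * (t * (x * (x * (t * (x * (t * (x * (x * k))))))))))))))))))) := (congrArg (x * ·) (r5_14 ht hx hn (t * (x * (t * (x * (x * (t * (x * (t * (x * (x * k))))))))))))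
    _ = x * (t * (x * (x * (t * (x * (t * (x * (x * (x * (t * (x * (x * (t * (x * (t * (x * (x * k))))))))))))))))) := (congrArg (x * ·) (congrArg (t * ·) (congrArg (x * ·) (congrArg (x * ·) (congrArg (t * ·) (congrArg (x * ·) (congrArg (t * ·) (congrArg (x * ·) (congrArg (x * ·) (r5_0 ht hx hn (x * (t * (x * (x * (t * (x * (t * (x * (x * k)))))))))))))))))))
    _ = x * (t * (x * (x * (t * (x * (t * (t * (x * (x * (t * (x * (t * (x * (x * k)))))))))))))) := (congrArg (x * ·) (congrArg (t * ·) (congrArg (x * ·) (congrArg (x * ·) (congrArg (t * ·) (congrArg (x * ·) (congrArg (t * ·) (r5_1 ht hx hn (t * (x * (x * (t * (x * (t * (x * (x * k))))))))))))))))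
    _ = x * (t * (x * (x * (t * (x * (x * (x * (t * (x * (t * (x * (x * k)))))))))))) := (congrArg (x * ·) (congrArg (t * ·) (congrArg (x * ·) (congrArg (x * ·) (congrArg (t * ·) (congrArg (x * ·) (r5_0 ht hx hn (x * (x * (t * (x * (t * (x * (x * k))))))))))))))
    _ = x * (t * (x * (x * (t * (t * (x * (t * (x * (x * k))))))))) := (congrArg (x * ·) (congrArg (t * ·) (congrArg (x * ·) (congrArg (x * ·) (congrArg (t * ·) (r5_1 ht hx hn (t * (x * (t * (x * (x * k)))))))))))
    _ = x * (t * (x * (x * (x * (t * (x * (x * k))))))) := (congrArg (x * ·) (congrArg (t * ·) (congrArg (x * ·) (congrArg (x * ·) (r5_0 ht hx hn (x * (t * (x * (x * k)))))))))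
    _ = x * (t * (t * (x * (x * k)))) := (congrArg (x * ·) (congrArg (t * ·) (r5_1 ht hx hn (t * (x * (x * k))))))
    _ = x * (x * (x * k)) := (congrArg (x * ·) (r5_0 ht hx hn (x * (x * k))))
    _ = k := (r5_1 ht hx hn (k))

end Cfsg.Agent.RecogFive.Word
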